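import Groth.Agent.MultConjLib.Integral
import Groth.Agent.TransLib.MultEssFree
import Groth.Prelude.Def_TwC

/-!
# Groups of multiplicative type have invariant integrals over affine opens
-/

universe u

open CategoryTheory CategoryTheory.Limits MonoidalCategory CartesianMonoidalCategory MonObj GrpObj AlgebraicGeometry
open TensorProduct

namespace Groth.Agent.MultConjLib

open GrpSchLib.DiagActionRigid (sp spm spm_comp spm_id spm_left)

set_option backward.isDefEq.respectTransparency false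

variable {S : Scheme.{u}}

/-- Fpqc locally diagonalisable. -/
abbrev IsLocDS (H : Over S) [GrpObj H] : Prop :=
  TwC.Locally S TwC.Topology.fpqc fun S' f =>
    ∃ (M : Type) (_ : AddCommGroup M), Nonempty (Grp.mk (Red.bc f H) ≅ Grp.mk (Red.DS S' M))

theorem isLocDS_of_multTypeFT {H : Over S} [GrpObj H] (hH : SGA3x.IsMultTypeFT H) : IsLocDS H := by
  obtain ⟨S', f, h₁, h₂, h₃, h₄⟩ := hH
  refine ⟨S', f, h₁, h₂, h₃, fun s' => ?_⟩
  obtain ⟨U, hU, M, i, -, e⟩ := h₄ s'
  exact ⟨U, hU, M, i, e⟩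

theorem isAffineHom_of_locDS {H : Over S} [GrpObj H] (hH : IsLocDS H) : IsAffineHom H.hom := by
  obtain ⟨S', f, hflat, hsurj, hqc, hloc⟩ := hH
  choose O hO M _ hiso using hloc
  haveI := EtFound.fpqc_isAffineHom.{u}
  have hcov : FpqcDescLib.Covers f :=
    FpqcDescLib.covers_of_hcov f ⟨S', f, 𝟙 _, Category.id_comp _, hsurj, hflat, hqc⟩
  refine hcov.descends @IsAffineHom H.hom (pullback.snd H.hom f) (pullback.fst H.hom f)
    (IsPullback.of_hasPullback H.hom f).flip ?_
  refine IsZariskiLocalAtTarget.of_forall_exists_morphismRestrict fun s' => ?_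
  obtain ⟨B, hB, hsB, hBO⟩ := exists_isAffineOpen_mem_and_subset (hO s')
  refine ⟨B, hsB, ?_⟩
  haveI : IsAffine (B : Scheme.{u}) := hB
  let t := S'.homOfLE hBO
  obtain ⟨i⟩ := hiso s'
  let j : Red.bc ((O s').ι ≫ f) H ≅ Red.DS (O s' : Scheme.{u}) (M s') :=
    ⟨i.hom.hom.hom, i.inv.hom.hom, congrArg (fun h => h.hom.hom) i.hom_inv_id,
      congrArg (fun h => h.hom.hom) i.inv_hom_id⟩
  have h0 : Limits.IsTerminal.from specULiftZIsTerminal (B : Scheme.{u}) =
      t ≫ Limits.IsTerminal.from specULiftZIsTerminal _ := specULiftZIsTerminal.hom_ext _ _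
  let k : Red.bc (t ≫ (O s').ι ≫ f) H ≅ Red.DS (B : Scheme.{u}) (M s') :=
    (Over.pullbackComp t ((O s').ι ≫ f)).app H ≪≫ (Over.pullback t).mapIso j ≪≫
      ((Over.pullbackComp t (Limits.IsTerminal.from specULiftZIsTerminal (O s' : Scheme.{u}))).app
        (Red.diag (ULift.{u} ℤ) (M s'))).symm ≪≫
      (eqToIso (congrArg (fun z => Red.bc z (Red.diag (ULift.{u} ℤ) (M s'))) h0)).symm
  let e : pullback H.hom (t ≫ (O s').ι ≫ f) ≅ (Red.DS (B : Scheme.{u}) (M s')).left := (Over.forget _).mapIso k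
  have he : e.hom ≫ (Red.DS (B : Scheme.{u}) (M s')).hom = pullback.snd H.hom (t ≫ (O s').ι ≫ f) := Over.w k.hom
  haveI := (TransLib.exists_chart_DS (T := (B : Scheme.{u})) (M s')).1
  have ht : t ≫ (O s').ι ≫ f = B.ι ≫ f := Scheme.homOfLE_ι_assoc _ _ _
  have H1 : IsPullback ((pullback.snd H.hom f ⁻¹ᵁ B).ι ≫ pullback.fst H.hom f) (pullback.snd H.hom f ∣_ B) H.hom
      (B.ι ≫ f) :=
    (isPullback_morphismRestrict _ B).flip.paste_horiz (IsPullback.of_hasPullback H.hom f)
  rw [← ht] at H1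
  rw [← H1.isoPullback_hom_snd, ← he]
  infer_instance

/-- A finite flat family of algebras over which the group splits, covering the base. -/
theorem exists_split_cover {H : Over S} [GrpObj H] (hH : IsLocDS H) {R : Type u} [CommRing R]
    (β : Spec (CommRingCat.of R) ⟶ S) :
    ∃ (κ : Type u) (_ : Finite κ) (Rk : κ → Type u) (_ : ∀ k, CommRing (Rk k)) (_ : ∀ k, Algebra R (Rk k))
      (_ : ∀ k, Module.Flat R (Rk k)),
      (∀ r : PrimeSpectrum R, ∃ k, r ∈ Set.range (PrimeSpectrum.comap (algebraMap R (Rk k)))) ∧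
      ∀ k, ∃ (U : Scheme.{u}) (gU : U ⟶ S) (M : Type) (_ : AddCommGroup M)
        (_ : Grp.mk (Red.bc gU H) ≅ Grp.mk (Red.DS U M)) (jU : Spec (CommRingCat.of (Rk k)) ⟶ U),
        jU ≫ gU = Spec.map (CommRingCat.ofHom (algebraMap R (Rk k))) ≫ β := by
  classical
  obtain ⟨S', f, hflat, hsurj, hqc, hloc⟩ := hH
  choose O hO M _ hiso using hloc
  -- a finite family of flat affine charts covering the base
  have hchart : ∀ p : Spec (CommRingCat.of R), ∃ (U : S.Opens) (D : (Spec (CommRingCat.of R)).Opens),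
      IsAffineOpen U ∧ IsAffineOpen D ∧ p ∈ D ∧ D ≤ β ⁻¹ᵁ U := fun p => by
    obtain ⟨U, hU, hpU, -⟩ := exists_isAffineOpen_mem_and_subset (show β p ∈ (⊤ : S.Opens) from trivial)
    obtain ⟨D, hD, hpD, hDU⟩ := exists_isAffineOpen_mem_and_subset (show p ∈ β ⁻¹ᵁ U from hpU)
    exact ⟨U, D, hU, hD, hpD, hDU⟩
  choose U D hU hD hpD hDU using hchart
  obtain ⟨P, hP⟩ := isCompact_univ.elim_finite_subcover (fun p => (D p : Set (Spec (CommRingCat.of R))))
    (fun p => (D p).2) fun p _ => Set.mem_iUnion.mpr ⟨p, hpD p⟩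
  choose W hWc hWU using fun p => hqc (U p) (hU p)
  have hex : ∀ (p : Spec (CommRingCat.of R)) (w : W p), ∃ (B : S'.Opens), IsAffineOpen B ∧ (w : S') ∈ B ∧
      B ≤ W p ∧ B ≤ O w := fun p w => by
    obtain ⟨B, hB, hwB, hBle⟩ := exists_isAffineOpen_mem_and_subset
      (show (w : S') ∈ W p ⊓ O w from ⟨w.2, hO w⟩)
    exact ⟨B, hB, hwB, fun z hz => (hBle hz).1, fun z hz => (hBle hz).2⟩
  choose B hBa hwB hBW hBO using hex
  choose t ht using fun p => (hWc p).elim_finite_subcover (fun w : W p => (B p w : Set S')) (fun w => (B p w).2)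
    fun w hw => Set.mem_iUnion.mpr ⟨⟨w, hw⟩, hwB p _⟩
  have hle : ∀ (p : Spec (CommRingCat.of R)) (w : W p), B p w ≤ f ⁻¹ᵁ U p := fun p w z hz => by
    show f.base z ∈ (U p : Set S)
    rw [← hWU p]
    exact Set.mem_image_of_mem _ (hBW p w hz)
  let κ := Σ p : P, t p.1
  let fB : ∀ k : κ, (B k.1.1 k.2.1 : Scheme.{u}) ⟶ (U k.1.1 : Scheme.{u}) := fun k => f.resLE _ _ (hle _ k.2.1)
  let βD : ∀ k : κ, (D k.1.1 : Scheme.{u}) ⟶ (U k.1.1 : Scheme.{u}) := fun k => β.resLE _ _ (hDU k.1.1)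
  let T : κ → Scheme.{u} := fun k => pullback (fB k) (βD k)
  haveI : ∀ k, IsAffine (T k) := fun k => by
    haveI : IsAffine (B k.1.1 k.2.1 : Scheme.{u}) := hBa _ _
    haveI : IsAffine (U k.1.1 : Scheme.{u}) := hU _
    haveI : IsAffine (D k.1.1 : Scheme.{u}) := hD _
    show IsAffine (pullback _ _)
    infer_instance
  let q : ∀ k, T k ⟶ Spec (CommRingCat.of R) := fun k => pullback.snd (fB k) (βD k) ≫ (D k.1.1).ι
  have hqflat : ∀ k, Flat (q k) := fun k => by
    haveI := hflat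
    show Flat (_ ≫ _)
    infer_instance
  have hpre := fun k => Spec.map_surjective ((T k).isoSpec.inv ≫ q k)
  choose a ha using hpre
  letI : ∀ k, Algebra R Γ(T k, ⊤) := fun k => (a k).hom.toAlgebra
  haveI : ∀ k, Module.Flat R Γ(T k, ⊤) := fun k => by
    haveI := hqflat k
    exact (HasRingHomProperty.Spec_iff (P := @Flat)).mp (show Flat (Spec.map (a k)) by rw [ha]; infer_instance)
  refine ⟨κ, inferInstance, fun k => Γ(T k, ⊤), inferInstance, inferInstance, inferInstance, fun r => ?_, fun k => ?_⟩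
  · obtain ⟨p, hp, hrD⟩ := Set.mem_iUnion₂.mp (hP (Set.mem_univ r))
    obtain ⟨y, hy, hyz⟩ : β r ∈ f.base '' (W p : Set S') := (hWU p).symm ▸ hDU p hrD
    obtain ⟨w, hw, hyw⟩ := Set.mem_iUnion₂.mp (ht p hy)
    let k : κ := ⟨⟨p, hp⟩, ⟨w, hw⟩⟩
    have he : fB k ⟨y, hyw⟩ = βD k ⟨r, hrD⟩ := by
      refine (U p).ι.isOpenEmbedding.injective ?_
      rw [← Scheme.Hom.comp_apply, ← Scheme.Hom.comp_apply, Scheme.Hom.resLE_comp_ι, Scheme.Hom.resLE_comp_ι]
      exact hyz
    obtain ⟨z, -, hz⟩ := Scheme.Pullback.exists_preimage_pullback _ _ he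
    refine ⟨k, (T k).isoSpec.hom z, ?_⟩
    show Spec.map (a k) ((T k).isoSpec.hom z) = r
    rw [ha, ← Scheme.Hom.comp_apply, Iso.hom_inv_id_assoc, Scheme.Hom.comp_apply, hz]
    rfl
  · obtain ⟨i⟩ := hiso k.2.1.1
    refine ⟨_, _, _, _, i, (T k).isoSpec.inv ≫ pullback.fst (fB k) (βD k) ≫ S'.homOfLE (hBO _ _), ?_⟩
    show _ = Spec.map (a k) ≫ β
    rw [ha, Category.assoc, Category.assoc, Category.assoc]
    congr 1
    rw [Scheme.homOfLE_ι_assoc, ← Scheme.Hom.resLE_comp_ι f (hle k.1.1 k.2.1), ← Category.assoc]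
    show (pullback.fst (fB k) (βD k) ≫ fB k) ≫ _ = _
    rw [pullback.condition, Category.assoc, Category.assoc, Scheme.Hom.resLE_comp_ι]

/-- Over any affine scheme mapping to the base, the group has a universal point and an integral. -/
theorem exists_univ_int {H : Over S} [GrpObj H] (hH : IsLocDS H) {R : Type u} [CommRing R]
    (β : Spec (CommRingCat.of R) ⟶ S) :
    ∃ (A : Type u) (_ : CommRing A) (_ : Algebra R A) (x : sp β A ⟶ H),
      IsUniv x ∧ IsPullback (Spec.map (CommRingCat.ofHom (algebraMap R A))) x.left β H.hom ∧ (∀ [IsIso β], IsIso x) ∧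
        ∃ j : A →ₗ[R] R, IsInt x j := by
  classical
  haveI := isAffineHom_of_locDS hH
  haveI : IsAffine (pullback H.hom β) := isAffine_of_isAffineHom (pullback.snd H.hom β)
  obtain ⟨φ, hφ⟩ := Spec.map_surjective ((pullback H.hom β).isoSpec.inv ≫ pullback.snd H.hom β)
  letI := φ.hom.toAlgebra
  have sq : IsPullback (Spec.map φ) ((pullback H.hom β).isoSpec.inv ≫ pullback.fst H.hom β) β H.hom :=
    ((IsPullback.of_hasPullback H.hom β).of_iso (pullback H.hom β).isoSpec (Iso.refl _) (Iso.refl _) (Iso.refl _)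
      (by simp) (by simp [hφ]) (by simp) (by simp)).flip
  let x : sp β Γ(pullback H.hom β, ⊤) ⟶ H := Over.homMk _ sq.w.symm
  have hx : IsUniv x := by
    intro T _ _ q
    let g := sq.lift (Spec.map (CommRingCat.ofHom (algebraMap R T))) q.left (Over.w q).symm
    obtain ⟨ψ₀, hψ⟩ := Spec.map_surjective g
    have hcomm : φ ≫ ψ₀ = CommRingCat.ofHom (algebraMap R T) :=
      Spec.map_injective (by rw [Spec.map_comp, hψ]; exact sq.lift_fst _ _ _)
    let ψ : Γ(pullback H.hom β, ⊤) →ₐ[R] T :=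
      { ψ₀.hom with commutes' := fun r => RingHom.congr_fun (congrArg CommRingCat.Hom.hom hcomm) r }
    refine ⟨ψ, Over.OverMorphism.ext ?_, fun ψ' hψ' => ?_⟩
    · exact (congrArg (· ≫ x.left) hψ).trans (sq.lift_snd _ _ _)
    · have h : Spec.map (CommRingCat.ofHom ψ'.toRingHom) = g := sq.hom_ext (by
          rw [sq.lift_fst]
          show _ ≫ Spec.map φ = _
          rw [← Spec.map_comp]
          exact congrArg Spec.map (CommRingCat.hom_ext ψ'.comp_algebraMap))
        (by rw [sq.lift_snd]; exact congrArg CommaMorphism.left hψ')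
      exact AlgHom.coe_ringHom_injective (congrArg CommRingCat.Hom.hom (Spec.map_injective (h.trans hψ.symm)))
  refine ⟨_, inferInstance, inferInstance, x, hx, sq, fun {_} => ?_, ?_⟩
  · haveI : IsIso ((Over.forget S).map x) := sq.isIso_snd_of_isIso
    exact isIso_of_reflects_iso _ (Over.forget S)
  obtain ⟨κ, _, Rk, _, _, _, hcov, hsp⟩ := exists_split_cover hH β
  have hsplit : ∀ k : κ, ∃ j : Γ(pullback H.hom β, ⊤) →ₗ[R] Rk k, IsInt x j := fun k => by
    obtain ⟨U, gU, M, _, i, jU, hjU⟩ := hsp k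
    exact exists_isInt_split hx gU i jU hjU
  choose j hj using hsplit
  have _ := Fintype.ofFinite κ
  haveI : Module.FaithfullyFlat R (∀ k, Rk k) := AdeqFound.faithfullyFlat_pi (A' := Rk) hcov
  exact IsInt.descend hx (IsInt.pi hj)

end Groth.Agent.MultConjLib
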