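import Groth.Agent.GrpSchLib.HomUnitLocus
import Groth.Agent.GrpSchLib.MultTypeBC
import Groth.Agent.GrpSchLib.RankOneNonComm
import Groth.Agent.MultConjLib.Comm
import Groth.Agent.HomSchLib.MultFlat
import Groth.Agent.MultConjLib.Exists

/-!
# Rigidity of groups of multiplicative type: the locus where a family of endomorphisms is the identity
-/

universe u

set_option backward.isDefEq.respectTransparency false

open CategoryTheory CategoryTheory.Limits MonoidalCategory CartesianMonoidalCategory MonObj AlgebraicGeometry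

namespace Groth.Agent.MultConjLib

open GrpSchLib

variable {S : Scheme.{u}} {Y H : Over S} [GrpObj H]

/-- The family `act` is the identity at the point `x`. -/
def TrivAt (act : Y ⊗ H ⟶ H) {X : Over S} (x : X ⟶ Y) : Prop :=
  ∀ (X' : Over S) (x' : X' ⟶ X) (h : X' ⟶ H), lift (x' ≫ x) h ≫ act = h

theorem exists_clopen_trivAt (hH : SGA3x.IsMultTypeFT H) (act : Y ⊗ H ⟶ H)
    (hhom : ∀ (T : Over S) (y : T ⟶ Y) (h h' : T ⟶ H),
      lift y (h * h') ≫ act = (lift y h ≫ act) * (lift y h' ≫ act)) :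
    ∃ U : Y.left.Opens, IsClosed (U : Set Y.left) ∧
      (∀ (X : Over S) (x : X ⟶ Y), (∀ z, x.left z ∈ U) → TrivAt act x) ∧
      ∀ (X : Over S) (x : X ⟶ Y) (z : X.left), TrivAt act x → x.left z ∈ U := by
  let g : Y.left ⟶ S := Y.hom
  let T : Over Y.left := Red.bc g H
  let pt : ∀ W : Over Y.left, (Over.map g).obj W ⟶ Y := fun W => Over.homMk W.hom rfl
  obtain ⟨u, hu⟩ := (DSPtsLib.theta_bijective (g := g) (H := H) (Y := T)).surjective
    ((lift (pt T) (DSPtsLib.theta g (𝟙 T)) ≫ act) * (DSPtsLib.theta g (𝟙 T))⁻¹)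
  have hua : ∀ (W : Over Y.left) (a : W ⟶ T), DSPtsLib.theta g (a ≫ u) =
      (lift (pt W) (DSPtsLib.theta g a) ≫ act) * (DSPtsLib.theta g a)⁻¹ := fun W a => by
    have hθ : (Over.map g).map a ≫ DSPtsLib.theta g (𝟙 T) = DSPtsLib.theta g a := by
      rw [← DSPtsLib.theta_comp, Category.comp_id]
    have hp : (Over.map g).map a ≫ pt T = pt W := Over.OverMorphism.ext (Over.w a)
    rw [DSPtsLib.theta_comp, hu, MonObj.comp_mul, GrpObj.comp_inv, hθ, ← Category.assoc, comp_lift, hp, hθ]
  haveI : IsMonHom u := RankOne.isMonHom_of_comp u fun W a b => by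
    apply (DSPtsLib.theta_bijective (g := g) (H := H)).injective
    letI : CommGroup ((Over.map g).obj W ⟶ H) := { (inferInstance : Group ((Over.map g).obj W ⟶ H)) with
      mul_comm := fun p q => points_comm (isLocDS_of_multTypeFT hH) p q }
    rw [DSPtsLib.theta_mul, hua, hua, hua, DSPtsLib.theta_mul, hhom, _root_.mul_inv,
      _root_.mul_mul_mul_comm]
  have hcrit : ∀ (W : Over Y.left) (a : W ⟶ T),
      a ≫ u = 1 ↔ lift (pt W) (DSPtsLib.theta g a) ≫ act = DSPtsLib.theta g a := fun W a => by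
    rw [← (DSPtsLib.theta_bijective (g := g) (H := H)).injective.eq_iff, hua, HomUnitLocus.theta_one,
      mul_inv_eq_one]
  have hTm := MultTypeBC.isMultTypeFT_bc g hH
  haveI : IsAffineHom T.hom := isAffineHom_of_locDS (isLocDS_of_multTypeFT hTm)
  haveI := HomSchLib.lfp_of_multTypeFT hTm
  haveI : LocallyOfFiniteType T.hom := inferInstance
  obtain ⟨U, hUc, hUs, hU1⟩ := HomUnitLocus.main (u := u) hTm (Or.inr inferInstance)
  refine ⟨U, hUc, fun X x hx X' x' h => ?_, fun X x z ht => ?_⟩
  · let W : Over Y.left := Over.mk (x' ≫ x).left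
    let e : (Over.map g).obj W ≅ X' := Over.isoMk (Iso.refl _) (by
      show 𝟙 X'.left ≫ X'.hom = (x' ≫ x).left ≫ g
      rw [Category.id_comp]; exact (Over.w (x' ≫ x)).symm)
    obtain ⟨a, ha⟩ := (DSPtsLib.theta_bijective (g := g) (H := H) (Y := W)).surjective (e.hom ≫ h)
    have hr : Set.range W.hom ⊆ Set.range U.ι := by
      rw [Scheme.Opens.range_ι]
      rintro _ ⟨w, rfl⟩
      exact hx (x'.left w)
    have h1 : a ≫ u = 1 := hU1 W (Over.homMk (IsOpenImmersion.lift U.ι W.hom hr) (IsOpenImmersion.lift_fac _ _ _)) a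
    rw [hcrit, ha, show pt W = e.hom ≫ x' ≫ x from Over.OverMorphism.ext (Category.id_comp _).symm,
      ← comp_lift, Category.assoc, cancel_epi] at h1
    exact h1
  · let b : Spec (X.left.residueField z) ⟶ Y.left := X.left.fromSpecResidueField z ≫ x.left
    have hb : b (IsLocalRing.closedPoint (X.left.residueField z)) = x.left z := by
      show (X.left.fromSpecResidueField z ≫ x.left) _ = _
      rw [Scheme.Hom.comp_apply, Scheme.fromSpecResidueField_apply]
    have htriv : HomUnitLocus.Triv u b := fun W q a => by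
      rw [hcrit]
      let x' : (Over.map g).obj W ⟶ X := Over.homMk (q.left ≫ X.left.fromSpecResidueField z) (by
        show _ ≫ X.hom = W.hom ≫ g
        rw [← Over.w q, Category.assoc, Category.assoc]
        show _ = q.left ≫ b ≫ g
        rw [← Over.w x, Category.assoc])
      have hx' : x' ≫ x = pt W := Over.OverMorphism.ext (by
        show (q.left ≫ X.left.fromSpecResidueField z) ≫ x.left = W.hom
        rw [Category.assoc]; exact Over.w q)
      rw [← hx']
      exact ht _ x' _
    rw [← hb]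
    exact (hUs _).mpr ((HomUnitLocus.triv_iff_of_field b).mp htriv)

/-- A connected family which is the identity somewhere is the identity. -/
theorem lift_act_eq (hH : SGA3x.IsMultTypeFT H) (act : Y ⊗ H ⟶ H)
    (hhom : ∀ (T : Over S) (y : T ⟶ Y) (h h' : T ⟶ H),
      lift y (h * h') ≫ act = (lift y h ≫ act) * (lift y h' ≫ act))
    [PreconnectedSpace Y.left] {X₀ : Over S} (x₀ : X₀ ⟶ Y) (z₀ : X₀.left) (h₀ : TrivAt act x₀)
    {X : Over S} (x : X ⟶ Y) (h : X ⟶ H) : lift x h ≫ act = h := by
  obtain ⟨U, hUc, hU1, hU2⟩ := exists_clopen_trivAt hH act hhom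
  have huniv : (U : Set Y.left) = Set.univ :=
    IsClopen.eq_univ ⟨hUc, U.isOpen⟩ ⟨_, hU2 X₀ x₀ z₀ h₀⟩
  simpa using hU1 X x (fun w => by rw [← SetLike.mem_coe, huniv]; trivial) X (𝟙 X) h

end Groth.Agent.MultConjLib
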