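import Groth.Agent.HomSchLib.MultFlat
import Groth.Agent.GrpSchLib.Neutral
import Groth.Prelude.Def_Red
import Mathlib.RingTheory.TensorProduct.MonoidAlgebra

/-! Tori are smooth with connected fibres. -/

universe u

open CategoryTheory CategoryTheory.Limits AlgebraicGeometry
open TensorProduct

set_option backward.isDefEq.respectTransparency false

namespace Groth.Agent.MultConjLib

/-- Group algebras of free abelian groups of finite rank are smooth. -/
theorem smooth_monoidAlgebra_free (R : Type u) [CommRing R] [IsNoetherianRing R] (r : ℕ) :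
    Algebra.Smooth R (MonoidAlgebra R (Multiplicative (Fin r → ℤ))) := by
  refine ⟨Algebra.FormallySmooth.of_comp_surjective fun B _ _ I hI φ => ?_, ?_⟩
  · let χ : Multiplicative (Fin r → ℤ) →* B ⧸ I := (MonoidAlgebra.lift R (B ⧸ I) _).symm φ
    let e : Fin r → Multiplicative (Fin r → ℤ) := fun i => .ofAdd (Pi.single i 1)
    have hu : ∀ i, ∃ u : Bˣ, Ideal.Quotient.mk I u = χ (e i) := fun i => by
      obtain ⟨b, hb⟩ := Ideal.Quotient.mk_surjective (χ (e i))
      obtain ⟨c, hc⟩ := Ideal.Quotient.mk_surjective (χ (e i)⁻¹)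
      have hbc : Ideal.Quotient.mk I (b * c - 1) = 0 := by
        rw [map_sub, map_mul, hb, hc, ← map_mul, mul_inv_cancel, map_one, map_one, sub_self]
      have hn : IsNilpotent (b * c - 1) := ⟨2, by
        have h2 := Ideal.pow_mem_pow (Ideal.Quotient.eq_zero_iff_mem.mp hbc) 2
        rw [hI] at h2
        exact h2⟩
      have hbu : IsUnit b := by
        have h1 : IsUnit (b * c) := by simpa using hn.isUnit_add_one
        exact isUnit_of_mul_isUnit_left h1
      exact ⟨hbu.unit, hb⟩
    choose u hu using hu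
    let g : Multiplicative (Fin r → ℤ) →* Bˣ :=
      { toFun := fun v => ∏ i, u i ^ (v.toAdd i)
        map_one' := by simp
        map_mul' := fun v w => by simp [zpow_add, Finset.prod_mul_distrib] }
    refine ⟨MonoidAlgebra.lift R B _ ((Units.coeHom B).comp g), ?_⟩
    refine (MonoidAlgebra.lift R (B ⧸ I) (Multiplicative (Fin r → ℤ))).symm.injective ?_
    suffices h : (Units.map ((Ideal.Quotient.mk I : B →+* B ⧸ I) : B →* B ⧸ I)).comp g = χ.toHomUnits by
      refine MonoidHom.ext fun v => ?_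
      simpa [χ] using congrArg (fun z : (B ⧸ I)ˣ => (z : B ⧸ I)) (DFunLike.congr_fun h v)
    refine MonoidHom.toAdditiveRight.injective (AddMonoidHom.functions_ext' _ _ _ fun i => AddMonoidHom.ext_int ?_)
    apply Additive.toMul.injective
    apply Units.ext
    show Ideal.Quotient.mk I ((∏ j, u j ^ ((Pi.single i (1 : ℤ) : Fin r → ℤ) j) : Bˣ) : B) = χ (e i)
    rw [Fintype.prod_eq_single i (fun j hj => by rw [Pi.single_eq_of_ne hj, zpow_zero]), Pi.single_eq_same,
      zpow_one, hu]
  · haveI : Monoid.FG (Multiplicative (Fin r → ℤ)) :=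
      @Monoid.fg_of_addMonoid_fg (Fin r → ℤ) _ (AddGroup.fg_iff_addMonoid_fg.mp inferInstance)
    haveI : Monoid.FG (Multiplicative (Fin r → ℤ)) := ‹_›
    exact Algebra.FinitePresentation.of_finiteType.mp inferInstance

theorem smooth_DS_free (T : Scheme.{u}) (r : ℕ) : Smooth (Red.DS T (Fin r → ℤ)).hom := by
  haveI : IsNoetherianRing (ULift.{u} ℤ) :=
    isNoetherianRing_of_ringEquiv ℤ (ULift.ringEquiv : ULift.{u} ℤ ≃+* ℤ).symm
  haveI : Smooth (Red.diag (ULift.{u} ℤ) (Fin r → ℤ)).hom :=
    (HasRingHomProperty.Spec_iff (P := @Smooth)).mpr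
      (RingHom.smooth_algebraMap.mpr (smooth_monoidAlgebra_free _ r))
  exact inferInstanceAs (Smooth (pullback.snd (Red.diag (ULift.{u} ℤ) (Fin r → ℤ)).hom _))

/-- Tori are smooth. -/
theorem smooth_of_isTorus {S : Scheme.{u}} {T : Over S} [GrpObj T] (hT : Red.IsTorus T) : Smooth T.hom := by
  obtain ⟨S', f, hflat, hsurj, hqc, hloc⟩ := hT
  choose O hO r hiso using hloc
  have hcov : FpqcDescLib.Covers f :=
    FpqcDescLib.covers_of_hcov f ⟨S', f, 𝟙 _, Category.id_comp _, hsurj, hflat, hqc⟩
  refine hcov.descends @Smooth T.hom (pullback.snd T.hom f) (pullback.fst T.hom f)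
    (IsPullback.of_hasPullback T.hom f).flip ?_
  refine IsZariskiLocalAtTarget.of_forall_exists_morphismRestrict fun s' => ⟨O s', hO s', ?_⟩
  obtain ⟨i⟩ := hiso s'
  have H1 : IsPullback ((pullback.snd T.hom f ⁻¹ᵁ O s').ι ≫ pullback.fst T.hom f)
      (pullback.snd T.hom f ∣_ O s') T.hom ((O s').ι ≫ f) :=
    (isPullback_morphismRestrict _ _).flip.paste_horiz (IsPullback.of_hasPullback T.hom f)
  rw [← H1.isoPullback_hom_snd, MorphismProperty.cancel_left_of_respectsIso @Smooth]
  haveI : IsIso i.hom.hom.hom.left :=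
    ⟨i.inv.hom.hom.left, congrArg (fun h => h.hom.hom.left) i.hom_inv_id,
      congrArg (fun h => h.hom.hom.left) i.inv_hom_id⟩
  have hw : i.hom.hom.hom.left ≫ (Red.DS (O s' : Scheme.{u}) (Fin (r s') → ℤ)).hom =
      pullback.snd T.hom ((O s').ι ≫ f) := Over.w i.hom.hom.hom
  rw [← hw, MorphismProperty.cancel_left_of_respectsIso @Smooth]
  exact smooth_DS_free _ _

-- a split torus over a field, pulled back from any base, is irreducible
attribute [-instance] ULift.module ULift.module' in
theorem irreducible_DS_free {U : Scheme.{u}} (r : ℕ) {K : Type u} [Field K] (q : Spec (CommRingCat.of K) ⟶ U) :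
    IrreducibleSpace ↥(Red.bc q (Red.DS U (Fin r → ℤ))).left := by
  let R := ULift.{u} ℤ
  let : Algebra R K := ((algebraMap ℤ K).comp (ULift.ringEquiv.toRingHom)).toAlgebra
  let G := Multiplicative (Fin r → ℤ)
  let A := MonoidAlgebra R G
  let t := IsTerminal.from specULiftZIsTerminal U
  have ht : q ≫ t = Spec.map (CommRingCat.ofHom (algebraMap R K)) := specULiftZIsTerminal.hom_ext _ _
  let e : (Red.bc q (Red.DS U (Fin r → ℤ))).left ≅ Spec (CommRingCat.of (A ⊗[R] K)) :=
    (pullbackLeftPullbackSndIso (Red.diag R (Fin r → ℤ)).hom t q ≪≫ pullback.congrHom rfl ht) ≪≫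
      pullbackSpecIso R A K
  let f : A ⊗[R] K ≃+* MonoidAlgebra K G :=
    (Algebra.TensorProduct.comm R A K).toRingEquiv.trans
      (MonoidAlgebra.scalarTensorEquiv R K (M := G)).toRingEquiv
  haveI : UniqueSums ℤ := TwoUniqueSums.toUniqueSums ℤ
  haveI : IsDomain (MonoidAlgebra K G) := NoZeroDivisors.to_isDomain _
  haveI : IsDomain (A ⊗[R] K) := MulEquiv.isDomain (MonoidAlgebra K G) f.toMulEquiv
  exact e.hom.homeomorph.irreducibleSpace_iff.mpr inferInstance

/-- Tori have connected fibres. -/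
theorem neutralSet_eq_univ_of_isTorus {S : Scheme.{u}} {T : Over S} [GrpObj T] (hT : Red.IsTorus T) :
    SGA3x.neutralSet T = Set.univ := by
  obtain ⟨S', f, hflat, hsurj, hqc, hloc⟩ := hT
  refine GrpSchLib.Neutral.neutralSet_eq_univ T fun s => ?_
  obtain ⟨s', hs'⟩ := hsurj.surj s
  obtain ⟨U, hU, r, ⟨i⟩⟩ := hloc s'
  let p : Spec (CommRingCat.of (U.toScheme.residueField ⟨s', hU⟩)) ⟶ U := U.toScheme.fromSpecResidueField ⟨s', hU⟩
  let h : (U : Scheme.{u}) ⟶ S := U.ι ≫ f
  haveI := irreducible_DS_free r p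
  let e : (Red.bc p (Red.bc h T)).left ≅ (Red.bc p (Red.DS (U : Scheme.{u}) (Fin r → ℤ))).left :=
    (Over.forget _).mapIso ((Over.pullback p).mapIso ((Grp.forget _).mapIso i))
  let e' : pullback T.hom (p ≫ h) ≅ (Red.bc p (Red.bc h T)).left := (pullbackLeftPullbackSndIso T.hom h p).symm
  haveI : IrreducibleSpace ↥(pullback T.hom (p ≫ h)) :=
    (e' ≪≫ e).hom.homeomorph.irreducibleSpace_iff.mpr inferInstance
  have hr : Set.range (p ≫ h) = {s} := by
    rw [Scheme.Hom.comp_base, TopCat.coe_comp, Set.range_comp,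
      show Set.range p = {(⟨s', hU⟩ : U)} from Scheme.range_fromSpecResidueField _, Set.image_singleton]
    exact congrArg _ hs'
  rw [← hr, ← Scheme.Pullback.range_fst]
  exact isPreconnected_range (pullback.fst T.hom (p ≫ h)).continuous

end Groth.Agent.MultConjLib
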