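import Groth.Agent.MultConjLib.Exists
import Groth.Agent.GrpSchLib.AffineHopf
import Groth.Agent.GrpSchLib.MultTypeBC
import Groth.Agent.MultTypeLib.CoverType
import Groth.Agent.MultTypeLib.EtaleLift
import Mathlib.RingTheory.Finiteness.Nilpotent
import Mathlib.RingTheory.FiniteType
import Mathlib.AlgebraicGeometry.Morphisms.Flat

/-!
# Affine groups of multiplicative type and their Hopf algebras
-/

universe u

open CategoryTheory CategoryTheory.Limits MonoidalCategory CartesianMonoidalCategory MonObj GrpObj AlgebraicGeometry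
open TensorProduct

namespace Groth.Agent.MultConjLib

open GrpSchLib.AffineHopf (spMap spMap_comp spMap_id spMap_injective exists_bialgHom spIso nonempty_bc_sp
  nonempty_bc_iso nonempty_DS_iso)

set_option backward.isDefEq.respectTransparency false

section Equiv

variable {R : Type u} [CommRing R] {A B : Type u} [CommRing A] [CommRing B] [HopfAlgebra R A] [HopfAlgebra R B]

/-- An isomorphism of affine group schemes comes from an equivalence of bialgebras. -/
theorem exists_bialgEquiv (e : Grp.mk (GrpSchLib.AffineHopf.sp R A) ≅ Grp.mk (GrpSchLib.AffineHopf.sp R B)) :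
    Nonempty (B ≃ₐc[R] A) := by
  haveI : IsMonHom e.hom.hom.hom := e.hom.hom.isMonHom_hom
  haveI : IsMonHom e.inv.hom.hom := e.inv.hom.isMonHom_hom
  obtain ⟨f, hf⟩ := exists_bialgHom e.hom.hom.hom
  obtain ⟨g, hg⟩ := exists_bialgHom e.inv.hom.hom
  have h₁ : (f : B →ₐ[R] A).comp (g : A →ₐ[R] B) = AlgHom.id R A := spMap_injective (by
    rw [← spMap_comp, spMap_id, ← hf, ← hg]
    exact congrArg (fun h => h.hom.hom) e.hom_inv_id)
  have h₂ : (g : A →ₐ[R] B).comp (f : B →ₐ[R] A) = AlgHom.id R B := spMap_injective (by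
    rw [← spMap_comp, spMap_id, ← hf, ← hg]
    exact congrArg (fun h => h.hom.hom) e.inv_hom_id)
  refine ⟨BialgEquiv.ofBijective f ⟨fun a b h => ?_, fun a => ⟨g a, AlgHom.congr_fun h₁ a⟩⟩⟩
  have := congrArg g h
  exact (AlgHom.congr_fun h₂ a).symm.trans (this.trans (AlgHom.congr_fun h₂ b))

end Equiv

/-- Isomorphic exponent groups give isomorphic group algebras. -/
theorem nonempty_bialgEquiv_of_mulEquiv (R : Type u) [CommRing R] {M : Type*} {N : Type*} [CommGroup M] [CommGroup N]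
    (e : M ≃* N) : Nonempty (MonoidAlgebra R M ≃ₐc[R] MonoidAlgebra R N) := by
  refine ⟨BialgEquiv.ofAlgEquiv (MonoidAlgebra.domCongr R R e)
    (MonoidAlgebra.algHom_ext (fun m => ?_) (by ext)) (MonoidAlgebra.algHom_ext (fun m => ?_) (by ext))⟩ <;> simp

/-- An affine group locally diagonalisable for the fpqc topology has a Hopf algebra of multiplicative type. -/
theorem isMultType_of_locDS (R : Type u) [CommRing R] (A : Type u) [CommRing A] [HopfAlgebra R A]
    (h : IsLocDS (GrpSchLib.AffineHopf.sp R A)) : SGA3b.IsMultType R A := by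
  obtain ⟨κ, _, Rk, _, _, _, hsurj, hk⟩ := exists_split_cover h (𝟙 (Spec (CommRingCat.of R)))
  refine MultTypeLib.isMultType_of_flatCover Rk (fun p hp => ?_) fun k => ?_
  · obtain ⟨k, q, hq⟩ := hsurj ⟨p, hp⟩
    exact ⟨k, q.asIdeal, q.isPrime, congrArg PrimeSpectrum.asIdeal hq⟩
  · obtain ⟨U, gU, M, iM, e, jU, hj⟩ := hk k
    rw [Category.comp_id] at hj
    obtain ⟨e₁⟩ := nonempty_bc_sp (R := R) (Rk k) A
    obtain ⟨e₂⟩ := GrpSchLib.MultTypeBC.bc_congr hj.symm (GrpSchLib.AffineHopf.sp R A)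
    obtain ⟨e₃⟩ := GrpSchLib.MultTypeBC.bc_bc jU gU (GrpSchLib.AffineHopf.sp R A)
    obtain ⟨e₄⟩ := GrpSchLib.MultTypeBC.bc_iso jU e
    obtain ⟨e₅⟩ := GrpSchLib.MultTypeBC.bc_DS jU M
    obtain ⟨e₆⟩ := nonempty_DS_iso (Rk k) M
    obtain ⟨b⟩ := exists_bialgEquiv (e₁.symm ≪≫ e₂ ≪≫ e₃.symm ≪≫ e₄ ≪≫ e₅ ≪≫ e₆.symm)
    obtain ⟨c⟩ := nonempty_bialgEquiv_of_mulEquiv (Rk k) (MulEquiv.ulift : ULift.{u} (Multiplicative M) ≃* Multiplicative M).symm
    exact ⟨ULift.{u} (Multiplicative M), inferInstance, ⟨b.symm.trans c⟩⟩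

/-- A finitely generated commutative group has a model in `Type`. -/
theorem exists_small_model (M : Type u) [CommGroup M] [Monoid.FG M] :
    ∃ (N : Type) (_ : AddCommGroup N), AddGroup.FG N ∧ Nonempty (M ≃* Multiplicative N) := by
  obtain ⟨n, f, hf⟩ : ∃ (n : ℕ) (f : (Fin n → ℤ) →+ Additive M), Function.Surjective f := by
    haveI : AddGroup.FG (Additive M) := AddGroup.fg_iff_addMonoid_fg.mpr inferInstance
    haveI : Module.Finite ℤ (Additive M) := Module.Finite.iff_addGroup_fg.mpr ‹_›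
    obtain ⟨n, f, hf⟩ := Module.Finite.exists_fin' ℤ (Additive M)
    exact ⟨n, f.toAddMonoidHom, hf⟩
  refine ⟨(Fin n → ℤ) ⧸ f.ker, inferInstance, ?_,
    ⟨((AddEquiv.toMultiplicative (QuotientAddGroup.quotientKerEquivOfSurjective f hf)).trans
      (MulEquiv.refl M : Multiplicative (Additive M) ≃* M)).symm⟩⟩
  haveI : AddGroup.FG (Fin n → ℤ) := Module.Finite.iff_addGroup_fg.mp inferInstance
  exact AddGroup.fg_of_surjective (f := QuotientAddGroup.mk' f.ker) (QuotientAddGroup.mk'_surjective _)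

/-- Lifts of generators generate along a nilpotent thickening. -/
theorem finiteType_of_nilpotent {R : Type u} [CommRing R] (J : Ideal R) (hJ : IsNilpotent J) (A : Type u) [CommRing A]
    [Algebra R A] [Algebra.FiniteType (R ⧸ J) ((R ⧸ J) ⊗[R] A)] : Algebra.FiniteType R A := by
  classical
  let A₀ := (R ⧸ J) ⊗[R] A
  haveI : Algebra.FiniteType R (R ⧸ J) := inferInstance
  haveI : Algebra.FiniteType R A₀ := Algebra.FiniteType.trans (S := R ⧸ J) inferInstance inferInstance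
  obtain ⟨s, hs⟩ := Algebra.FiniteType.out (R := R) (A := A₀)
  let π : A →ₐ[R] A₀ := Algebra.TensorProduct.includeRight
  have hπ : Function.Surjective π := fun z => by
    obtain ⟨a, ha⟩ := TensorProduct.mk_surjective R A (R ⧸ J) Ideal.Quotient.mk_surjective z
    exact ⟨a, ha⟩
  let t : Finset A := s.image (Function.surjInv hπ)
  refine ⟨⟨t, ?_⟩⟩
  let T := Subalgebra.toSubmodule (Algebra.adjoin R (t : Set A))
  have hmap : T.map π.toLinearMap = ⊤ := by
    rw [show T.map π.toLinearMap = Subalgebra.toSubmodule ((Algebra.adjoin R (t : Set A)).map π) from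
      Subalgebra.map_toSubmodule.symm, AlgHom.map_adjoin, Finset.coe_image, ← Set.image_comp]
    rw [show (π ∘ Function.surjInv hπ) '' (s : Set A₀) = s from by
      rw [show (π ∘ Function.surjInv hπ) = id from funext (Function.surjInv_eq hπ), Set.image_id]]
    rw [hs, Algebra.top_toSubmodule]
  have htop : (⊤ : Submodule R A) ≤ T ⊔ J • ⊤ := fun a _ => by
    obtain ⟨b, hb, hba⟩ := (hmap.ge : ⊤ ≤ _) (Submodule.mem_top : π a ∈ ⊤)
    refine Submodule.mem_sup.mpr ⟨b, hb, a - b, ?_, add_sub_cancel b a⟩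
    have h0 : (1 : R ⧸ J) ⊗ₜ[R] (a - b) = 0 := by
      rw [TensorProduct.tmul_sub, sub_eq_zero]; exact hba.symm
    have := congrArg (TensorProduct.quotTensorEquivQuotSMul A J) h0
    rw [map_zero] at this
    rw [TensorProduct.quotTensorEquivQuotSMul_mk_one_tmul] at this
    exact (Submodule.Quotient.mk_eq_zero _).mp this
  have key : ∀ n : ℕ, (⊤ : Submodule R A) ≤ T ⊔ (J ^ n) • ⊤ := by
    intro n
    induction n with
    | zero => rw [pow_zero, Ideal.one_eq_top, Submodule.top_smul, sup_top_eq]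
    | succ n ih =>
      refine ih.trans (sup_le le_sup_left ?_)
      rw [pow_succ, Submodule.mul_smul]
      calc (J ^ n) • (⊤ : Submodule R A) ≤ (J ^ n) • (T ⊔ J • ⊤) := Submodule.smul_mono le_rfl htop
        _ = (J ^ n) • T ⊔ (J ^ n) • (J • ⊤) := Submodule.smul_sup _ _ _
        _ ≤ _ := sup_le_sup_right Submodule.smul_le_right _
  obtain ⟨n, hn⟩ := hJ
  have := key n
  rw [hn, Ideal.zero_eq_bot, Submodule.bot_smul, sup_bot_eq, top_le_iff] at this
  exact Algebra.toSubmodule_eq_top.mp this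

/-- A Hopf algebra of multiplicative type and of finite type gives a group of multiplicative type and of finite type. -/
theorem isMultTypeFT_sp {R : Type u} [CommRing R] {A : Type u} [CommRing A] [HopfAlgebra R A]
    [Algebra.FiniteType R A] (h : SGA3b.IsMultType R A) : SGA3x.IsMultTypeFT (GrpSchLib.AffineHopf.sp R A) := by
  classical
  obtain ⟨c⟩ := MultTypeLib.exists_cover h
  let X : c.ι → Scheme.{u} := fun i => Spec (CommRingCat.of (c.split i).S)
  let p : ∀ i, X i ⟶ Spec (CommRingCat.of R) := fun i => Spec.map (CommRingCat.ofHom (algebraMap R (c.split i).S))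
  let f : (∐ X) ⟶ Spec (CommRingCat.of R) := Sigma.desc p
  haveI hflat : Flat f := IsZariskiLocalAtSource.sigmaDesc fun i =>
    (HasRingHomProperty.Spec_iff (P := @Flat)).mpr (RingHom.flat_algebraMap_iff.mpr (c.split i).flat)
  haveI : CompactSpace (∐ X : Scheme.{u}) := inferInstance
  haveI : QuasiCompact f := (HasAffineProperty.iff_of_isAffine (P := @QuasiCompact)).mpr inferInstance
  have hsurj : Function.Surjective f := fun q => by
    obtain ⟨i, r, hr, hrq⟩ := c.surj q.asIdeal q.isPrime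
    refine ⟨Sigma.ι X i ⟨r, hr⟩, ?_⟩
    rw [← Scheme.Hom.comp_apply, Sigma.ι_desc]
    exact PrimeSpectrum.ext hrq
  refine ⟨∐ X, f, hflat, ⟨hsurj⟩, fun V hV => ⟨f ⁻¹ᵁ V, ?_, ?_⟩, fun s' => ?_⟩
  · exact f.isCompact_preimage hV.isCompact
  · exact Set.image_preimage_eq _ hsurj
  obtain ⟨i, x, rfl⟩ : ∃ i x, Sigma.ι X i x = s' :=
    ⟨_, (sigmaOpenCover X).covers s' |>.choose, (sigmaOpenCover X).covers s' |>.choose_spec⟩
  let U : (∐ X : Scheme.{u}).Opens := (Sigma.ι X i).opensRange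
  refine ⟨U, ⟨x, rfl⟩, ?_⟩
  let M := (c.split i).M
  let e := (c.split i).bialgEquiv
  by_cases hne : Nontrivial (c.split i).S
  · haveI : Algebra.FiniteType (c.split i).S (MonoidAlgebra (c.split i).S M) :=
      Algebra.FiniteType.equiv inferInstance (e : (c.split i).S ⊗[R] A ≃ₐ[(c.split i).S] _)
    haveI : Monoid.FG M := MonoidAlgebra.fg_of_finiteType (R := (c.split i).S)
    obtain ⟨N, iN, hN, ⟨eN⟩⟩ := exists_small_model M
    obtain ⟨d⟩ := nonempty_bialgEquiv_of_mulEquiv (c.split i).S eN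
    let k : X i ≅ (U : Scheme.{u}) := (Sigma.ι X i).isoOpensRange
    have hk : U.ι ≫ f = k.inv ≫ p i := by
      rw [← Iso.cancel_iso_hom_left k, Scheme.Hom.isoOpensRange_hom_ι_assoc, Iso.hom_inv_id_assoc, Sigma.ι_desc]
    obtain ⟨e₁⟩ := GrpSchLib.MultTypeBC.bc_congr hk (GrpSchLib.AffineHopf.sp R A)
    obtain ⟨e₂⟩ := GrpSchLib.MultTypeBC.bc_bc k.inv (p i) (GrpSchLib.AffineHopf.sp R A)
    obtain ⟨e₃⟩ := nonempty_bc_sp (R := R) (c.split i).S A
    obtain ⟨e₄⟩ := nonempty_DS_iso (c.split i).S N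
    obtain ⟨e₅⟩ := GrpSchLib.MultTypeBC.bc_iso k.inv (e₃ ≪≫ spIso (e.trans d).symm ≪≫ e₄)
    obtain ⟨e₆⟩ := GrpSchLib.MultTypeBC.bc_DS k.inv N
    exact ⟨N, iN, hN, ⟨e₁ ≪≫ e₂.symm ≪≫ e₅ ≪≫ e₆⟩⟩
  · exfalso
    haveI := not_nontrivial_iff_subsingleton.mp hne
    haveI : IsEmpty (X i) := inferInstanceAs (IsEmpty (PrimeSpectrum (c.split i).S))
    exact IsEmpty.false x

/-- The fpqc-local form. -/
theorem isLocDS_sp {R : Type u} [CommRing R] {A : Type u} [CommRing A] [HopfAlgebra R A] [Algebra.FiniteType R A]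
    (h : SGA3b.IsMultType R A) : IsLocDS (GrpSchLib.AffineHopf.sp R A) :=
  isLocDS_of_multTypeFT (isMultTypeFT_sp h)

/-- A quasi-isotrivial group is of multiplicative type. -/
theorem isMultType_of_quasiIsotrivial {R : Type u} [CommRing R] {A : Type u} [CommRing A] [HopfAlgebra R A]
    (h : SGA3b.IsQuasiIsotrivial R A) : SGA3b.IsMultType R A := by
  obtain ⟨s, hs, h⟩ := h
  refine ⟨s, hs, fun f hf => ?_⟩
  obtain ⟨R', _, _, -, hff, hd⟩ := h f hf
  exact ⟨R', inferInstance, inferInstance, hff, hd⟩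

/-- Being fpqc locally diagonalisable passes along isomorphisms of groups. -/
theorem isLocDS_congr {S : Scheme.{u}} {H H' : Over S} [GrpObj H] [GrpObj H'] (e : Grp.mk H ≅ Grp.mk H') (h : IsLocDS H) :
    IsLocDS H' := by
  obtain ⟨S', f, h₁, h₂, h₃, h₄⟩ := h
  refine ⟨S', f, h₁, h₂, h₃, fun s' => ?_⟩
  obtain ⟨U, hU, M, iM, ⟨e'⟩⟩ := h₄ s'
  obtain ⟨e₁⟩ := GrpSchLib.MultTypeBC.bc_iso (U.ι ≫ f) e
  exact ⟨U, hU, M, iM, ⟨e₁.symm ≪≫ e'⟩⟩

/-- Over an affine base, fpqc locally diagonalisable and locally of finite type is of multiplicative type and of finite type. -/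
theorem isMultTypeFT_of_locDS {R : Type u} [CommRing R] {H : Over (Spec (CommRingCat.of R))} [GrpObj H]
    [LocallyOfFiniteType H.hom] (h : IsLocDS H) : SGA3x.IsMultTypeFT H := by
  haveI := isAffineHom_of_locDS h
  haveI : IsAffine H.left := isAffine_of_isAffineHom H.hom
  obtain ⟨A, _, _, ⟨e⟩⟩ := GrpSchLib.AffineHopf.exists_hopf H
  haveI : IsIso e.hom.hom.hom.left :=
    ⟨e.inv.hom.hom.left, congrArg (fun h => h.hom.hom.left) e.hom_inv_id,
      congrArg (fun h => h.hom.hom.left) e.inv_hom_id⟩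
  haveI : Algebra.FiniteType R A := by
    have h : LocallyOfFiniteType (GrpSchLib.AffineHopf.sp R A).hom := by
      rw [← Over.w e.hom.hom.hom]; infer_instance
    exact RingHom.finiteType_algebraMap.mp ((HasRingHomProperty.Spec_iff (P := @LocallyOfFiniteType)).mp h)
  obtain ⟨S', f, h₁, h₂, h₃, h₄⟩ := isMultTypeFT_sp (isMultType_of_locDS R A (isLocDS_congr e.symm h))
  refine ⟨S', f, h₁, h₂, h₃, fun s' => ?_⟩
  obtain ⟨U, hU, M, iM, hM, ⟨e'⟩⟩ := h₄ s'
  obtain ⟨e₁⟩ := GrpSchLib.MultTypeBC.bc_iso (U.ι ≫ f) e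
  exact ⟨U, hU, M, iM, hM, ⟨e₁.symm ≪≫ e'⟩⟩

end Groth.Agent.MultConjLib
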