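import Groth.Agent.MultConjLib.Bridge
import Groth.Agent.GrpSchLib.AffineHopfClosed
import Groth.Agent.MultTypeLib.Sub
import Groth.Agent.MultTypeLib.HopfKer
import Groth.Agent.MultTypeLib.NilLift
import Groth.Agent.MultTypeLib.EtaleLift
import Groth.Agent.S5242
import Groth.Agent.S5264
import Groth.Agent.HomSchLib.MultFlat

/-!
# Closed flat subgroups of groups of multiplicative type
-/

universe u

open CategoryTheory CategoryTheory.Limits MonoidalCategory CartesianMonoidalCategory MonObj GrpObj AlgebraicGeometry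
open TensorProduct

namespace Groth.Agent.MultConjLib

set_option backward.isDefEq.respectTransparency false

/-- Over a field an image of a group algebra is a group algebra. -/
theorem isDiag_of_surjective {K : Type u} [Field K] {N : Type u} [CommGroup N] {Q : Type u} [CommRing Q] [HopfAlgebra K Q]
    (ψ : MonoidAlgebra K N →ₐc[K] Q) (hψ : Function.Surjective ψ) : SGA3b.IsDiag K Q := by
  let Φ := MonoidAlgebra.liftGroupLikeBialgHom (R := K) (A := Q)
  have hspan : Function.Surjective Φ := by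
    intro y
    suffices ∀ x, ψ x ∈ (Φ : MonoidAlgebra K (GroupLike K Q) →ₐ[K] Q).range by
      obtain ⟨x, rfl⟩ := hψ y
      exact this x
    intro x
    induction x using MonoidAlgebra.induction_linear with
    | zero => simp
    | add y z hy hz => rw [map_add]; exact add_mem hy hz
    | single m r =>
      have e : MonoidAlgebra.single m r = r • MonoidAlgebra.single m (1 : K) := by simp
      rw [e, map_smul]
      have hmem : ψ (MonoidAlgebra.single m 1) ∈ (Φ : MonoidAlgebra K (GroupLike K Q) →ₐ[K] Q).range :=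
        ⟨MonoidAlgebra.single (⟨ψ (MonoidAlgebra.single m 1),
          (MonoidAlgebra.isGroupLikeElem_single_one m).map ψ⟩ : GroupLike K Q) 1, by
          simp [Φ, MonoidAlgebra.liftGroupLikeBialgHom]⟩
      exact Subalgebra.smul_mem _ hmem _
  have hinj : Function.Injective Φ := by
    have hli : LinearIndependent K (GroupLike.val : GroupLike K Q → Q) := by
      have h := linearIndepOn_isGroupLikeElem (R := K) (A := Q)
      exact h.comp (fun g : GroupLike K Q => (⟨g.1, g.2⟩ : {a : Q // IsGroupLikeElem K a}))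
        fun a b hab => GroupLike.val_injective (congrArg Subtype.val hab)
    rw [injective_iff_map_eq_zero]
    intro x hx
    have e : Φ x = Finsupp.linearCombination K GroupLike.val x.coeff := by
      conv_lhs => rw [← MonoidAlgebra.sum_coeff_single x]
      rw [Finsupp.linearCombination_apply, Finsupp.sum, Finsupp.sum, map_sum]
      refine Finset.sum_congr rfl fun m _ => ?_
      simp [Φ, MonoidAlgebra.liftGroupLikeBialgHom]
    rw [e] at hx
    exact MonoidAlgebra.coeff_injective (linearIndependent_iff.mp hli _ hx)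
  exact ⟨GroupLike K Q, inferInstance, ⟨(BialgEquiv.ofBijective Φ ⟨hinj, hspan⟩).symm⟩⟩

/-- Over a field closed subgroups of groups of multiplicative type are of multiplicative type. -/
theorem isMultType_of_surjective {k : Type u} [Field k] {A B : Type u} [CommRing A] [CommRing B] [HopfAlgebra k A]
    [HopfAlgebra k B] (φ : A →ₐc[k] B) (hφ : Function.Surjective φ) (hA : SGA3b.IsMultType k A) :
    SGA3b.IsMultType k B := by
  obtain ⟨P, hP⟩ := MultTypeLib.exists_ff_split hA
  obtain ⟨⟨q0, hq0⟩, -⟩ := PrimeSpectrum.comap_surjective_of_faithfullyFlat (A := k) (B := P.S) default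
  obtain ⟨q, hq, -⟩ := Ideal.exists_le_maximal q0 hq0.ne_top
  let K := P.S ⧸ q
  let _ : Field K := Ideal.Quotient.field q
  let π : K ⊗[k] A →ₐc[K] K ⊗[k] B := Bialgebra.TensorProduct.map (BialgHom.id K K) φ
  have hπ : Function.Surjective π := fun y => by
    induction y using TensorProduct.induction_on with
    | zero => exact ⟨0, map_zero _⟩
    | add y₁ y₂ h₁ h₂ =>
      obtain ⟨z₁, rfl⟩ := h₁
      obtain ⟨z₂, rfl⟩ := h₂
      exact ⟨z₁ + z₂, map_add _ _ _⟩
    | tmul c b =>
      obtain ⟨a, rfl⟩ := hφ b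
      exact ⟨c ⊗ₜ a, rfl⟩
  let T := MultTypeLib.baseChangeTrans (R := k) P.S K A
  let E : K ⊗[k] A ≃ₐc[K] MonoidAlgebra K P.M :=
    T.trans ((MultTypeLib.congrBase K P.bialgEquiv).trans (GrpSchLib.AffineHopf.scalarBialgEquiv P.S K P.M).symm)
  exact MultTypeLib.isMultType_of_ff (R := k) K
    (isDiag_of_surjective (π.comp (E.symm : MonoidAlgebra K P.M →ₐc[K] K ⊗[k] A)) (hπ.comp E.symm.surjective))

/-- A quotient of a cocommutative bialgebra is cocommutative. -/
theorem isCocomm_of_surjective {R : Type u} [CommRing R] {A B : Type u} [CommRing A] [CommRing B] [Bialgebra R A]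
    [Bialgebra R B] (φ : A →ₐc[R] B) (hφ : Function.Surjective φ) [Coalgebra.IsCocomm R A] :
    Coalgebra.IsCocomm R B := by
  refine ⟨LinearMap.ext fun b => ?_⟩
  obtain ⟨a, rfl⟩ := hφ b
  have h : ∀ x : A, TensorProduct.map (φ : A →ₗ[R] B) (φ : A →ₗ[R] B) (Coalgebra.comul x) = Coalgebra.comul (φ x) :=
    fun x => CoalgHomClass.map_comp_comul_apply φ x
  rw [LinearMap.comp_apply, ← h]
  conv_rhs => rw [← Coalgebra.comm_comul (R := R) a]
  exact (TensorProduct.map_comm _ _ _).symm

/-- The affine case. -/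
theorem isMultTypeFT_closedSub {R : Type u} [CommRing R] (H H' : Over (Spec (CommRingCat.of R))) [GrpObj H] [GrpObj H']
    (hH' : SGA3x.IsMultTypeFT H') (i : H ⟶ H') [IsMonHom i] [IsClosedImmersion i.left] [Flat H.hom]
    [LocallyOfFinitePresentation H.hom] : SGA3x.IsMultTypeFT H := by
  have hl := isLocDS_of_multTypeFT hH'
  haveI := isAffineHom_of_locDS hl
  haveI : IsAffine H'.left := isAffine_of_isAffineHom H'.hom
  haveI : IsAffine H.left := isAffine_of_isAffineHom i.left
  obtain ⟨A', _, _, ⟨e'⟩⟩ := GrpSchLib.AffineHopf.exists_hopf H'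
  obtain ⟨A, _, _, ⟨e⟩⟩ := GrpSchLib.AffineHopf.exists_hopf H
  haveI : IsIso e.hom.hom.hom.left :=
    ⟨e.inv.hom.hom.left, congrArg (fun h => h.hom.hom.left) e.hom_inv_id,
      congrArg (fun h => h.hom.hom.left) e.inv_hom_id⟩
  haveI : IsIso e'.inv.hom.hom.left :=
    ⟨e'.hom.hom.hom.left, congrArg (fun h => h.hom.hom.left) e'.inv_hom_id,
      congrArg (fun h => h.hom.hom.left) e'.hom_inv_id⟩
  let g : GrpSchLib.AffineHopf.sp R A ⟶ GrpSchLib.AffineHopf.sp R A' := e.hom.hom.hom ≫ i ≫ e'.inv.hom.hom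
  haveI : IsMonHom e.hom.hom.hom := e.hom.hom.isMonHom_hom
  haveI : IsMonHom e'.inv.hom.hom := e'.inv.hom.isMonHom_hom
  haveI : IsMonHom g := inferInstanceAs (IsMonHom (e.hom.hom.hom ≫ i ≫ e'.inv.hom.hom))
  obtain ⟨φ, hφ⟩ := GrpSchLib.AffineHopf.exists_bialgHom g
  have hsurj : Function.Surjective φ := GrpSchLib.AffineHopf.surjective_of_isClosedImmersion (φ : A' →ₐ[R] A) (by
    rw [← hφ]
    show IsClosedImmersion (e.hom.hom.hom.left ≫ i.left ≫ e'.inv.hom.hom.left)
    infer_instance)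
  have hhom : (GrpSchLib.AffineHopf.sp R A).hom = e.hom.hom.hom.left ≫ H.hom := (Over.w e.hom.hom.hom).symm
  haveI : Module.Flat R A := RingHom.flat_algebraMap_iff.mp ((HasRingHomProperty.Spec_iff (P := @Flat)).mp
    (show Flat (GrpSchLib.AffineHopf.sp R A).hom by rw [hhom]; infer_instance))
  have hfp : Algebra.FinitePresentation R A := RingHom.finitePresentation_algebraMap.mp
    ((HasRingHomProperty.Spec_iff (P := @LocallyOfFinitePresentation)).mp
      (show LocallyOfFinitePresentation (GrpSchLib.AffineHopf.sp R A).hom by rw [hhom]; infer_instance))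
  have hA' : SGA3b.IsMultType R A' := isMultType_of_locDS R A' (isLocDS_congr e'.symm hl)
  have hft' : Algebra.FiniteType R A' := by
    haveI : IsIso e'.hom.hom.hom.left :=
      ⟨e'.inv.hom.hom.left, congrArg (fun h => h.hom.hom.left) e'.hom_inv_id,
        congrArg (fun h => h.hom.hom.left) e'.inv_hom_id⟩
    haveI := GrpSchLib.MultTypeLft.lft hH'
    have h : LocallyOfFiniteType (GrpSchLib.AffineHopf.sp R A').hom := by
      rw [← Over.w e'.hom.hom.hom]; infer_instance
    exact RingHom.finiteType_algebraMap.mp ((HasRingHomProperty.Spec_iff (P := @LocallyOfFiniteType)).mp h)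
  haveI := MultTypeLib.isCocomm_of_isMultType hA'
  haveI := isCocomm_of_surjective φ hsurj
  have hA : SGA3b.IsMultType R A := by
    refine Groth.Agent.S5264.result R A hfp (fun p _ => ?_) fun n hn => ?_
    · refine isMultType_of_surjective (Bialgebra.TensorProduct.map (BialgHom.id p.ResidueField p.ResidueField) φ) ?_
        (MultTypeLib.isMultType_baseChange _ hA')
      intro y
      induction y using TensorProduct.induction_on with
      | zero => exact ⟨0, map_zero _⟩
      | add y₁ y₂ h₁ h₂ =>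
        obtain ⟨z₁, rfl⟩ := h₁
        obtain ⟨z₂, rfl⟩ := h₂
        exact ⟨z₁ + z₂, map_add _ _ _⟩
      | tmul c b =>
        obtain ⟨a, rfl⟩ := hsurj b
        exact ⟨c ⊗ₜ a, rfl⟩
    · haveI := MultTypeLib.isHopfIdeal_torsionIdeal hA' n
      haveI := (Groth.Agent.S5242.result R A' hft' hA' n hn _ rfl).2
      let q : A' →ₐ[R] A ⧸ SGA3b.torsionIdeal R A n := (Ideal.Quotient.mkₐ R _).comp (φ : A' →ₐ[R] A)
      have hpow : ∀ a : A', φ (SGA3b.powConv R A' n a) = SGA3b.powConv R A n (φ a) := fun a => by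
        haveI := hφ
        have h1 : (φ : A' →ₐ[R] A).comp (SGA3b.powConv R A' n) = (SGA3b.powConv R A n).comp (φ : A' →ₐ[R] A) := by
          apply GrpSchLib.AffineHopf.spMap_injective
          rw [← GrpSchLib.AffineHopf.spMap_comp, ← GrpSchLib.AffineHopf.spMap_comp]
          have hp : ∀ (C : Type u) [CommRing C] [HopfAlgebra R C],
              GrpSchLib.AffineHopf.spMap (SGA3b.powConv R C n) = (𝟙 (GrpSchLib.AffineHopf.sp R C)) ^ n := fun C _ _ => by
            rw [GrpSchLib.AffineHopf.spMap_eq_mapMulEquiv, SGA3b.powConv, WithConv.toConv_ofConv, map_pow,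
              ← GrpSchLib.AffineHopf.spMap_eq_mapMulEquiv, GrpSchLib.AffineHopf.spMap_id]
          rw [hp, hp, MonObj.comp_pow, Category.comp_id, MonObj.pow_comp, Category.id_comp]
        exact AlgHom.congr_fun h1 a
      have hker : ∀ a ∈ SGA3b.torsionIdeal R A' n, q a = 0 := by
        intro a ha
        suffices SGA3b.torsionIdeal R A' n ≤ RingHom.ker q from this ha
        rw [SGA3b.torsionIdeal, Ideal.map_le_iff_le_comap]
        intro b hb
        rw [Ideal.mem_comap, RingHom.mem_ker]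
        show Ideal.Quotient.mk _ (φ (SGA3b.powConv R A' n b)) = 0
        rw [hpow, Ideal.Quotient.eq_zero_iff_mem, SGA3b.torsionIdeal]
        refine Ideal.mem_map_of_mem _ ?_
        rw [RingHom.mem_ker] at hb ⊢
        exact (CoalgHomClass.counit_comp_apply φ b).trans hb
      let q' : A' ⧸ SGA3b.torsionIdeal R A' n →ₐ[R] A ⧸ SGA3b.torsionIdeal R A n := Ideal.Quotient.liftₐ _ q hker
      refine Module.Finite.of_surjective q'.toLinearMap fun y => ?_
      obtain ⟨b, rfl⟩ := Ideal.Quotient.mk_surjective y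
      obtain ⟨a, rfl⟩ := hsurj b
      exact ⟨Ideal.Quotient.mk _ a, rfl⟩
  haveI : Algebra.FiniteType R A := Algebra.FiniteType.of_finitePresentation
  obtain ⟨S', f, h₁, h₂, h₃, h₄⟩ := isMultTypeFT_sp hA
  refine ⟨S', f, h₁, h₂, h₃, fun s' => ?_⟩
  obtain ⟨U, hU, M, iM, hM, ⟨e''⟩⟩ := h₄ s'
  obtain ⟨e₁⟩ := GrpSchLib.MultTypeBC.bc_iso (U.ι ≫ f) e
  exact ⟨U, hU, M, iM, hM, ⟨e₁.symm ≪≫ e''⟩⟩

/-- Being of multiplicative type and of finite type is local on the base. -/
theorem isMultTypeFT_of_local {S : Scheme.{u}} {H : Over S} [GrpObj H]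
    (h : ∀ s : S, ∃ U : S.Opens, s ∈ U ∧ SGA3x.IsMultTypeFT (Red.bc U.ι H)) : SGA3x.IsMultTypeFT H := by
  classical
  choose U hsU hU using h
  choose S' f hflat hsurj hcov hloc using hU
  let p : ∀ s, S' s ⟶ S := fun s => f s ≫ (U s).ι
  let F : (∐ S') ⟶ S := Sigma.desc p
  haveI : Flat F := IsZariskiLocalAtSource.sigmaDesc fun s => by
    haveI := hflat s
    show Flat (f s ≫ (U s).ι)
    infer_instance
  have hsj : Function.Surjective F := fun s => by
    obtain ⟨y, hy⟩ := (hsurj s).1 ⟨s, hsU s⟩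
    refine ⟨Sigma.ι S' s y, ?_⟩
    rw [← Scheme.Hom.comp_apply, Sigma.ι_desc, Scheme.Hom.comp_apply, hy]
    rfl
  refine ⟨∐ S', F, inferInstance, ⟨hsj⟩, fun V hV => ?_, fun z => ?_⟩
  · -- finitely many small affines
    have hex : ∀ v : V, ∃ D : S.Opens, IsAffineOpen D ∧ (v : S) ∈ D ∧ D ≤ V ⊓ U (v : S) := fun v => by
      obtain ⟨D, hD, hvD, hle⟩ := exists_isAffineOpen_mem_and_subset (show (v : S) ∈ V ⊓ U (v : S) from ⟨v.2, hsU _⟩)
      exact ⟨D, hD, hvD, hle⟩
    choose D hDa hvD hDle using hex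
    obtain ⟨t, ht⟩ := hV.isCompact.elim_finite_subcover (fun v : V => (D v : Set S)) (fun v => (D v).2)
      fun v hv => Set.mem_iUnion.mpr ⟨⟨v, hv⟩, hvD _⟩
    have hW : ∀ v : V, ∃ W : (∐ S' : Scheme.{u}).Opens, IsCompact (W : Set (∐ S' : Scheme.{u})) ∧
        F.base '' (W : Set (∐ S' : Scheme.{u})) = (D v : Set S) := fun v => by
      have hDU : D v ≤ U (v : S) := fun x hx => (hDle v hx).2
      obtain ⟨W, hWc, hWim⟩ := hcov (v : S) ((U (v : S)).ι ⁻¹ᵁ D v)
        ((hDa v).preimage_of_isOpenImmersion (U (v : S)).ι (by rwa [Scheme.Opens.opensRange_ι]))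
      refine ⟨(Sigma.ι S' (v : S)) ''ᵁ W, hWc.image (Sigma.ι S' (v : S)).continuous, ?_⟩
      rw [Scheme.Hom.coe_image, ← Set.image_comp]
      have he : (F.base ∘ (Sigma.ι S' (v : S)).base : S' (v : S) → S) = (U (v : S)).ι.base ∘ (f (v : S)).base := by
        funext y
        show F (Sigma.ι S' (v : S) y) = (U (v : S)).ι (f (v : S) y)
        rw [← Scheme.Hom.comp_apply, Sigma.ι_desc, Scheme.Hom.comp_apply]
      rw [he, Set.image_comp, hWim]
      show (U (v : S)).ι '' ((U (v : S)).ι ⁻¹' (D v : Set S)) = _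
      rw [Set.image_preimage_eq_inter_range, Scheme.Opens.range_ι, Set.inter_eq_left]
      exact hDU
    choose W hWc hWim using hW
    refine ⟨⨆ v : t, W v.1, ?_, ?_⟩
    · rw [TopologicalSpace.Opens.coe_iSup]
      exact isCompact_iUnion fun v => hWc v.1
    · rw [TopologicalSpace.Opens.coe_iSup, Set.image_iUnion]
      simp only [hWim]
      refine Set.Subset.antisymm (Set.iUnion_subset fun v => fun x hx => (hDle v.1 hx).1) fun x hx => ?_
      obtain ⟨v, hv, hxv⟩ := Set.mem_iUnion₂.mp (ht hx)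
      exact Set.mem_iUnion.mpr ⟨⟨v, hv⟩, hxv⟩
  · obtain ⟨s, y, rfl⟩ : ∃ s y, Sigma.ι S' s y = z :=
      ⟨_, (sigmaOpenCover S').covers z |>.choose, (sigmaOpenCover S').covers z |>.choose_spec⟩
    obtain ⟨O, hyO, M, iM, hM, ⟨e⟩⟩ := hloc s y
    let k : (O : Scheme.{u}) ⟶ ∐ S' := O.ι ≫ Sigma.ι S' s
    refine ⟨k.opensRange, ⟨⟨y, hyO⟩, rfl⟩, M, iM, hM, ?_⟩
    let r := k.isoOpensRange
    have hr : k.opensRange.ι ≫ F = r.inv ≫ (O.ι ≫ f s) ≫ (U s).ι := by
      rw [← Iso.cancel_iso_hom_left r, Scheme.Hom.isoOpensRange_hom_ι_assoc, Iso.hom_inv_id_assoc, Category.assoc,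
        Category.assoc, Sigma.ι_desc]
    obtain ⟨e₁⟩ := GrpSchLib.MultTypeBC.bc_congr hr H
    obtain ⟨e₂⟩ := GrpSchLib.MultTypeBC.bc_bc r.inv ((O.ι ≫ f s) ≫ (U s).ι) H
    obtain ⟨e₃⟩ := GrpSchLib.MultTypeBC.bc_bc (O.ι ≫ f s) (U s).ι H
    obtain ⟨e₄⟩ := GrpSchLib.MultTypeBC.bc_iso r.inv (e₃.symm ≪≫ e)
    obtain ⟨e₅⟩ := GrpSchLib.MultTypeBC.bc_DS r.inv M
    exact ⟨e₁ ≪≫ e₂.symm ≪≫ e₄ ≪≫ e₅⟩

end Groth.Agent.MultConjLib
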