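import Groth.Agent.MultConjLib.Descend

/-!
# Monomorphisms out of groups of multiplicative type into affine groups are closed immersions
-/

universe u

open CategoryTheory CategoryTheory.Limits MonoidalCategory CartesianMonoidalCategory MonObj GrpObj AlgebraicGeometry
open TensorProduct

namespace Groth.Agent.MultConjLib

open GrpSchLib.DiagActionRigid (sp spm spm_comp spm_id spm_left coord_ext)
open DSPtsLib (CoordM)

set_option backward.isDefEq.respectTransparency false

variable {S : Scheme.{u}} {R : Type u} [CommRing R] {β : Spec (CommRingCat.of R) ⟶ S}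

/-- The coordinate homomorphism of a monomorphism is surjective over a splitting. -/
theorem surjective_split {H G : Over S} [GrpObj H] [GrpObj G] (i : H ⟶ G) [IsMonHom i] [Mono i] {C : Type u}
    [CommRing C] [Algebra R C] {y : sp β C ⟶ G} (hy : IsUniv y) {R' : Type u} [CommRing R'] [Algebra R R']
    {M : Type} [AddCommGroup M]
    (χ : ∀ (B : Type u) [CommRing B] [Algebra R B], (R' →ₐ[R] B) → (CoordM.{u} M →+* B) → (sp β B ⟶ H))
    (hnat : ∀ {B B' : Type u} [CommRing B] [Algebra R B] [CommRing B'] [Algebra R B'] (f : B →ₐ[R] B')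
      (ρ : R' →ₐ[R] B) (c : CoordM.{u} M →+* B), spm β f ≫ χ B ρ c = χ B' (f.comp ρ) (f.toRingHom.comp c))
    (hmul : ∀ {B : Type u} [CommRing B] [Algebra R B] (ρ : R' →ₐ[R] B) (c c' d : CoordM.{u} M →+* B),
      (∀ m, d (MonoidAlgebra.single m 1) = c (MonoidAlgebra.single m 1) * c' (MonoidAlgebra.single m 1)) →
        χ B ρ c * χ B ρ c' = χ B ρ d)
    (hbij : ∀ (B : Type u) [CommRing B] [Algebra R B] (ρ : R' →ₐ[R] B), Function.Bijective (χ B ρ))
    (θ : R' ⊗[R] C →ₐ[R] MonoidAlgebra R' (Multiplicative M))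
    (hθl : θ.comp Algebra.TensorProduct.includeLeft = IsScalarTower.toAlgHom R R' _)
    (hθr : spm β θ ≫ univ y R' = χ _ (IsScalarTower.toAlgHom R R' _)
      (ofVal (MonoidAlgebra.of R' (Multiplicative M))) ≫ i) :
    Function.Surjective θ := by
  classical
  let N := Multiplicative M
  let E := MonoidAlgebra R' N
  let E₂ := MonoidAlgebra R' (N × N)
  let ρE : R' →ₐ[R] E := IsScalarTower.toAlgHom R R' E
  let ρ₂ : R' →ₐ[R] E₂ := IsScalarTower.toAlgHom R R' E₂
  let g₁ : N →* E := MonoidAlgebra.of R' N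
  let q : sp β E ⟶ H := χ E ρE (ofVal g₁)
  let Q := univ y R'
  -- the three maps to two variables
  let σ : (N →* N × N) → (E →ₐ[R] E₂) := fun τ =>
    AlgHom.restrictScalars R (MonoidAlgebra.mapDomainAlgHom R' R' τ)
  have hσρ : ∀ τ, (σ τ).comp ρE = ρ₂ := fun τ =>
    AlgHom.ext fun r => (MonoidAlgebra.mapDomainAlgHom R' R' τ).commutes r
  let τ₁ := MonoidHom.inl N N
  let τ₂ := MonoidHom.inr N N
  let τ₃ := (MonoidHom.id N).prod (MonoidHom.id N)
  have hval : ∀ τ m, ((σ τ).toRingHom.comp (ofVal g₁)) (MonoidAlgebra.single m 1) = MonoidAlgebra.single (τ m) 1 :=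
    fun τ m => by
      show σ τ (ofVal g₁ (MonoidAlgebra.single m 1)) = _
      rw [ofVal_single]
      exact MonoidAlgebra.mapDomain_single
  have hmain : spm β (σ τ₁) ≫ q ≫ i = spm β (σ τ₁) ≫ spm β θ ≫ Q := by rw [hθr]
  have h12 : spm β (σ τ₁) ≫ q * spm β (σ τ₂) ≫ q = spm β (σ τ₃) ≫ q := by
    show spm β (σ τ₁) ≫ χ E ρE _ * spm β (σ τ₂) ≫ χ E ρE _ = spm β (σ τ₃) ≫ χ E ρE _
    rw [hnat, hnat, hnat, hσρ, hσρ, hσρ]
    refine hmul ρ₂ _ _ _ fun m => ?_
    rw [hval, hval, hval, MonoidAlgebra.single_mul_single, _root_.mul_one]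
    congr 1
    simp [τ₁, τ₂, τ₃]
  -- the range is graded
  let W := R' ⊗[R] C
  let lw : W ⊗[R] W →ₐ[R] E₂ :=
    Algebra.TensorProduct.lift ((σ τ₁).comp θ) ((σ τ₂).comp θ) fun _ _ => Commute.all _ _
  obtain ⟨φ, hφ, -⟩ := hy (W ⊗[R] W) ((spm β (Algebra.TensorProduct.includeLeft : W →ₐ[R] W ⊗[R] W) ≫ Q) *
    (spm β (Algebra.TensorProduct.includeRight : W →ₐ[R] W ⊗[R] W) ≫ Q))
  let dW : W →ₐ[R] W ⊗[R] W := Algebra.TensorProduct.lift
    ((Algebra.TensorProduct.includeLeft : W →ₐ[R] W ⊗[R] W).comp Algebra.TensorProduct.includeLeft) φ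
    fun _ _ => Commute.all _ _
  have hdW : (σ τ₃).comp θ = lw.comp dW := by
    refine pair_ext hy ?_ ?_
    · rw [AlgHom.comp_assoc, hθl]
      refine AlgHom.ext fun r => ?_
      show σ τ₃ (ρE r) = lw (dW (r ⊗ₜ[R] (1 : C)))
      rw [Algebra.TensorProduct.lift_tmul, map_one, _root_.mul_one]
      show σ τ₃ (ρE r) = lw ((r ⊗ₜ[R] (1 : C)) ⊗ₜ[R] (1 : W))
      rw [Algebra.TensorProduct.lift_tmul, map_one, _root_.mul_one]
      show σ τ₃ (ρE r) = σ τ₁ (θ (r ⊗ₜ[R] (1 : C)))
      rw [show θ (r ⊗ₜ[R] (1 : C)) = ρE r from AlgHom.congr_fun hθl r, ← AlgHom.comp_apply, hσρ,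
        ← AlgHom.comp_apply, hσρ]
    · have hd : spm β dW ≫ Q = (spm β (Algebra.TensorProduct.includeLeft : W →ₐ[R] W ⊗[R] W) ≫ Q) *
          (spm β (Algebra.TensorProduct.includeRight : W →ₐ[R] W ⊗[R] W) ≫ Q) := by
        rw [← hφ, ← Category.assoc, spm_comp]
        congr 2
        exact AlgHom.ext fun a => lift_includeRight _ _ (fun _ _ => Commute.all _ _) a
      have hl : lw.comp Algebra.TensorProduct.includeLeft = (σ τ₁).comp θ :=
        Algebra.TensorProduct.lift_comp_includeLeft _ _ _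
      have hr : lw.comp Algebra.TensorProduct.includeRight = (σ τ₂).comp θ :=
        AlgHom.ext fun a => lift_includeRight _ _ (fun _ _ => Commute.all _ _) a
      have e1 : ∀ (g : W →ₐ[R] W ⊗[R] W) (τ : N →* N × N), lw.comp g = (σ τ).comp θ →
          spm β lw ≫ spm β g ≫ Q = (spm β (σ τ) ≫ q) ≫ i := fun g τ h => by
        rw [← Category.assoc, spm_comp, h, ← spm_comp, Category.assoc, hθr, Category.assoc]
      rw [← spm_comp θ (σ τ₃), Category.assoc, hθr, ← spm_comp dW lw, Category.assoc, hd, MonObj.comp_mul,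
        e1 _ τ₁ hl, e1 _ τ₂ hr, ← MonObj.mul_comp, h12, Category.assoc]
  -- the coefficient of the second variable
  have hcoord : ∀ (v : E) (m : N), v ∈ θ.range → MonoidAlgebra.single m (v.coeff m) ∈ θ.range := by
    rintro v m ⟨w, rfl⟩
    let ε : E₂ →+ E :=
      { toFun := fun z => MonoidAlgebra.ofCoeff (Finsupp.comapDomain (fun a => (a, m)) z.coeff
          (fun a _ b _ h => congrArg Prod.fst h))
        map_zero' := MonoidAlgebra.ext (Finsupp.ext fun a => rfl)
        map_add' := fun z z' => MonoidAlgebra.ext (Finsupp.ext fun a => rfl) }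
    have hε : ∀ z a, (ε z).coeff a = z.coeff (a, m) := fun z a => rfl
    have hσc : ∀ (v : E) (τ : N →* N × N), σ τ v = MonoidAlgebra.mapDomainRingHom R' τ v := fun v τ => rfl
    have hkey : ∀ z, ε (lw z) ∈ θ.range := by
      intro z
      induction z using TensorProduct.induction_on with
      | zero => rw [map_zero, map_zero]; exact zero_mem _
      | add a b ha hb => rw [map_add, map_add]; exact add_mem ha hb
      | tmul a b =>
        refine ⟨((θ b).coeff m ⊗ₜ[R] (1 : C)) * a, ?_⟩
        rw [Algebra.TensorProduct.lift_tmul]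
        show θ _ = ε (σ τ₁ (θ a) * σ τ₂ (θ b))
        rw [map_mul, show θ ((θ b).coeff m ⊗ₜ[R] (1 : C)) = ρE ((θ b).coeff m) from AlgHom.congr_fun hθl _]
        refine MonoidAlgebra.ext (Finsupp.ext fun c => ?_)
        rw [hε, hσc, hσc, coeff_inl_inr]
        show ((algebraMap R' E ((θ b).coeff m)) * θ a).coeff c = _
        rw [← Algebra.smul_def, MonoidAlgebra.coeff_smul, Finsupp.smul_apply, smul_eq_mul, _root_.mul_comm]
    have h := hkey (dW w)
    rw [← AlgHom.comp_apply, ← hdW] at h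
    have e : ε (σ τ₃ (θ w)) = MonoidAlgebra.single m ((θ w).coeff m) := by
      refine MonoidAlgebra.ext (Finsupp.ext fun a => ?_)
      rw [hε, hσc, coeff_diag, MonoidAlgebra.coeff_single, Finsupp.single_apply]
      by_cases h : a = m
      · subst h; rfl
      · rw [if_neg h, if_neg (Ne.symm h)]
    exact (show ε (σ τ₃ (θ w)) ∈ θ.range from h) |> fun h' => e ▸ h'
  -- the range is stable under inversion
  have hneg : ∀ (m : N) (r : R'), MonoidAlgebra.single m r ∈ θ.range → MonoidAlgebra.single m⁻¹ r ∈ θ.range := by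
    intro m r ⟨w, hw⟩
    let ν : E →ₐ[R] E := AlgHom.restrictScalars R (MonoidAlgebra.mapDomainAlgHom R' R' (MulEquiv.inv N).toMonoidHom)
    have hνρ : ν.comp ρE = ρE := AlgHom.ext fun r =>
      (MonoidAlgebra.mapDomainAlgHom R' R' (MulEquiv.inv N).toMonoidHom).commutes r
    have hν : spm β ν ≫ q = q⁻¹ := by
      have h1 : χ E ρE (ofVal 1) = 1 := by
        have h := hmul ρE (ofVal 1) (ofVal 1) (ofVal 1) fun m => by
          rw [ofVal_single, MonoidHom.one_apply, _root_.mul_one]
        exact left_eq_mul.mp h.symm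
      refine eq_inv_of_mul_eq_one_left ?_
      rw [hnat, hνρ, ← h1]
      refine hmul ρE _ _ _ fun m => ?_
      rw [ofVal_single, MonoidHom.one_apply, ofVal_single]
      show 1 = ν (ofVal g₁ (MonoidAlgebra.single m 1)) * g₁ m
      rw [ofVal_single]
      show 1 = MonoidAlgebra.mapDomain (MulEquiv.inv N).toMonoidHom (MonoidAlgebra.single m (1 : R')) *
        MonoidAlgebra.single m 1
      rw [MonoidAlgebra.mapDomain_single, MonoidAlgebra.single_mul_single, _root_.mul_one]
      show (1 : E) = MonoidAlgebra.single (m⁻¹ * m) 1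
      rw [inv_mul_cancel, MonoidAlgebra.one_def]
    obtain ⟨ψ, hψ, -⟩ := hy W Q⁻¹
    let inv' : W →ₐ[R] W := Algebra.TensorProduct.lift Algebra.TensorProduct.includeLeft ψ fun _ _ => Commute.all _ _
    have hi : ν.comp θ = θ.comp inv' := by
      refine pair_ext hy ?_ ?_
      · rw [AlgHom.comp_assoc, hθl, AlgHom.comp_assoc, Algebra.TensorProduct.lift_comp_includeLeft, hθl]
        exact hνρ
      · have hd : spm β inv' ≫ Q = Q⁻¹ := by
          rw [← hψ, ← Category.assoc, spm_comp]
          congr 2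
          exact AlgHom.ext fun a => lift_includeRight _ _ (fun _ _ => Commute.all _ _) a
        rw [← spm_comp θ ν, Category.assoc, hθr, ← spm_comp inv' θ, Category.assoc, hd, GrpObj.comp_inv, hθr]
        rw [← Category.assoc, hν, GrpObj.inv_comp]
    refine ⟨inv' w, ?_⟩
    show θ (inv' w) = _
    rw [← AlgHom.comp_apply, ← hi, AlgHom.comp_apply, show θ w = MonoidAlgebra.single m r from hw]
    exact MonoidAlgebra.mapDomain_single
  -- the ideals of coefficients
  have hrange : ∀ r : R', ρE r ∈ θ.range := fun r => ⟨r ⊗ₜ 1, AlgHom.congr_fun hθl r⟩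
  have hsmul : ∀ (m : N) (r s : R'), MonoidAlgebra.single m r ∈ θ.range → MonoidAlgebra.single m (s * r) ∈ θ.range :=
    fun m r s h => by
      rw [← MonoidAlgebra.smul_single', Algebra.smul_def]
      exact mul_mem (hrange s) h
  let I : N → Ideal R' := fun m =>
    { carrier := {r | MonoidAlgebra.single m r ∈ θ.range}
      zero_mem' := by rw [Set.mem_ofPred_eq, MonoidAlgebra.single_zero]; exact zero_mem _
      add_mem' := fun {a b} ha hb => by
        show MonoidAlgebra.single m (a + b) ∈ θ.range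
        rw [MonoidAlgebra.single_add]; exact add_mem ha hb
      smul_mem' := fun s r h => hsmul m r s h }
  have hI : ∀ m, I m = ⊤ := by
    intro m₀
    by_contra hne
    obtain ⟨p, hp, hle⟩ := Ideal.exists_le_maximal _ hne
    let Γ : Subgroup N :=
      { carrier := {m | ¬ I m ≤ p}
        one_mem' := fun h => hp.ne_top (top_le_iff.mp (le_trans (fun r _ => by
          show MonoidAlgebra.single 1 r ∈ θ.range
          exact hrange r) h))
        mul_mem' := fun {a b} ha hb h => by
          obtain ⟨r, hr, hrp⟩ := SetLike.not_le_iff_exists.mp ha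
          obtain ⟨s, hs, hsp⟩ := SetLike.not_le_iff_exists.mp hb
          have : r * s ∈ I (a * b) := by
            show MonoidAlgebra.single (a * b) (r * s) ∈ θ.range
            rw [← MonoidAlgebra.single_mul_single]
            exact mul_mem hr hs
          exact (hp.isPrime.mem_or_mem (h this)).elim hrp hsp
        inv_mem' := fun {a} ha h => ha fun r hr => h (hneg a r hr) }
    have hm₀ : m₀ ∉ Γ := fun h => h hle
    let K := R' ⧸ p
    let EQ := MonoidAlgebra K (N ⧸ Γ)
    let ρQ : R' →ₐ[R] EQ := (IsScalarTower.toAlgHom R K EQ).comp (Ideal.Quotient.mkₐ R p)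
    let gc : N →* EQ := (MonoidAlgebra.of K (N ⧸ Γ)).comp (QuotientGroup.mk' Γ)
    have hev : ∀ g : N →* EQ, χ EQ ρQ (ofVal g) = spm β (ev ρQ g) ≫ q := fun g => by
      rw [hnat, show (ev ρQ g).comp ρE = ρQ from AlgHom.ext fun r => by
        show ev ρQ g (MonoidAlgebra.single 1 r) = ρQ r
        rw [ev_single, map_one, _root_.mul_one]]
      congr 1
      refine coord_ext fun m => ?_
      show _ = ev ρQ g (ofVal g₁ (MonoidAlgebra.single m 1))
      rw [ofVal_single, ofVal_single]
      exact (ev_one ρQ g m).symm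
    have hsame : χ EQ ρQ (ofVal gc) ≫ i = χ EQ ρQ (ofVal 1) ≫ i := by
      suffices he : (ev ρQ gc).comp θ = (ev ρQ 1).comp θ by
        have h2 : ∀ g : N →* EQ, χ EQ ρQ (ofVal g) ≫ i = spm β ((ev ρQ g).comp θ) ≫ Q := fun g => by
          rw [hev, Category.assoc, ← hθr, ← spm_comp θ (ev ρQ g), Category.assoc]
        rw [h2, h2, he]
      refine AlgHom.ext fun w => ?_
      show ev ρQ gc (θ w) = ev ρQ 1 (θ w)
      rw [← MonoidAlgebra.sum_coeff_single (θ w)]
      simp only [Finsupp.sum, map_sum]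
      refine Finset.sum_congr rfl fun m _ => ?_
      rw [ev_single, ev_single, MonoidHom.one_apply]
      by_cases hm : m ∈ Γ
      · rw [show gc m = 1 by
          show MonoidAlgebra.of K (N ⧸ Γ) (QuotientGroup.mk' Γ m) = 1
          rw [show QuotientGroup.mk' Γ m = 1 from (QuotientGroup.eq_one_iff m).mpr hm, map_one]]
      · have hmem : (θ w).coeff m ∈ p := by
          by_contra hnp
          exact hm fun h => hnp (h (hcoord _ m ⟨w, rfl⟩))
        have hz : ρQ ((θ w).coeff m) = 0 := by
          show algebraMap K EQ (Ideal.Quotient.mk p _) = 0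
          rw [Ideal.Quotient.eq_zero_iff_mem.mpr hmem, map_zero]
        rw [hz, zero_mul, zero_mul]
    have h := congrFun (congrArg DFunLike.coe ((hbij EQ ρQ).1 ((cancel_mono i).mp hsame))) (MonoidAlgebra.single m₀ 1)
    rw [ofVal_single, ofVal_single] at h
    haveI : Nontrivial K := Ideal.Quotient.nontrivial_iff.mpr hp.ne_top
    refine hm₀ ((QuotientGroup.eq_one_iff m₀).mp ?_)
    exact MonoidAlgebra.single_left_injective one_ne_zero (h.trans MonoidAlgebra.one_def)
  intro v
  have : v ∈ θ.range := by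
    induction v using MonoidAlgebra.induction_linear with
    | zero => exact zero_mem _
    | add a b ha hb => exact add_mem ha hb
    | single m r => exact (show r ∈ I m by rw [hI]; trivial)
  exact this

/-- A monomorphism from a group of multiplicative type to an affine group is a closed immersion. -/
theorem isClosedImmersion_of_mono {H G : Over S} [GrpObj H] [GrpObj G] (hH : IsLocDS H) [IsAffineHom G.hom]
    (i : H ⟶ G) [IsMonHom i] [Mono i] : IsClosedImmersion i.left := by
  haveI := isAffineHom_of_locDS hH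
  rw [IsZariskiLocalAtTarget.iff_of_iSup_eq_top (P := @IsClosedImmersion)
    (fun U : S.affineOpens => G.hom ⁻¹ᵁ U.1) (TopologicalSpace.Opens.ext (Set.eq_univ_of_forall fun z => by
      simp only [TopologicalSpace.Opens.coe_iSup, Set.mem_iUnion]
      obtain ⟨U, hU, hzU, -⟩ := exists_isAffineOpen_mem_and_subset (show G.hom z ∈ (⊤ : S.Opens) from trivial)
      exact ⟨⟨U, hU⟩, hzU⟩))]
  rintro ⟨U, hU⟩
  show IsClosedImmersion (i.left ∣_ (G.hom ⁻¹ᵁ U))
  let β := hU.fromSpec
  -- the charts
  letI : Algebra Γ(S, U) Γ(H.left, H.hom ⁻¹ᵁ U) := (H.hom.app U).hom.toAlgebra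
  letI : Algebra Γ(S, U) Γ(G.left, G.hom ⁻¹ᵁ U) := (G.hom.app U).hom.toAlgebra
  have univOf : ∀ (X : Over S) [IsAffineHom X.hom],
      letI : Algebra Γ(S, U) Γ(X.left, X.hom ⁻¹ᵁ U) := (X.hom.app U).hom.toAlgebra
      ∃ x : sp β Γ(X.left, X.hom ⁻¹ᵁ U) ⟶ X, x.left = (hU.preimage X.hom).fromSpec ∧ IsUniv x := by
    intro X _
    letI : Algebra Γ(S, U) Γ(X.left, X.hom ⁻¹ᵁ U) := (X.hom.app U).hom.toAlgebra
    have sq := HomSchLib.isPullback_fromSpec X.hom hU
    let x : sp β Γ(X.left, X.hom ⁻¹ᵁ U) ⟶ X := Over.homMk (hU.preimage X.hom).fromSpec sq.w.symm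
    refine ⟨x, rfl, fun T _ _ q => ?_⟩
    let g := sq.lift (Spec.map (CommRingCat.ofHom (algebraMap Γ(S, U) T))) q.left (Over.w q).symm
    obtain ⟨ψ, hψ⟩ := HomSchLib.exists_algHom (A := Γ(X.left, X.hom ⁻¹ᵁ U)) β g (sq.lift_fst_assoc _ _ _ _)
    refine ⟨ψ, Over.OverMorphism.ext ?_, fun ψ' hψ' => ?_⟩
    · exact (congrArg (· ≫ (hU.preimage X.hom).fromSpec) hψ).trans (sq.lift_snd _ _ _)
    · have h : Spec.map (CommRingCat.ofHom ψ'.toRingHom) ≫ (hU.preimage X.hom).fromSpec =
          Spec.map (CommRingCat.ofHom ψ.toRingHom) ≫ (hU.preimage X.hom).fromSpec :=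
        (congrArg CommaMorphism.left hψ').trans
          (((congrArg (· ≫ (hU.preimage X.hom).fromSpec) hψ).trans (sq.lift_snd _ _ _)).symm)
      rw [cancel_mono] at h
      exact AlgHom.coe_ringHom_injective (congrArg CommRingCat.Hom.hom (Spec.map_injective h))
  obtain ⟨x, hxl, hx⟩ := univOf H
  obtain ⟨y, hyl, hy⟩ := univOf G
  obtain ⟨ψ, hψ, -⟩ := hy _ (x ≫ i)
  -- surjective over a splitting
  obtain ⟨κ, _, Rk, _, _, _, hcov, hsp⟩ := exists_split_cover hH β
  have hsurj : ∀ k, Function.Surjective (Algebra.TensorProduct.map (AlgHom.id Γ(S, U) (Rk k)) ψ) := by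
    intro k
    obtain ⟨V, gV, M, _, e, jV, hjV⟩ := hsp k
    obtain ⟨χ, hnat, hmul, hbij⟩ := exists_char_pts gV e jV hjV
    let E := MonoidAlgebra (Rk k) (Multiplicative M)
    let ρE : Rk k →ₐ[Γ(S, U)] E := IsScalarTower.toAlgHom Γ(S, U) (Rk k) E
    let g₁ : Multiplicative M →* E := MonoidAlgebra.of _ _
    obtain ⟨θA, hθl, hθr, -⟩ := exists_pair hx ρE (χ E ρE (ofVal g₁))
    -- the inverse
    let AT := Rk k ⊗[Γ(S, U)] Γ(H.left, H.hom ⁻¹ᵁ U)
    let il : Rk k →ₐ[Γ(S, U)] AT := Algebra.TensorProduct.includeLeft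
    obtain ⟨c, hc⟩ := (hbij AT il).2 (univ x (Rk k))
    have hinv : (ev il (charVal c)).comp θA = AlgHom.id _ AT := by
      refine pair_ext hx ?_ ?_
      · rw [AlgHom.comp_assoc, hθl]
        refine AlgHom.ext fun r => ?_
        show ev il (charVal c) (MonoidAlgebra.single 1 r) = il r
        rw [ev_single, map_one, _root_.mul_one]
      · rw [← spm_comp θA, Category.assoc, hθr, spm_id, Category.id_comp, hnat, ← hc,
          show (ev il (charVal c)).comp ρE = il from AlgHom.ext fun r => by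
            show ev il (charVal c) (MonoidAlgebra.single 1 r) = il r
            rw [ev_single, map_one, _root_.mul_one]]
        congr 1
        refine coord_ext fun m => ?_
        show ev il (charVal c) (ofVal g₁ (MonoidAlgebra.single m 1)) = _
        rw [ofVal_single]
        exact ev_one il _ m
    let θ := θA.comp (Algebra.TensorProduct.map (AlgHom.id Γ(S, U) (Rk k)) ψ)
    have hs : Function.Surjective θ := by
      refine surjective_split i hy χ hnat hmul hbij θ ?_ ?_
      · rw [AlgHom.comp_assoc, Algebra.TensorProduct.map_comp_includeLeft, AlgHom.comp_id, hθl]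
      · rw [← spm_comp _ θA, Category.assoc, show spm β (Algebra.TensorProduct.map (AlgHom.id Γ(S, U) (Rk k)) ψ) ≫
            univ y (Rk k) = univ x (Rk k) ≫ i from ?_, ← Category.assoc, hθr]
        rw [← Category.assoc, spm_comp, Category.assoc, ← hψ, ← Category.assoc, spm_comp]
        congr 2
    intro a
    obtain ⟨b, hb⟩ := hs (θA a)
    refine ⟨b, ?_⟩
    have := congrArg (ev il (charVal c)) hb
    exact (AlgHom.congr_fun hinv _).symm.trans (this.trans (AlgHom.congr_fun hinv a))
  have hsψ : Function.Surjective ψ := by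
    have _ := Fintype.ofFinite κ
    classical
    haveI : Module.FaithfullyFlat Γ(S, U) (∀ k, Rk k) := AdeqFound.faithfullyFlat_pi (A' := Rk) hcov
    refine (Module.FaithfullyFlat.lTensor_surjective_iff_surjective Γ(S, U) (∀ k, Rk k) ψ.toLinearMap).mp ?_
    intro z
    choose v hv using fun k => hsurj k (_root_.TensorProduct.piLeft Γ(S, U) Γ(H.left, H.hom ⁻¹ᵁ U) Rk z k)
    refine ⟨(_root_.TensorProduct.piLeft Γ(S, U) Γ(G.left, G.hom ⁻¹ᵁ U) Rk).symm v, ?_⟩
    apply (_root_.TensorProduct.piLeft Γ(S, U) Γ(H.left, H.hom ⁻¹ᵁ U) Rk).injective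
    funext k
    rw [← hv k]
    obtain ⟨w, rfl⟩ := (_root_.TensorProduct.piLeft Γ(S, U) Γ(G.left, G.hom ⁻¹ᵁ U) Rk).surjective v
    rw [LinearEquiv.symm_apply_apply]
    clear hv
    induction w using TensorProduct.induction_on with
    | zero => simp
    | add a b ha hb => simp only [map_add, Pi.add_apply, ha, hb]
    | tmul r s => simp
  have hψl : Spec.map (CommRingCat.ofHom ψ.toRingHom) ≫ (hU.preimage G.hom).fromSpec =
      (hU.preimage H.hom).fromSpec ≫ i.left := by
    rw [← hyl, ← hxl]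
    exact congrArg CommaMorphism.left hψ
  have hpre : i.left ⁻¹ᵁ (G.hom ⁻¹ᵁ U) = H.hom ⁻¹ᵁ U := by
    rw [← Scheme.Hom.comp_preimage, Over.w i]
  have sq : IsPullback (Spec.map (CommRingCat.ofHom ψ.toRingHom)) (hU.preimage H.hom).fromSpec
      (hU.preimage G.hom).fromSpec i.left := by
    refine IsOpenImmersion.isPullback _ _ _ _ hψl.symm ?_
    rw [IsAffineOpen.opensRange_fromSpec, IsAffineOpen.opensRange_fromSpec, hpre]
  haveI : IsClosedImmersion (Spec.map (CommRingCat.ofHom ψ.toRingHom)) :=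
    IsClosedImmersion.spec_of_surjective _ hsψ
  have h1 : IsClosedImmersion (pullback.snd i.left (hU.preimage G.hom).fromSpec) := by
    rw [← sq.flip.isoPullback_inv_snd]
    infer_instance
  have h2 := (MorphismProperty.arrow_mk_iso_iff @IsClosedImmersion
    (morphismRestrictOpensRange i.left (hU.preimage G.hom).fromSpec)).mpr h1
  rw [IsAffineOpen.opensRange_fromSpec] at h2
  exact h2

end Groth.Agent.MultConjLib
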