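import Groth.Agent.MultConjLib.Lift
import Groth.Agent.MultConjLib.EssFree
import Groth.Agent.TransLib.Universal
import Groth.Agent.S1488
import Groth.Agent.S4599

/-!
# Smoothness of transporters of homomorphisms of groups of multiplicative type
-/

universe u

open CategoryTheory CategoryTheory.Limits MonoidalCategory CartesianMonoidalCategory MonObj GrpObj AlgebraicGeometry
open TensorProduct

namespace Groth.Agent.MultConjLib

open GrpSchLib.DiagActionRigid (sp spm spm_comp spm_id spm_left)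

set_option backward.isDefEq.respectTransparency false

/-- Formal smoothness of a transporter of homomorphisms, from its points. -/
theorem isFormallySmoothHom_transporter {S : Scheme.{u}} {H G Z : Over S} [GrpObj H] [GrpObj G] (hH : IsLocDS H)
    (hG : Smooth G.hom) (u₁ u₂ : H ⟶ G) [IsMonHom u₁] [IsMonHom u₂] (c : Z ⟶ G) [Mono c.left]
    (hpts : ∀ (X : Over S) (g : X ⟶ G), (∃ t : X ⟶ Z, t ≫ c = g) ↔
      ∀ (X' : Over S) (x : X' ⟶ X) (h : X' ⟶ H), (x ≫ g) * (h ≫ u₁) * (x ≫ g)⁻¹ = h ≫ u₂) :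
    MoreMor.IsFormallySmoothHom Z.hom := by
  intro A _ I hI a b hab
  obtain ⟨AH, _, _, x, hx, sq, -, j, hj⟩ := exists_univ_int hH b
  let z : sp b (A ⧸ I) ⟶ Z := Over.homMk a hab.symm
  have h0 : ConjOn u₁ u₂ (z ≫ c) := fun B _ _ _ _ q =>
    ((hpts _ (z ≫ c)).mp ⟨z, rfl⟩ _ (spm b (IsScalarTower.toAlgHom A (A ⧸ I) B)) q).symm
  obtain ⟨g, hg, hgc⟩ := exists_lift_step hx hj ((Groth.Agent.S1488.result G.hom).mp hG).2 I hI (z ≫ c) h0
  obtain ⟨t, ht⟩ := (hpts _ g).mpr fun X' x' h => by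
    have hw := Over.w x'
    change x'.left ≫ Spec.map (CommRingCat.ofHom (algebraMap A A)) ≫ b = X'.hom at hw
    have hid : Spec.map (CommRingCat.ofHom (algebraMap A A)) = 𝟙 _ := Spec.map_id _
    rw [hid] at hw
    replace hw : x'.left ≫ b = X'.hom := (congrArg (x'.left ≫ ·) (Category.id_comp b)).symm.trans hw
    let tt : X' ⟶ sp b AH := Over.homMk (sq.lift x'.left h.left (hw.trans (Over.w h).symm)) (by
      show _ ≫ Spec.map (CommRingCat.ofHom (algebraMap A AH)) ≫ b = X'.hom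
      rw [sq.lift_fst_assoc, hw])
    have htx : tt ≫ x = h := Over.OverMorphism.ext (sq.lift_snd _ _ _)
    have htg : tt ≫ spm b (IsScalarTower.toAlgHom A A AH) = x' := Over.OverMorphism.ext (sq.lift_fst _ _ _)
    have e := congrArg (tt ≫ ·) (hgc AH x)
    simp only [MonObj.comp_mul, GrpObj.comp_inv, reassoc_of% htx, reassoc_of% htg] at e
    exact e.symm
  refine ⟨t.left, ?_, ?_⟩
  · haveI : Mono c.left := inferInstance
    rw [← cancel_mono c.left, Category.assoc]
    exact (congrArg (fun m => Spec.map (CommRingCat.ofHom (Ideal.Quotient.mk I)) ≫ CommaMorphism.left m) ht).trans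
      (congrArg CommaMorphism.left hg)
  · refine (Over.w t).trans ?_
    show Spec.map (CommRingCat.ofHom (algebraMap A A)) ≫ b = b
    rw [show Spec.map (CommRingCat.ofHom (algebraMap A A)) = 𝟙 _ from Spec.map_id _, Category.id_comp]

theorem exists_transporter_smooth_locDS {S : Scheme.{u}} {H G : Over S} [GrpObj H] [GrpObj G]
    (hH : IsLocDS H) (hG : Smooth G.hom) (hGs : IsSeparated G.hom) (u₁ u₂ : H ⟶ G) [IsMonHom u₁]
    [IsMonHom u₂] :
    ∃ (T : Over S) (j : T ⟶ G), IsClosedImmersion j.left ∧ Smooth T.hom ∧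
      ∀ (X : Over S) (g : X ⟶ G), (∃ t : X ⟶ T, t ≫ j = g) ↔
        ∀ (X' : Over S) (x : X' ⟶ X) (h : X' ⟶ H), (x ≫ g) * (h ≫ u₁) * (x ≫ g)⁻¹ = h ≫ u₂ := by
  obtain ⟨hHa, hHe⟩ := locDS_essFree hH
  let f : H ⊗ G ⟶ G ⊗ G := lift (snd H G * (fst H G ≫ u₁) * (snd H G)⁻¹) (fst H G ≫ u₂)
  let i : G ⟶ G ⊗ G := lift (𝟙 G) (𝟙 G)
  have hi : i.left = pullback.diagonal G.hom := by
    apply pullback.hom_ext
    · exact (congrArg CommaMorphism.left (lift_fst (𝟙 G) (𝟙 G))).trans (pullback.diagonal_fst _).symm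
    · exact (congrArg CommaMorphism.left (lift_snd (𝟙 G) (𝟙 G))).trans (pullback.diagonal_snd _).symm
  haveI : IsClosedImmersion i.left := by
    rw [hi]
    exact hGs.diagonal_isClosedImmersion
  haveI := hG
  have hilfp : LocallyOfFinitePresentation i.left := by
    rw [hi]
    exact Groth.Agent.S4599.result G.hom
  obtain ⟨Z, c, hc, hcfp, hZ⟩ := TransLib.exists_closed_universal_essFree hHe f i
  haveI : QuasiCompact H.hom := inferInstance
  haveI := hcfp inferInstance hilfp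
  have hpts : ∀ (X : Over S) (g : X ⟶ G), (∃ t : X ⟶ Z, t ≫ c = g) ↔
      ∀ (X' : Over S) (x : X' ⟶ X) (h : X' ⟶ H), (x ≫ g) * (h ≫ u₁) * (x ≫ g)⁻¹ = h ≫ u₂ := fun X g => by
    rw [hZ g]
    refine ⟨fun ⟨l, hl⟩ X' x h => ?_, fun h => ?_⟩
    · have e₁ := congrArg (· ≫ fst G G) hl
      have e₂ := congrArg (· ≫ snd G G) hl
      simp only [i, f, Category.assoc, lift_fst, lift_snd, Category.comp_id, MonObj.comp_mul, GrpObj.comp_inv,
        whiskerLeft_fst_assoc, whiskerLeft_snd] at e₁ e₂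
      have e := congrArg (lift h x ≫ ·) (e₁.symm.trans e₂)
      simp only [MonObj.comp_mul, GrpObj.comp_inv, lift_fst_assoc, lift_snd_assoc] at e
      exact e
    · refine ⟨(H ◁ g) ≫ fst H G ≫ u₂, ?_⟩
      apply CartesianMonoidalCategory.hom_ext
      · simp only [i, f, Category.assoc, lift_fst, Category.comp_id, MonObj.comp_mul, GrpObj.comp_inv,
          whiskerLeft_fst_assoc, whiskerLeft_snd]
        exact (h _ (snd H X) (fst H X)).symm
      · simp only [i, f, Category.assoc, lift_snd, Category.comp_id]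
  refine ⟨Z, c, hc, (Groth.Agent.S1488.result Z.hom).mpr ⟨?_, ?_⟩, hpts⟩
  · rw [← Over.w c]
    infer_instance
  · exact isFormallySmoothHom_transporter hH hG u₁ u₂ c hpts

theorem exists_transporter_smooth {S : Scheme.{u}} {H G : Over S} [GrpObj H] [GrpObj G]
    (hH : SGA3x.IsMultTypeFT H) (hG : Smooth G.hom) (hGs : IsSeparated G.hom) (u₁ u₂ : H ⟶ G) [IsMonHom u₁]
    [IsMonHom u₂] :
    ∃ (T : Over S) (j : T ⟶ G), IsClosedImmersion j.left ∧ Smooth T.hom ∧
      ∀ (X : Over S) (g : X ⟶ G), (∃ t : X ⟶ T, t ≫ j = g) ↔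
        ∀ (X' : Over S) (x : X' ⟶ X) (h : X' ⟶ H), (x ≫ g) * (h ≫ u₁) * (x ≫ g)⁻¹ = h ≫ u₂ :=
  exists_transporter_smooth_locDS (isLocDS_of_multTypeFT hH) hG hGs u₁ u₂

end Groth.Agent.MultConjLib
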