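import Groth.Agent.MultConjLib.ToHom
import Groth.Agent.MultConjLib.Closed
import Groth.Agent.MultConjLib.Transporter
import Groth.Agent.HomSchLib.MultFlat
import Groth.Agent.S12442

/-!
# Transporters of subgroups of multiplicative type
-/

universe u

open CategoryTheory CategoryTheory.Limits MonoidalCategory CartesianMonoidalCategory MonObj GrpObj AlgebraicGeometry
open TensorProduct

namespace Groth.Agent.MultConjLib

open GrpSchLib.DiagActionRigid (sp spm spm_comp spm_id spm_left)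

set_option backward.isDefEq.respectTransparency false

variable {S : Scheme.{u}}

/-- Composition with a homomorphism. -/
noncomputable def PtHom.post {R : Type u} [CommRing R] {β : Spec (CommRingCat.of R) ⟶ S} {H G K : Over S} [GrpObj H]
    [GrpObj G] [GrpObj K] {T : Type u} [CommRing T] [Algebra R T] (u : PtHom β H G T) (k : G ⟶ K) [IsMonHom k] :
    PtHom β H K T where
  app B _ _ ρ q := u.app B ρ q ≫ k
  nat f ρ q := by rw [← Category.assoc, u.nat]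
  mul ρ q q' := by rw [u.mul, MonObj.mul_comp]

/-- Composition of homomorphisms on points. -/
noncomputable def PtHom.comp {R : Type u} [CommRing R] {β : Spec (CommRingCat.of R) ⟶ S} {H G K : Over S} [GrpObj H]
    [GrpObj G] [GrpObj K] {T : Type u} [CommRing T] [Algebra R T] (u : PtHom β H G T) (v : PtHom β G K T) :
    PtHom β H K T where
  app B _ _ ρ q := v.app B ρ (u.app B ρ q)
  nat f ρ q := by rw [v.nat, u.nat]
  mul ρ q q' := by rw [u.mul, v.mul]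

/-- Formal smoothness of a transporter of subgroups, from its points. -/
theorem isFormallySmoothHom_sub_transporter {H₁ H₂ G D : Over S} [GrpObj H₁] [GrpObj H₂] [GrpObj G]
    (hD₁ : IsLocDS H₁) (hD₂ : IsLocDS H₂) (hG : Smooth G.hom)
    (i₁ : H₁ ⟶ G) [IsMonHom i₁] [Mono i₁] (i₂ : H₂ ⟶ G) [IsMonHom i₂] [Mono i₂] (c : D ⟶ G) [Mono c.left]
    (hpts : ∀ (X : Over S) (g : X ⟶ G), (∃ t : X ⟶ D, t ≫ c = g) ↔
        ∀ (X' : Over S) (x : X' ⟶ X),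
          (∀ h₁ : X' ⟶ H₁, ∃ h₂ : X' ⟶ H₂, (x ≫ g) * (h₁ ≫ i₁) * (x ≫ g)⁻¹ = h₂ ≫ i₂) ∧
          (∀ h₂ : X' ⟶ H₂, ∃ h₁ : X' ⟶ H₁, (x ≫ g)⁻¹ * (h₂ ≫ i₂) * (x ≫ g) = h₁ ≫ i₁)) :
    MoreMor.IsFormallySmoothHom D.hom := by
  intro A _ I hI a b hab
  have hcond : ∀ (B : Type u) [CommRing B] [Algebra A B] (ρ : (A ⧸ I) →ₐ[A] B),
      (∀ q : sp b B ⟶ H₁, ∃ p : sp b B ⟶ H₂,
        (spm b ρ ≫ (Over.homMk a hab.symm : sp b (A ⧸ I) ⟶ D) ≫ c) * (q ≫ i₁) *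
          (spm b ρ ≫ (Over.homMk a hab.symm : sp b (A ⧸ I) ⟶ D) ≫ c)⁻¹ = p ≫ i₂) ∧
      (∀ q : sp b B ⟶ H₂, ∃ p : sp b B ⟶ H₁,
        (spm b ρ ≫ (Over.homMk a hab.symm : sp b (A ⧸ I) ⟶ D) ≫ c)⁻¹ * (q ≫ i₂) *
          (spm b ρ ≫ (Over.homMk a hab.symm : sp b (A ⧸ I) ⟶ D) ≫ c) = p ≫ i₁) :=
    fun B _ _ ρ => (hpts _ _).mp ⟨_, rfl⟩ _ (spm b ρ)
  let g₀ : sp b (A ⧸ I) ⟶ G := (Over.homMk a hab.symm : sp b (A ⧸ I) ⟶ D) ≫ c
  have hI' : IsNilpotent I := ⟨2, hI⟩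
  obtain ⟨v₁, hv₁⟩ := PtHom.exists_factor i₂ ((PtHom.ofHom i₁ (A ⧸ I)).conj g₀) fun B _ _ ρ q => by
    obtain ⟨p, hp⟩ := (hcond B ρ).1 q
    exact ⟨p, hp.symm⟩
  obtain ⟨v₂, hv₂⟩ := PtHom.exists_factor i₁ ((PtHom.ofHom i₂ (A ⧸ I)).conj g₀⁻¹) fun B _ _ ρ q => by
    obtain ⟨p, hp⟩ := (hcond B ρ).2 q
    refine ⟨p, ?_⟩
    show _ = (spm b ρ ≫ g₀⁻¹) * (q ≫ i₂) * (spm b ρ ≫ g₀⁻¹)⁻¹
    rw [GrpObj.comp_inv, _root_.inv_inv, ← hp]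
  obtain ⟨w₁, hw₁⟩ := exists_ptHom_lift hD₁ hD₂ I hI' v₁
  obtain ⟨w₂, hw₂⟩ := exists_ptHom_lift hD₂ hD₁ I hI' v₂
  obtain ⟨AH₁, _, _, x₁, hx₁, sq₁, -, j₁, hj₁⟩ := exists_univ_int hD₁ b
  obtain ⟨AH₂, _, _, x₂, hx₂, sq₂, -, j₂, hj₂⟩ := exists_univ_int hD₂ b
  have hid : w₂.comp w₁ = PtHom.ofHom (𝟙 H₂) A := by
    refine ptHom_eq_of_nilpotent hx₂ hj₂ (fun Y a b => points_comm hD₂ a b) I hI' _ _ (PtHom.ext ?_)
    funext B _ _ ρ q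
    show (w₁.map (Ideal.Quotient.mkₐ A I)).app B ρ ((w₂.map (Ideal.Quotient.mkₐ A I)).app B ρ q) = q ≫ 𝟙 H₂
    rw [hw₁, hw₂, Category.comp_id, ← cancel_mono i₂, hv₁]
    show (spm b ρ ≫ g₀) * (v₂.app B ρ q ≫ i₁) * (spm b ρ ≫ g₀)⁻¹ = _
    rw [hv₂]
    show (spm b ρ ≫ g₀) * ((spm b ρ ≫ g₀⁻¹) * (q ≫ i₂) * (spm b ρ ≫ g₀⁻¹)⁻¹) * (spm b ρ ≫ g₀)⁻¹ = _
    rw [GrpObj.comp_inv]
    group
  obtain ⟨g, hg, hgc⟩ := exists_ptConj_lift hx₁ hj₁ ((Groth.Agent.S1488.result G.hom).mp hG).2 I hI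
    (PtHom.ofHom i₁ A) (w₁.post i₂) g₀ fun B _ _ ρ q => by
      show (w₁.map (Ideal.Quotient.mkₐ A I)).app B ρ q ≫ i₂ = _
      rw [hw₁, hv₁]
      rfl
  have hid' : Spec.map (CommRingCat.ofHom (algebraMap A A)) = 𝟙 _ := Spec.map_id _
  have hw : ∀ {X' : Over S} (x' : X' ⟶ sp b A), x'.left ≫ b = X'.hom := fun {X'} x' => by
    have h := Over.w x'
    change x'.left ≫ Spec.map (CommRingCat.ofHom (algebraMap A A)) ≫ b = X'.hom at h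
    rw [hid'] at h
    exact (congrArg (x'.left ≫ ·) (Category.id_comp b)).symm.trans h
  obtain ⟨t, ht⟩ := (hpts _ g).mpr fun X' x' => by
    refine ⟨fun h => ?_, fun h => ?_⟩
    · let tt : X' ⟶ sp b AH₁ := Over.homMk (sq₁.lift x'.left h.left ((hw x').trans (Over.w h).symm)) (by
        show _ ≫ Spec.map (CommRingCat.ofHom (algebraMap A AH₁)) ≫ b = X'.hom
        rw [sq₁.lift_fst_assoc, hw x'])
      have htx : tt ≫ x₁ = h := Over.OverMorphism.ext (sq₁.lift_snd _ _ _)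
      have htg : tt ≫ spm b (Algebra.ofId A AH₁) = x' := Over.OverMorphism.ext (sq₁.lift_fst _ _ _)
      have e := congrArg (tt ≫ ·) (hgc AH₁ (Algebra.ofId A AH₁) x₁)
      change tt ≫ (w₁.app AH₁ _ x₁ ≫ i₂) =
        tt ≫ ((spm b (Algebra.ofId A AH₁) ≫ g) * (x₁ ≫ i₁) * (spm b (Algebra.ofId A AH₁) ≫ g)⁻¹) at e
      simp only [MonObj.comp_mul, GrpObj.comp_inv, reassoc_of% htx, reassoc_of% htg] at e
      exact ⟨tt ≫ w₁.app AH₁ _ x₁, by rw [Category.assoc]; exact e.symm⟩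
    · let tt : X' ⟶ sp b AH₂ := Over.homMk (sq₂.lift x'.left h.left ((hw x').trans (Over.w h).symm)) (by
        show _ ≫ Spec.map (CommRingCat.ofHom (algebraMap A AH₂)) ≫ b = X'.hom
        rw [sq₂.lift_fst_assoc, hw x'])
      have htx : tt ≫ x₂ = h := Over.OverMorphism.ext (sq₂.lift_snd _ _ _)
      have htg : tt ≫ spm b (Algebra.ofId A AH₂) = x' := Over.OverMorphism.ext (sq₂.lift_fst _ _ _)
      let p := w₂.app AH₂ (Algebra.ofId A AH₂) x₂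
      have e := hgc AH₂ (Algebra.ofId A AH₂) p
      have hp : w₁.app AH₂ (Algebra.ofId A AH₂) p = x₂ :=
        (congrArg (fun w : PtHom b H₂ H₂ A => w.app AH₂ (Algebra.ofId A AH₂) x₂) hid).trans (Category.comp_id x₂)
      change w₁.app AH₂ _ p ≫ i₂ =
        (spm b (Algebra.ofId A AH₂) ≫ g) * (p ≫ i₁) * (spm b (Algebra.ofId A AH₂) ≫ g)⁻¹ at e
      rw [hp] at e
      have e' := congrArg (tt ≫ ·) e
      simp only [MonObj.comp_mul, GrpObj.comp_inv, reassoc_of% htx, reassoc_of% htg] at e'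
      refine ⟨tt ≫ p, ?_⟩
      rw [e', Category.assoc]
      group
  refine ⟨t.left, ?_, ?_⟩
  · rw [← cancel_mono c.left, Category.assoc]
    exact (congrArg (fun m => Spec.map (CommRingCat.ofHom (Ideal.Quotient.mk I)) ≫ CommaMorphism.left m) ht).trans
      (congrArg CommaMorphism.left hg)
  · refine (Over.w t).trans ?_
    show Spec.map (CommRingCat.ofHom (algebraMap A A)) ≫ b = b
    rw [hid', Category.id_comp]

theorem exists_sub_transporter_smooth {H₁ H₂ G : Over S} [GrpObj H₁] [GrpObj H₂] [GrpObj G]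
    (hH₁ : SGA3x.IsMultTypeFT H₁) (hH₂ : SGA3x.IsMultTypeFT H₂) (hG : Smooth G.hom) [IsAffineHom G.hom]
    (i₁ : H₁ ⟶ G) [IsMonHom i₁] [Mono i₁] (i₂ : H₂ ⟶ G) [IsMonHom i₂] [Mono i₂] :
    ∃ (T : Over S) (j : T ⟶ G), IsClosedImmersion j.left ∧ Smooth T.hom ∧
      ∀ (X : Over S) (g : X ⟶ G), (∃ t : X ⟶ T, t ≫ j = g) ↔
        ∀ (X' : Over S) (x : X' ⟶ X),
          (∀ h₁ : X' ⟶ H₁, ∃ h₂ : X' ⟶ H₂, (x ≫ g) * (h₁ ≫ i₁) * (x ≫ g)⁻¹ = h₂ ≫ i₂) ∧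
          (∀ h₂ : X' ⟶ H₂, ∃ h₁ : X' ⟶ H₁, (x ≫ g)⁻¹ * (h₂ ≫ i₂) * (x ≫ g) = h₁ ≫ i₁) := by
  haveI := hG
  have hD₁ := isLocDS_of_multTypeFT hH₁
  have hD₂ := isLocDS_of_multTypeFT hH₂
  obtain ⟨hHa₁, hHe₁⟩ := TransLib.multTypeFT_essFree hH₁
  obtain ⟨hHa₂, hHe₂⟩ := TransLib.multTypeFT_essFree hH₂
  haveI := isClosedImmersion_of_mono hD₁ i₁
  haveI := isClosedImmersion_of_mono hD₂ i₂
  have hlfp : ∀ {H : Over S} [GrpObj H], SGA3x.IsMultTypeFT H → ∀ i : H ⟶ G,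
      LocallyOfFinitePresentation i.left := fun {H} _ hH i => by
    haveI : LocallyOfFinitePresentation (i.left ≫ G.hom) := by
      rw [Over.w i]; exact HomSchLib.lfp_of_multTypeFT hH
    exact Groth.Agent.S12442.locallyOfFinitePresentation_of_comp i.left G.hom
  obtain ⟨C, c, hc, hcfp, hC⟩ := TransLib.exists_closed_universal_essFree (X := G) hHe₁
    (snd H₁ G * (fst H₁ G ≫ i₁) * (snd H₁ G)⁻¹) i₂
  haveI := hcfp inferInstance (hlfp hH₂ i₂)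
  obtain ⟨D, d, hd, hdfp, hD⟩ := TransLib.exists_closed_universal_essFree (X := C) hHe₂
    ((snd H₂ C ≫ c)⁻¹ * (fst H₂ C ≫ i₂) * (snd H₂ C ≫ c)) i₁
  haveI := hdfp inferInstance (hlfp hH₁ i₁)
  have hC' : ∀ (X : Over S) (g : X ⟶ G), (∃ z : X ⟶ C, z ≫ c = g) ↔
      ∀ (X' : Over S) (x : X' ⟶ X) (h₁ : X' ⟶ H₁),
        ∃ h₂ : X' ⟶ H₂, (x ≫ g) * (h₁ ≫ i₁) * (x ≫ g)⁻¹ = h₂ ≫ i₂ := by
    refine fun X g => (hC g).trans ⟨fun ⟨l, hl⟩ X' x a => ⟨lift a x ≫ l, ?_⟩, fun h => ?_⟩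
    · rw [Category.assoc, hl]
      simp [MonObj.comp_mul, GrpObj.comp_inv, lift_whiskerLeft_assoc]
    · obtain ⟨l, hl⟩ := h (H₁ ⊗ X) (snd H₁ X) (fst H₁ X)
      exact ⟨l, by rw [← hl]; simp [MonObj.comp_mul, GrpObj.comp_inv]⟩
  have hD' : ∀ (X : Over S) (z : X ⟶ C), (∃ t : X ⟶ D, t ≫ d = z) ↔
      ∀ (X' : Over S) (x : X' ⟶ X) (h₂ : X' ⟶ H₂),
        ∃ h₁ : X' ⟶ H₁, (x ≫ z ≫ c)⁻¹ * (h₂ ≫ i₂) * (x ≫ z ≫ c) = h₁ ≫ i₁ := by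
    refine fun X z => (hD z).trans ⟨fun ⟨l, hl⟩ X' x a => ⟨lift a x ≫ l, ?_⟩, fun h => ?_⟩
    · rw [Category.assoc, hl]
      simp [MonObj.comp_mul, GrpObj.comp_inv, lift_whiskerLeft_assoc]
    · obtain ⟨l, hl⟩ := h (H₂ ⊗ X) (snd H₂ X) (fst H₂ X)
      exact ⟨l, by rw [← hl]; simp [MonObj.comp_mul, GrpObj.comp_inv]⟩
  have hpts : ∀ (X : Over S) (g : X ⟶ G), (∃ t : X ⟶ D, t ≫ d ≫ c = g) ↔
        ∀ (X' : Over S) (x : X' ⟶ X),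
          (∀ h₁ : X' ⟶ H₁, ∃ h₂ : X' ⟶ H₂, (x ≫ g) * (h₁ ≫ i₁) * (x ≫ g)⁻¹ = h₂ ≫ i₂) ∧
          (∀ h₂ : X' ⟶ H₂, ∃ h₁ : X' ⟶ H₁, (x ≫ g)⁻¹ * (h₂ ≫ i₂) * (x ≫ g) = h₁ ≫ i₁) := by
    intro X g
    constructor
    · rintro ⟨t, rfl⟩ X' x
      have h1 := (hC' X (t ≫ d ≫ c)).mp ⟨t ≫ d, by rw [Category.assoc]⟩ X' x
      have h2 := (hD' X (t ≫ d)).mp ⟨t, rfl⟩ X' x
      exact ⟨h1, fun h₂ => by simpa only [Category.assoc] using h2 h₂⟩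
    · intro h
      obtain ⟨z, rfl⟩ := (hC' X g).mpr fun X' x => (h X' x).1
      obtain ⟨t, ht⟩ := (hD' X z).mpr fun X' x => (h X' x).2
      exact ⟨t, by rw [reassoc_of% ht]⟩
  haveI : IsClosedImmersion (d ≫ c).left := by
    show IsClosedImmersion (d.left ≫ c.left)
    infer_instance
  refine ⟨D, d ≫ c, inferInstance, (Groth.Agent.S1488.result D.hom).mpr ⟨?_, ?_⟩, hpts⟩
  · rw [← Over.w (d ≫ c)]
    haveI : LocallyOfFinitePresentation (d ≫ c).left := by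
      show LocallyOfFinitePresentation (d.left ≫ c.left)
      infer_instance
    infer_instance
  · exact isFormallySmoothHom_sub_transporter hD₁ hD₂ hG i₁ i₂ (d ≫ c) hpts

end Groth.Agent.MultConjLib
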