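import Groth.Agent.MultConjLib.FixedSmooth
import Groth.Agent.TransLib.Universal
import Groth.Agent.TransLib.MultEssFree
import Groth.Agent.S4599
import Groth.Agent.S1488

/-! The fixed point scheme of an action of a group of multiplicative type. -/

universe u

open CategoryTheory MonoidalCategory CartesianMonoidalCategory MonObj GrpObj AlgebraicGeometry

namespace Groth.Agent.MultConjLib

set_option backward.isDefEq.respectTransparency false

theorem exists_fixed_smooth {S : Scheme.{u}} {G X : Over S} [GrpObj G] (hG : SGA3x.IsMultTypeFT G) [Smooth X.hom]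
    [IsSeparated X.hom] (a : AlgGrp.Action G X) :
    ∃ (Z : Over S) (c : Z ⟶ X), IsClosedImmersion c.left ∧ Smooth Z.hom ∧
      ∀ (T : Over S) (x : T ⟶ X), (∃ y : T ⟶ Z, y ≫ c = x) ↔
        ∀ (T' : Over S) (t : T' ⟶ T) (g : T' ⟶ G), lift g (t ≫ x) ≫ a.act = t ≫ x := by
  obtain ⟨hGa, hGe⟩ := TransLib.multTypeFT_essFree hG
  haveI : QuasiCompact G.hom := inferInstance
  let d : X ⟶ X ⊗ X := lift (𝟙 X) (𝟙 X)
  have hd : d.left = Limits.pullback.diagonal X.hom := by
    apply Limits.pullback.hom_ext
    · exact (congrArg CommaMorphism.left (lift_fst (𝟙 X) (𝟙 X))).trans (Limits.pullback.diagonal_fst _).symm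
    · exact (congrArg CommaMorphism.left (lift_snd (𝟙 X) (𝟙 X))).trans (Limits.pullback.diagonal_snd _).symm
  haveI : IsClosedImmersion d.left := by rw [hd]; exact IsSeparated.diagonal_isClosedImmersion
  have hdfp : LocallyOfFinitePresentation d.left := by rw [hd]; exact Groth.Agent.S4599.result X.hom
  obtain ⟨Z, c, hc, hcfp, hZ⟩ := TransLib.exists_closed_universal_essFree hGe (lift a.act (snd G X)) d
  haveI := hcfp inferInstance hdfp
  have hpts : ∀ (T : Over S) (x : T ⟶ X), (∃ y : T ⟶ Z, y ≫ c = x) ↔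
      ∀ (T' : Over S) (t : T' ⟶ T) (g : T' ⟶ G), lift g (t ≫ x) ≫ a.act = t ≫ x := fun T x => by
    rw [hZ x]
    refine ⟨fun ⟨l, hl⟩ T' t g => ?_, fun h => ⟨(G ◁ x) ≫ snd G X, ?_⟩⟩
    · have e₁ := congrArg (lift g t ≫ · ≫ fst X X) hl
      have e₂ := congrArg (lift g t ≫ · ≫ snd X X) hl
      simp only [d, Category.assoc, lift_fst, lift_snd, Category.comp_id, lift_whiskerLeft_assoc] at e₁ e₂
      exact e₁.symm.trans e₂
    · apply CartesianMonoidalCategory.hom_ext
      · simp only [d, Category.assoc, lift_fst, Category.comp_id, whiskerLeft_snd]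
        have h' := h _ (snd G T) (fst G T)
        rw [show (G ◁ x) = lift (fst G T) (snd G T ≫ x) from CartesianMonoidalCategory.hom_ext _ _ (by simp) (by simp)]
        exact h'.symm
      · simp only [d, Category.assoc, lift_snd, Category.comp_id]
  haveI : LocallyOfFinitePresentation Z.hom := by rw [← Over.w c]; infer_instance
  haveI : Mono c.left := inferInstance
  exact ⟨Z, c, hc, (Groth.Agent.S1488.result Z.hom).mpr ⟨inferInstance,
    isFormallySmoothHom_fixed (isLocDS_of_multTypeFT hG) ((Groth.Agent.S1488.result X.hom).mp ‹_›).2 a c hpts⟩, hpts⟩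

end Groth.Agent.MultConjLib
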