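import Groth.Agent.MultConjLib.Exists
import Groth.Prelude.Def_MoreMor
import Mathlib.RingTheory.Ideal.Quotient.Nilpotent

/-!
# Lifting conjugations along nilpotent thickenings
-/

universe u

open CategoryTheory CategoryTheory.Limits MonoidalCategory CartesianMonoidalCategory MonObj GrpObj AlgebraicGeometry
open TensorProduct

namespace Groth.Agent.MultConjLib

open GrpSchLib.DiagActionRigid (sp spm spm_comp spm_id spm_left)

set_option backward.isDefEq.respectTransparency false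

variable {S : Scheme.{u}} {R : Type u} [CommRing R] {β : Spec (CommRingCat.of R) ⟶ S} {H G : Over S}
  [GrpObj H] [GrpObj G]

/-- `v` is the conjugate of `u` by `g` on all points over `T`. -/
def ConjOn (u v : H ⟶ G) {T : Type u} [CommRing T] [Algebra R T] (g : sp β T ⟶ G) : Prop :=
  ∀ (B : Type u) [CommRing B] [Algebra R B] [Algebra T B] [IsScalarTower R T B] (q : sp β B ⟶ H),
    q ≫ v = (spm β (IsScalarTower.toAlgHom R T B) ≫ g) * (q ≫ u) * (spm β (IsScalarTower.toAlgHom R T B) ≫ g)⁻¹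

theorem ConjOn.map {u v : H ⟶ G} {T T' : Type u} [CommRing T] [Algebra R T] [CommRing T'] [Algebra R T']
    {g : sp β T ⟶ G} (h : ConjOn u v g) (f : T →ₐ[R] T') : ConjOn u v (spm β f ≫ g) := by
  intro B _ _ _ _ q
  let φ : T →ₐ[R] B := (IsScalarTower.toAlgHom R T' B).comp f
  letI : Algebra T B := φ.toRingHom.toAlgebra
  haveI : IsScalarTower R T B := IsScalarTower.of_algebraMap_eq fun r => (φ.commutes r).symm
  rw [← Category.assoc, spm_comp, show (IsScalarTower.toAlgHom R T' B).comp f = IsScalarTower.toAlgHom R T B from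
    AlgHom.ext fun _ => rfl]
  exact h B q

variable {A : Type u} [CommRing A] [Algebra R A] {x : sp β A ⟶ H} {j : A →ₗ[R] R}
variable {u v : H ⟶ G} [IsMonHom u] [IsMonHom v]

theorem exists_lift_step (hx : IsUniv x) (hj : IsInt x j) (hG : MoreMor.IsFormallySmoothHom G.hom)
    {T : Type u} [CommRing T] [Algebra R T] (L : Ideal T) (hL : L ^ 2 = ⊥) (g₀ : sp β (T ⧸ L) ⟶ G)
    (h0 : ConjOn u v g₀) :
    ∃ g : sp β T ⟶ G, spm β (Ideal.Quotient.mkₐ R L) ≫ g = g₀ ∧ ConjOn u v g := by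
  obtain ⟨l, hl₁, hl₂⟩ := hG T L hL g₀.left (Spec.map (CommRingCat.ofHom (algebraMap R T)) ≫ β) (by
    rw [Over.w g₀, ← Category.assoc, ← Spec.map_comp]
    rfl)
  let g' : sp β T ⟶ G := Over.homMk l hl₂
  have hg' : spm β (Ideal.Quotient.mkₐ R L) ≫ g' = g₀ := Over.OverMorphism.ext hl₁
  obtain ⟨g, hg, hgv⟩ := exists_conj hx hj L hL u v g' fun B _ _ _ _ hB q => by
    have hker : ∀ z ∈ L, algebraMap T B z = 0 := fun z hz => by
      rw [← Ideal.mem_bot, ← hB]
      exact Ideal.mem_map_of_mem _ hz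
    let φ : T ⧸ L →+* B := Ideal.Quotient.lift L (algebraMap T B) hker
    letI : Algebra (T ⧸ L) B := φ.toAlgebra
    haveI : IsScalarTower R (T ⧸ L) B := IsScalarTower.of_algebraMap_eq fun r =>
      (IsScalarTower.algebraMap_apply R T B r : _)
    have h := h0 B q
    rw [← hg', ← Category.assoc, spm_comp, show (IsScalarTower.toAlgHom R (T ⧸ L) B).comp (Ideal.Quotient.mkₐ R L) =
      IsScalarTower.toAlgHom R T B from AlgHom.ext fun _ => rfl] at h
    exact h
  exact ⟨g, hg.trans hg', fun B _ _ _ _ q => hgv B q⟩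

theorem exists_lift_nilpotent (hx : IsUniv x) (hj : IsInt x j) (hG : MoreMor.IsFormallySmoothHom G.hom)
    {T : Type u} [CommRing T] [Algebra R T] (L : Ideal T) (hL : IsNilpotent L) (g₀ : sp β (T ⧸ L) ⟶ G)
    (h0 : ConjOn u v g₀) :
    ∃ g : sp β T ⟶ G, spm β (Ideal.Quotient.mkₐ R L) ≫ g = g₀ ∧ ConjOn u v g := by
  revert g₀
  revert ‹Algebra R T›
  apply Ideal.IsNilpotent.induction_on (S := T) L hL
  · intro T _ I hI _ g₀ h0
    exact exists_lift_step hx hj hG I hI g₀ h0
  · intro T _ I J hIJ h₁ h₂ _ g₀ h0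
    let e : ((T ⧸ I) ⧸ J.map (Ideal.Quotient.mk I)) ≃ₐ[R] T ⧸ J :=
      { (DoubleQuot.quotQuotEquivQuotSup I J).trans (Ideal.quotEquivOfEq (sup_eq_right.mpr hIJ)) with
        commutes' := fun x => rfl }
    obtain ⟨g', hg', hgc'⟩ := h₂ (spm β e.symm.toAlgHom ≫ g₀) (h0.map _)
    obtain ⟨g, hg, hgc⟩ := h₁ g' hgc'
    refine ⟨g, ?_, hgc⟩
    subst hg
    have h := congrArg (spm β e.toAlgHom ≫ ·) hg'
    simp only [← Category.assoc, spm_comp] at h
    rw [show e.toAlgHom.comp e.symm.toAlgHom = AlgHom.id R (T ⧸ J) from e.comp_symm, spm_id, Category.id_comp] at h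
    exact h

end Groth.Agent.MultConjLib
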