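import Groth.Agent.MultConjLib.ToHom
import Groth.Agent.S5272
import Groth.Agent.S5273

/-!
# Conjugacy of subgroups of multiplicative type over thickenings
-/

universe u

open CategoryTheory CategoryTheory.Limits MonoidalCategory CartesianMonoidalCategory MonObj GrpObj AlgebraicGeometry
open TensorProduct

namespace Groth.Agent.MultConjLib

open GrpSchLib.DiagActionRigid (sp spm spm_comp spm_id spm_left)

set_option backward.isDefEq.respectTransparency false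

variable {R : Type u} [CommRing R] (J : Ideal R)

local notation "𝔅" => 𝟙 (Spec (CommRingCat.of R))
local notation "S₀" => (Over.mk (Spec.map (CommRingCat.ofHom (Ideal.Quotient.mk J))) : Over (Spec (CommRingCat.of R)))

/-- Points over `R ⧸ J` map to the reduced base. -/
noncomputable def toS₀ {B : Type u} [CommRing B] [Algebra R B] (ρ : (R ⧸ J) →ₐ[R] B) :
    sp 𝔅 B ⟶ S₀ :=
  Over.homMk (Spec.map (CommRingCat.ofHom ρ.toRingHom)) (by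
    show Spec.map _ ≫ Spec.map _ = Spec.map (CommRingCat.ofHom (algebraMap R B)) ≫ 𝟙 _
    rw [Category.comp_id, ← Spec.map_comp, ← CommRingCat.ofHom_comp]
    congr 2
    exact ρ.comp_algebraMap)

theorem exists_algHom_of_toS₀ {X : Over (Spec (CommRingCat.of R))} {B : Type u} [CommRing B] [Algebra R B]
    (τ : sp 𝔅 B ≅ X) (p : X ⟶ S₀) : ∃ ρ : (R ⧸ J) →ₐ[R] B, τ.hom ≫ p = toS₀ J ρ := by
  obtain ⟨ψ, hψ⟩ := Spec.map_surjective (τ.hom ≫ p).left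
  have hw : (τ.hom ≫ p).left ≫ Spec.map (CommRingCat.ofHom (Ideal.Quotient.mk J)) =
      Spec.map (CommRingCat.ofHom (algebraMap R B)) ≫ 𝟙 _ := Over.w (τ.hom ≫ p)
  rw [Category.comp_id, ← hψ, ← Spec.map_comp] at hw
  exact ⟨{ ψ.hom with commutes' := fun r => RingHom.congr_fun (congrArg CommRingCat.Hom.hom (Spec.map_injective hw)) r },
    Over.OverMorphism.ext hψ.symm⟩

variable {J} {G H H' : Over (Spec (CommRingCat.of R))} [GrpObj G] [GrpObj H] [GrpObj H']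

/-- Two homomorphisms which agree on points over `R ⧸ J` agree on all points over the reduced base. -/
theorem eq_on_reduced [IsAffineHom H.hom] (u v : H ⟶ G)
    (h : ∀ (B : Type u) [CommRing B] [Algebra R B] (ρ : (R ⧸ J) →ₐ[R] B) (q : sp 𝔅 B ⟶ H), q ≫ u = q ≫ v)
    (X : Over (Spec (CommRingCat.of R))) (p : X ⟶ S₀) (z : X ⟶ H) : z ≫ u = z ≫ v := by
  -- it is enough to treat the universal point
  haveI : IsAffine H.left := isAffine_of_isAffineHom H.hom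
  haveI : IsAffine (H ⊗ S₀).left := by
    show IsAffine (pullback H.hom (Spec.map _))
    haveI : IsAffine (Spec (CommRingCat.of (R ⧸ J))) := inferInstance
    exact isAffine_of_isAffineHom (pullback.snd H.hom (Spec.map (CommRingCat.ofHom (Ideal.Quotient.mk J))))
  obtain ⟨B, _, _, ⟨τ⟩⟩ := exists_sp_iso (H ⊗ S₀)
  obtain ⟨ρ, -⟩ := exists_algHom_of_toS₀ J τ (snd H S₀)
  have huniv : fst H S₀ ≫ u = fst H S₀ ≫ v := by
    rw [← cancel_epi τ.hom, ← Category.assoc, ← Category.assoc]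
    exact h B ρ _
  have := congrArg (lift z p ≫ ·) huniv
  simpa using this

/-- The same for conjugations. -/
theorem conj_on_reduced [IsAffineHom H.hom] (u v : H ⟶ G) (g₀ : S₀ ⟶ G)
    (h : ∀ (B : Type u) [CommRing B] [Algebra R B] (ρ : (R ⧸ J) →ₐ[R] B) (q : sp 𝔅 B ⟶ H),
      q ≫ v = (toS₀ J ρ ≫ g₀) * (q ≫ u) * (toS₀ J ρ ≫ g₀)⁻¹)
    (X : Over (Spec (CommRingCat.of R))) (p : X ⟶ S₀) (z : X ⟶ H) :
    z ≫ v = (p ≫ g₀) * (z ≫ u) * (p ≫ g₀)⁻¹ := by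
  haveI : IsAffine H.left := isAffine_of_isAffineHom H.hom
  haveI : IsAffine (H ⊗ S₀).left := by
    show IsAffine (pullback H.hom (Spec.map _))
    haveI : IsAffine (Spec (CommRingCat.of (R ⧸ J))) := inferInstance
    exact isAffine_of_isAffineHom (pullback.snd H.hom (Spec.map (CommRingCat.ofHom (Ideal.Quotient.mk J))))
  obtain ⟨B, _, _, ⟨τ⟩⟩ := exists_sp_iso (H ⊗ S₀)
  obtain ⟨ρ, hρ⟩ := exists_algHom_of_toS₀ J τ (snd H S₀)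
  have huniv : fst H S₀ ≫ v = (snd H S₀ ≫ g₀) * (fst H S₀ ≫ u) * (snd H S₀ ≫ g₀)⁻¹ := by
    rw [← cancel_epi τ.hom]
    simp only [MonObj.comp_mul, GrpObj.comp_inv, ← Category.assoc, hρ]
    exact h B ρ _
  have := congrArg (lift z p ≫ ·) huniv
  simpa only [MonObj.comp_mul, GrpObj.comp_inv, lift_fst_assoc, lift_snd_assoc] using this

/-- Subgroups of multiplicative type conjugate over `R ⧸ J`: the isomorphism lifts. -/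
theorem exists_iso_lift (hH : IsLocDS H) (hH' : IsLocDS H') (hJ : IsNilpotent J) (i : H ⟶ G) [IsMonHom i] [Mono i]
    (i' : H' ⟶ G) [IsMonHom i'] [Mono i'] (g₀ : S₀ ⟶ G)
    (h₁ : ∀ (B : Type u) [CommRing B] [Algebra R B] (ρ : (R ⧸ J) →ₐ[R] B) (q : sp 𝔅 B ⟶ H),
      ∃ q' : sp 𝔅 B ⟶ H', (toS₀ J ρ ≫ g₀) * (q ≫ i) * (toS₀ J ρ ≫ g₀)⁻¹ = q' ≫ i')
    (h₂ : ∀ (B : Type u) [CommRing B] [Algebra R B] (ρ : (R ⧸ J) →ₐ[R] B) (q' : sp 𝔅 B ⟶ H'),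
      ∃ q : sp 𝔅 B ⟶ H, (toS₀ J ρ ≫ g₀)⁻¹ * (q' ≫ i') * (toS₀ J ρ ≫ g₀) = q ≫ i) :
    ∃ φ : H ≅ H', IsMonHom φ.hom ∧
      ∀ (X : Over (Spec (CommRingCat.of R))) (p : X ⟶ S₀) (z : X ⟶ H),
        z ≫ φ.hom ≫ i' = (p ≫ g₀) * (z ≫ i) * (p ≫ g₀)⁻¹ := by
  haveI := isAffineHom_of_locDS hH
  haveI := isAffineHom_of_locDS hH'
  let gp : sp 𝔅 (R ⧸ J) ⟶ G := toS₀ J (AlgHom.id R (R ⧸ J)) ≫ g₀
  have hgp : ∀ {B : Type u} [CommRing B] [Algebra R B] (ρ : (R ⧸ J) →ₐ[R] B),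
      spm 𝔅 ρ ≫ gp = toS₀ J ρ ≫ g₀ := fun {B} _ _ ρ => by
    rw [← Category.assoc]
    congr 1
    exact Over.OverMorphism.ext ((Spec.map_comp _ _).symm.trans rfl)
  obtain ⟨v₁, hv₁⟩ := PtHom.exists_factor i' ((PtHom.ofHom i (R ⧸ J)).conj gp) fun B _ _ ρ q => by
    obtain ⟨q', hq'⟩ := h₁ B ρ q
    exact ⟨q', by show _ = (spm 𝔅 ρ ≫ gp) * (q ≫ i) * (spm 𝔅 ρ ≫ gp)⁻¹; rw [hgp, hq']⟩
  obtain ⟨v₂, hv₂⟩ := PtHom.exists_factor i ((PtHom.ofHom i' (R ⧸ J)).conj gp⁻¹) fun B _ _ ρ q => by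
    obtain ⟨q', hq'⟩ := h₂ B ρ q
    refine ⟨q', ?_⟩
    show _ = (spm 𝔅 ρ ≫ gp⁻¹) * (q ≫ i') * (spm 𝔅 ρ ≫ gp⁻¹)⁻¹
    rw [GrpObj.comp_inv, hgp, _root_.inv_inv, hq']
  obtain ⟨w₁, hw₁⟩ := exists_ptHom_lift hH hH' J hJ v₁
  obtain ⟨w₂, hw₂⟩ := exists_ptHom_lift hH' hH J hJ v₂
  obtain ⟨f₁, _, hf₁⟩ := exists_hom_of_ptHom w₁
  obtain ⟨f₂, _, hf₂⟩ := exists_hom_of_ptHom w₂
  subst hf₁ hf₂
  have e₁ : ∀ (B : Type u) [CommRing B] [Algebra R B] (ρ : (R ⧸ J) →ₐ[R] B) (q : sp 𝔅 B ⟶ H),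
      (q ≫ f₁) ≫ i' = (toS₀ J ρ ≫ g₀) * (q ≫ i) * (toS₀ J ρ ≫ g₀)⁻¹ := fun B _ _ ρ q => by
    have h := hv₁ B ρ q
    rw [← hw₁] at h
    refine h.trans ?_
    show (spm 𝔅 ρ ≫ gp) * (q ≫ i) * (spm 𝔅 ρ ≫ gp)⁻¹ = _
    rw [hgp]
  have e₂ : ∀ (B : Type u) [CommRing B] [Algebra R B] (ρ : (R ⧸ J) →ₐ[R] B) (q : sp 𝔅 B ⟶ H'),
      (q ≫ f₂) ≫ i = (toS₀ J ρ ≫ g₀)⁻¹ * (q ≫ i') * (toS₀ J ρ ≫ g₀) := fun B _ _ ρ q => by
    have h := hv₂ B ρ q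
    rw [← hw₂] at h
    refine h.trans ?_
    show (spm 𝔅 ρ ≫ gp⁻¹) * (q ≫ i') * (spm 𝔅 ρ ≫ gp⁻¹)⁻¹ = _
    rw [GrpObj.comp_inv, hgp, _root_.inv_inv]
  have hid : ∀ {K : Over (Spec (CommRingCat.of R))} [GrpObj K], IsLocDS K → ∀ (f : K ⟶ K) [IsMonHom f],
      (∀ (B : Type u) [CommRing B] [Algebra R B] (_ : (R ⧸ J) →ₐ[R] B) (q : sp 𝔅 B ⟶ K), q ≫ f = q) → f = 𝟙 K := by
    intro K _ hK f _ h
    haveI := isAffineHom_of_locDS hK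
    obtain ⟨A, _, _, x, hx, -, -, j, hj⟩ := exists_univ_int hK 𝔅
    refine hom_ext_of_ptHom (ptHom_eq_of_nilpotent hx hj (fun Y a b => points_comm hK a b) J hJ _ _ ?_)
    refine PtHom.ext ?_
    funext B _ _ ρ q
    exact (h B ρ q).trans (Category.comp_id q).symm
  refine ⟨⟨f₁, f₂, hid hH _ fun B _ _ ρ q => ?_, hid hH' _ fun B _ _ ρ q => ?_⟩, ‹_›, fun X p z => ?_⟩
  · rw [← cancel_mono i, ← Category.assoc, e₂ B ρ, e₁ B ρ]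
    group
  · rw [← cancel_mono i', ← Category.assoc, e₁ B ρ, e₂ B ρ]
    group
  · refine conj_on_reduced i (f₁ ≫ i') g₀ (fun B _ _ ρ q => ?_) X p z
    rw [← Category.assoc]
    exact e₁ B ρ q

/-- A conjugated homomorphism which factors over `R ⧸ J` lifts to the subgroup. -/
theorem exists_hom_lift_into {K : Over (Spec (CommRingCat.of R))} [GrpObj K] (hH : IsLocDS H)
    (hK : Smooth K.hom ∨ IsLocDS K) (hJ : IsNilpotent J) (k : K ⟶ G) [IsMonHom k] [Mono k] (u : H ⟶ G) [IsMonHom u]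
    (g₀ : S₀ ⟶ G)
    (h₁ : ∀ (B : Type u) [CommRing B] [Algebra R B] (ρ : (R ⧸ J) →ₐ[R] B) (q : sp 𝔅 B ⟶ H),
      ∃ q' : sp 𝔅 B ⟶ K, (toS₀ J ρ ≫ g₀) * (q ≫ u) * (toS₀ J ρ ≫ g₀)⁻¹ = q' ≫ k) :
    ∃ (w : H ⟶ K) (_ : IsMonHom w), ∀ (X : Over (Spec (CommRingCat.of R))) (p : X ⟶ S₀) (z : X ⟶ H),
        z ≫ w ≫ k = (p ≫ g₀) * (z ≫ u) * (p ≫ g₀)⁻¹ := by
  haveI := isAffineHom_of_locDS hH
  let gp : sp 𝔅 (R ⧸ J) ⟶ G := toS₀ J (AlgHom.id R (R ⧸ J)) ≫ g₀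
  have hgp : ∀ {B : Type u} [CommRing B] [Algebra R B] (ρ : (R ⧸ J) →ₐ[R] B),
      spm 𝔅 ρ ≫ gp = toS₀ J ρ ≫ g₀ := fun {B} _ _ ρ => by
    rw [← Category.assoc]
    congr 1
    exact Over.OverMorphism.ext ((Spec.map_comp _ _).symm.trans rfl)
  obtain ⟨v₁, hv₁⟩ := PtHom.exists_factor k ((PtHom.ofHom u (R ⧸ J)).conj gp) fun B _ _ ρ q => by
    obtain ⟨q', hq'⟩ := h₁ B ρ q
    exact ⟨q', by show _ = (spm 𝔅 ρ ≫ gp) * (q ≫ u) * (spm 𝔅 ρ ≫ gp)⁻¹; rw [hgp, hq']⟩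
  obtain ⟨w₁, hw₁⟩ : ∃ w : PtHom 𝔅 H K R, w.map (Ideal.Quotient.mkₐ R J) = v₁ := by
    rcases hK with hK | hK
    · obtain ⟨A, _, _, x, hx, -, -, j, hj⟩ := exists_univ_int hH 𝔅
      exact exists_hom_lift_nilpotent hx hj ((Groth.Agent.S1488.result K.hom).mp hK).2 J hJ v₁
    · exact exists_ptHom_lift hH hK J hJ v₁
  obtain ⟨f₁, _, hf₁⟩ := exists_hom_of_ptHom w₁
  subst hf₁
  refine ⟨f₁, ‹_›, conj_on_reduced u (f₁ ≫ k) g₀ fun B _ _ ρ q => ?_⟩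
  have h := hv₁ B ρ q
  rw [← hw₁] at h
  rw [← Category.assoc]
  refine h.trans ?_
  show (spm 𝔅 ρ ≫ gp) * (q ≫ u) * (spm 𝔅 ρ ≫ gp)⁻¹ = _
  rw [hgp]

end Groth.Agent.MultConjLib
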