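import Groth.Agent.GrpSchLib.HomFibre
import Groth.Agent.GrpSchLib.RankOneNonComm
import Groth.Agent.AlgSpLib.EtTopInv
import Groth.Agent.S8395
import Groth.Agent.DSPtsLib.Basic

/-!
# Lifting torsion points along thickenings into the etale locus of the power maps

Over a topologically trivial thickening a point killed by an integer which is invertible on the base, and lying in the
etale locus of the corresponding power map, lifts uniquely as such a point.
-/

universe u

open CategoryTheory CategoryTheory.Limits MonoidalCategory CartesianMonoidalCategory MonObj GrpObj AlgebraicGeometry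
open scoped CategoryTheory.Obj

namespace Groth.Agent.MultConjLib.CentralLift

open GrpSchLib

set_option backward.isDefEq.respectTransparency false

variable {S : Scheme.{u}}

/-- Integral, universally injective and surjective morphisms. -/
structure Th {X₀ X : Scheme.{u}} (c : X₀ ⟶ X) : Prop where
  integral : IsIntegralHom c
  inj : UniversallyInjective c
  surj : Surjective c

theorem Th.of_isPullback {P X Y Z : Scheme.{u}} {a : P ⟶ X} {b : P ⟶ Y} {f : X ⟶ Z} {g : Y ⟶ Z}
    (h : IsPullback a b f g) (hg : Th g) : Th a :=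
  ⟨MorphismProperty.of_isPullback (P := @IsIntegralHom) h.flip hg.integral,
    MorphismProperty.of_isPullback (P := @UniversallyInjective) h.flip hg.inj,
    MorphismProperty.of_isPullback (P := @Surjective) h.flip hg.surj⟩

variable {G : Over S} [GrpObj G]

/-- Points of `G` where every power map of exponent prime to the residue characteristic is etale. -/
def EtAt (G : Over S) [GrpObj G] (g : G.left) : Prop :=
  ∀ n : ℕ, (n : S.residueField (G.hom g)) ≠ 0 → g ∈ Loci.loc @Etale (𝟙 G ^ n : G ⟶ G).left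

/-- A point whose image lies in the etale loci of the power maps. -/
def InU {X : Over S} (x : X ⟶ G) : Prop := ∀ p, EtAt G (x.left p)

/-- Locally on the base killed by an integer invertible on the base. -/
def Tors {X : Over S} (x : X ⟶ G) : Prop :=
  ∀ p, ∃ (n : ℕ) (V : S.Opens), X.hom p ∈ V ∧ (∀ t : S, t ∈ V → (n : S.residueField t) ≠ 0) ∧
    ∀ (Y : Over S) (h : Y ⟶ X), (∀ q, Y.hom q ∈ V) → (h ≫ x) ^ n = 1

theorem hom_left_apply {X Y : Over S} (h : X ⟶ Y) (q : X.left) : Y.hom (h.left q) = X.hom q := by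
  rw [← Scheme.Hom.comp_apply, Over.w h]

theorem Tors.precomp {X Y : Over S} {x : X ⟶ G} (hx : Tors x) (h : Y ⟶ X) : Tors (h ≫ x) := fun p => by
  obtain ⟨n, V, hV, hn, hk⟩ := hx (h.left p)
  rw [hom_left_apply] at hV
  exact ⟨n, V, hV, hn, fun Z g hg => by rw [← Category.assoc]; exact hk Z (g ≫ h) hg⟩

theorem Tors.comp_hom {X G' : Over S} [GrpObj G'] {x : X ⟶ G} (hx : Tors x) (f : G ⟶ G') [IsMonHom f] :
    Tors (x ≫ f) := fun p => by
  obtain ⟨n, V, hV, hn, hk⟩ := hx p
  refine ⟨n, V, hV, hn, fun Z g hg => ?_⟩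
  rw [← Category.assoc, ← MonObj.pow_comp, hk Z g hg, MonObj.one_comp]

theorem Tors.mul {X : Over S} {x y : X ⟶ G} (hx : Tors x) (hy : Tors y)
    (hc : ∀ (Y : Over S) (h : Y ⟶ X), (h ≫ x) * (h ≫ y) = (h ≫ y) * (h ≫ x)) : Tors (x * y) := fun p => by
  obtain ⟨n, V, hV, hn, hk⟩ := hx p
  obtain ⟨m, W, hW, hm, hk'⟩ := hy p
  refine ⟨n * m, V ⊓ W, ⟨hV, hW⟩, fun t ht => by rw [Nat.cast_mul]; exact mul_ne_zero (hn t ht.1) (hm t ht.2),
    fun Z g hg => ?_⟩
  rw [MonObj.comp_mul, Commute.mul_pow (hc Z g), pow_mul, hk Z g fun q => (hg q).1, Nat.mul_comm n m, pow_mul,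
    hk' Z g fun q => (hg q).2, _root_.one_pow, _root_.one_pow, _root_.one_mul]

theorem Tors.conj {X : Over S} {x : X ⟶ G} (hx : Tors x) (g : X ⟶ G) : Tors (g * x * g⁻¹) := fun p => by
  obtain ⟨n, V, hV, hn, hk⟩ := hx p
  refine ⟨n, V, hV, hn, fun Z h hh => ?_⟩
  rw [MonObj.comp_mul, MonObj.comp_mul, GrpObj.comp_inv, conj_pow, hk Z h hh, _root_.mul_one, mul_inv_cancel]

/-- A central point over a field lies in the etale loci of the power maps. -/
theorem etAt_of_central [LocallyOfFinitePresentation G.hom] [Flat G.hom] {K : Type u} [Field K]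
    (β : Spec (CommRingCat.of K) ⟶ S) (g : Over.mk β ⟶ G)
    (hg : ∀ (Y : Over S) (q : Y ⟶ Over.mk β) (y : Y ⟶ G), (q ≫ g) * y = y * (q ≫ g))
    (p : Spec (CommRingCat.of K)) : EtAt G (g.left p) := by
  intro n hn
  obtain rfl : p = IsLocalRing.closedPoint K := Subsingleton.elim (α := PrimeSpectrum K) _ _
  set p : Spec (CommRingCat.of K) := IsLocalRing.closedPoint K
  set s : S := β p with hs
  rw [hom_left_apply] at hn
  change (n : S.residueField s) ≠ 0 at hn
  let φ : G ⟶ G := 𝟙 G ^ n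
  haveI : LocallyOfFinitePresentation φ.left := HomFibre.lfp_of_flat_lfp φ
  let GK : Over (Spec (CommRingCat.of K)) := (Over.pullback β).obj G
  haveI : LocallyOfFiniteType GK.hom := inferInstanceAs (LocallyOfFiniteType (pullback.snd G.hom β))
  -- the point over `K`
  let ι₀ : (Over.map β).obj (𝟙_ (Over (Spec (CommRingCat.of K)))) ⟶ Over.mk β :=
    Over.homMk (𝟙 _) rfl
  obtain ⟨gK, hgK⟩ := (DSPtsLib.theta_bijective (g := β) (H := G) (Y := 𝟙_ (Over (Spec (CommRingCat.of K))))).2 (ι₀ ≫ g)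
  have hcK : ∀ (X : Over (Spec (CommRingCat.of K))) (x : X ⟶ GK), (toUnit X ≫ gK) * x = x * (toUnit X ≫ gK) := by
    intro X x
    apply (DSPtsLib.theta_bijective (g := β) (H := G)).1
    rw [DSPtsLib.theta_mul, DSPtsLib.theta_mul, DSPtsLib.theta_comp, hgK, ← Category.assoc]
    exact hg _ _ _
  have hnK : (n : K) ≠ 0 := by
    have e := map_natCast (Scheme.descResidueField (Scheme.stalkClosedPointTo β)).hom n
    rw [← e]
    exact fun h => hn ((map_eq_zero_iff _ (RingHom.injective _)).mp h)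
  obtain ⟨U, hU, hUe⟩ := S8395.result K GK n hnK gK hcK
  let t : Spec (CommRingCat.of K) ⟶ Spec (S.residueField s) := Spec.map (Scheme.descResidueField (Scheme.stalkClosedPointTo β))
  have hw : gK.left p ∈ Loci.loc @Etale ((Over.pullback β).map φ).left := by
    have e : (Over.pullback β).map φ = 𝟙 GK ^ n := by
      show (Over.pullback β).homMonoidHom (𝟙 G ^ n) = _
      rw [_root_.map_pow]
      show ((Over.pullback β).map (𝟙 G)) ^ n = _
      rw [CategoryTheory.Functor.map_id]
    rw [e]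
    exact ⟨U, hU ⟨p, rfl⟩, hUe⟩
  have hgp : pullback.fst G.hom β (gK.left p) = g.left p := by
    have h := congrArg (fun m : (Over.map β).obj (𝟙_ (Over (Spec (CommRingCat.of K)))) ⟶ G =>
      m.left.base p) hgK
    exact (show pullback.fst G.hom β (gK.left p) = (DSPtsLib.theta β gK).left p from
      (Scheme.Hom.comp_apply _ _ _).symm).trans h
  rw [← hgp]
  -- descend to the fibre
  have ht : t ≫ S.fromSpecResidueField s = β := Scheme.descResidueField_stalkClosedPointTo_fromSpecResidueField K S β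
  let i := S.fromSpecResidueField s
  let v : pullback G.hom β ⟶ pullback G.hom i :=
    pullback.lift (pullback.fst _ _) (pullback.snd _ _ ≫ t) (by rw [Category.assoc, ht, pullback.condition])
  have hv : IsPullback v (pullback.snd G.hom β) (pullback.snd G.hom i) t := by
    refine IsPullback.of_right ?_ (pullback.lift_snd _ _ _) (IsPullback.of_hasPullback G.hom i)
    rw [pullback.lift_fst, ht]
    exact IsPullback.of_hasPullback G.hom β
  have hsq : IsPullback v ((Over.pullback β).map φ).left (HomFibre.fib φ s).left v := by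
    refine IsPullback.of_right ?_ ?_ (HomFibre.map_isPullback φ i)
    · rw [pullback.lift_fst]
      exact HomFibre.map_isPullback φ β
    · apply pullback.hom_ext
      · show (v ≫ ((Over.pullback i).map φ).left) ≫ pullback.fst G.hom i =
          (((Over.pullback β).map φ).left ≫ v) ≫ pullback.fst G.hom i
        rw [Category.assoc, Category.assoc, pullback.lift_fst,
          show ((Over.pullback i).map φ).left ≫ pullback.fst G.hom i = pullback.fst G.hom i ≫ φ.left from
            pullback.lift_fst _ _ _,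
          show ((Over.pullback β).map φ).left ≫ pullback.fst G.hom β = pullback.fst G.hom β ≫ φ.left from
            pullback.lift_fst _ _ _, pullback.lift_fst_assoc]
      · show (v ≫ ((Over.pullback i).map φ).left) ≫ pullback.snd G.hom i =
          (((Over.pullback β).map φ).left ≫ v) ≫ pullback.snd G.hom i
        rw [Category.assoc, Category.assoc, pullback.lift_snd,
          show ((Over.pullback i).map φ).left ≫ pullback.snd G.hom i = pullback.snd G.hom i from
            Over.w ((Over.pullback i).map φ),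
          show ((Over.pullback β).map φ).left ≫ pullback.snd G.hom β ≫ t = pullback.snd G.hom β ≫ t from
            congrArg (· ≫ t) (Over.w ((Over.pullback β).map φ)) |> (Category.assoc _ _ _).symm.trans,
          pullback.lift_snd]
  have hflat : Flat v := by
    refine MorphismProperty.of_isPullback hv.flip ?_
    rw [HasRingHomProperty.Spec_iff (P := @Flat)]
    exact RingHom.Flat.of_isField (Field.toIsField _) _
  have hfst : pullback.fst G.hom β (gK.left p) = HomFibre.incl G s (v (gK.left p)) := by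
    show _ = pullback.fst G.hom i (v (gK.left p))
    rw [← Scheme.Hom.comp_apply v, pullback.lift_fst]
  rw [hfst, ← HomFibre.etale_iff φ s]
  -- smoothness and unramifiedness descend along the flat projection
  set z := gK.left p
  let d := (HomFibre.fib φ s).left
  haveI : LocallyOfFinitePresentation d := HomFibre.fib_lfp φ i
  haveI : LocallyOfFinitePresentation ((Over.pullback β).map φ).left := HomFibre.fib_lfp φ β
  rw [Loci.etale_loc_eq] at hw ⊢
  refine ⟨?_, ?_⟩
  · have h1 := hw.1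
    rw [HomFibre.mem_loc_smooth_iff] at h1 ⊢
    rw [S2155.result d v _ v hsq (.inr hflat)] at h1
    exact h1
  · obtain ⟨U', hz, hU', -⟩ := hw.2
    have h1 : MorLib.UnrLocus.Loc ((Over.pullback β).map φ).left z := ⟨U', hz, hU'⟩
    rw [← hsq.isoPullback_hom_snd, MorLib.UnrLocus.loc_comp_left, MorLib.UnrLocus.loc_pullback,
      ← Scheme.Hom.comp_apply, hsq.isoPullback_hom_fst] at h1
    obtain ⟨W, hW, hu⟩ := h1
    exact ⟨W, hW, hu, MorphismProperty.comp_mem @LocallyOfFinitePresentation _ _ inferInstance ‹_›⟩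

section Lift

variable (n : ℕ)

/-- The points killed by `n` in the etale locus of the `n`-th power map. -/
theorem exists_torsPt : ∃ (E : Over S) (e : E ⟶ G), Etale E.hom ∧ Mono e ∧ e ^ n = 1 ∧
    ∀ (X : Over S) (x : X ⟶ G), x ^ n = 1 → (∀ p, x.left p ∈ Loci.loc @Etale (𝟙 G ^ n : G ⟶ G).left) →
      ∃ x' : X ⟶ E, x' ≫ e = x := by
  classical
  let φ : G ⟶ G := 𝟙 G ^ n
  let W : G.left.Opens := ⟨Loci.loc @Etale φ.left, Loci.isOpen_loc _ _⟩
  haveI : Etale (W.ι ≫ φ.left) := Loci.of_forall_mem @Etale _ fun x => by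
    obtain ⟨U, hx, hU⟩ := x.2
    refine ⟨W.ι ⁻¹ᵁ U, hx, ?_⟩
    rw [← morphismRestrict_ι_assoc]
    exact IsZariskiLocalAtSource.comp hU _
  let one : 𝟙_ (Over S) ⟶ G := η[G]
  let E : Over S := Over.mk (pullback.snd (W.ι ≫ φ.left) one.left)
  have hη : one.left ≫ G.hom = 𝟙 S := Over.w one
  have hE : (pullback.fst (W.ι ≫ φ.left) one.left ≫ W.ι) ≫ G.hom = E.hom := by
    have h : W.ι ≫ G.hom = (W.ι ≫ φ.left) ≫ G.hom := by rw [Category.assoc, Over.w φ]
    rw [Category.assoc, h, ← Category.assoc, pullback.condition, Category.assoc, hη]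
    exact Category.comp_id _
  let e : E ⟶ G := Over.homMk (pullback.fst (W.ι ≫ φ.left) one.left ≫ W.ι) hE
  have hpow : ∀ (X : Over S) (x : X ⟶ G), x ^ n = 1 ↔ x.left ≫ φ.left = X.hom ≫ one.left := fun X x => by
    have h : x ≫ φ = x ^ n := by rw [MonObj.comp_pow, Category.comp_id]
    have h1 : (1 : X ⟶ G) = toUnit X ≫ one := by rw [Hom.one_def]
    rw [← h, h1]
    exact ⟨fun hx => congrArg CommaMorphism.left hx, fun hx => Over.OverMorphism.ext hx⟩
  refine ⟨E, e, MorphismProperty.pullback_snd _ _ ‹_›, ?_, ?_, fun X x hx hU => ?_⟩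
  · have : Mono one.left := by
      haveI : Mono (one.left ≫ G.hom) := by rw [hη]; exact inferInstanceAs (Mono (𝟙 S))
      exact mono_of_mono one.left G.hom
    have : Mono e.left := inferInstanceAs (Mono (pullback.fst (W.ι ≫ φ.left) one.left ≫ W.ι))
    exact (Over.forget S).mono_of_mono_map ‹_›
  · rw [hpow]
    show (pullback.fst (W.ι ≫ φ.left) one.left ≫ W.ι) ≫ φ.left = pullback.snd (W.ι ≫ φ.left) one.left ≫ one.left
    rw [Category.assoc, pullback.condition]
  · have hr : Set.range x.left ⊆ Set.range W.ι := by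
      rintro _ ⟨p, rfl⟩
      rw [Scheme.Opens.range_ι]
      exact hU p
    let l := IsOpenImmersion.lift W.ι x.left hr
    have hl : l ≫ W.ι = x.left := IsOpenImmersion.lift_fac _ _ _
    refine ⟨Over.homMk (pullback.lift l X.hom (by rw [reassoc_of% hl]; exact (hpow X x).mp hx))
      (pullback.lift_snd _ _ _), Over.OverMorphism.ext ?_⟩
    show pullback.lift l X.hom _ ≫ pullback.fst _ _ ≫ W.ι = x.left
    rw [pullback.lift_fst_assoc, hl]

/-- Torsion points in the etale locus lift uniquely along thickenings. -/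
theorem existsUnique_pow {X X₀ : Over S} (c : X₀ ⟶ X) (hc : Th c.left) (x₀ : X₀ ⟶ G) (hx₀ : x₀ ^ n = 1)
    (hU : ∀ p, x₀.left p ∈ Loci.loc @Etale (𝟙 G ^ n : G ⟶ G).left) :
    ∃! x : X ⟶ G, c ≫ x = x₀ ∧ x ^ n = 1 := by
  obtain ⟨E, e, hE, hmono, he, hlift⟩ := exists_torsPt (G := G) n
  obtain ⟨k, hk⟩ := hlift X₀ x₀ hx₀ hU
  haveI := hE; haveI := hc.integral; haveI := hc.inj; haveI := hc.surj
  let π : pullback E.hom X.hom ⟶ X.left := pullback.snd _ _
  haveI : Etale π := MorphismProperty.pullback_snd _ _ hE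
  let k' : X₀.left ⟶ pullback E.hom X.hom := pullback.lift k.left c.left (by rw [Over.w k, Over.w c])
  obtain ⟨σ, ⟨hσ, hσc⟩, huniq⟩ := AlgSpLib.EtTopInv.existsUnique_extend π c.left k' (pullback.lift_snd _ _ _)
  let x' : X ⟶ E := Over.homMk (σ ≫ pullback.fst E.hom X.hom) (by
    show (σ ≫ pullback.fst E.hom X.hom) ≫ E.hom = X.hom
    rw [Category.assoc, pullback.condition, ← Category.assoc]
    exact (congrArg (· ≫ X.hom) hσ).trans (Category.id_comp _))
  have hcx : c ≫ x' = k := Over.OverMorphism.ext (by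
    show c.left ≫ σ ≫ pullback.fst E.hom X.hom = k.left
    rw [reassoc_of% hσc, pullback.lift_fst])
  refine ⟨x' ≫ e, ⟨by rw [reassoc_of% hcx, hk], ?_⟩, ?_⟩
  · calc (x' ≫ e) ^ n = x' ≫ (e ^ n) := (MonObj.comp_pow _ _ _).symm
      _ = 1 := by rw [he, MonObj.comp_one]
  · rintro y ⟨hy₀, hy⟩
    have hUy : ∀ p, y.left p ∈ Loci.loc @Etale (𝟙 G ^ n : G ⟶ G).left := fun p => by
      obtain ⟨p₀, rfl⟩ := c.left.surjective p
      rw [← Scheme.Hom.comp_apply, ← Over.comp_left, hy₀]
      exact hU p₀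
    obtain ⟨y', rfl⟩ := hlift X y hy hUy
    have hcy : c ≫ y' = k := by rw [← cancel_mono e, Category.assoc, hy₀, hk]
    have h := huniq (pullback.lift y'.left (𝟙 _) (by rw [Over.w y', Category.id_comp]))
      ⟨pullback.lift_snd _ _ _, pullback.hom_ext
        (by rw [Category.assoc, pullback.lift_fst, pullback.lift_fst, ← Over.comp_left, hcy])
        (by rw [Category.assoc, pullback.lift_snd, pullback.lift_snd, Category.comp_id])⟩
    congr 1
    refine Over.OverMorphism.ext ?_
    show y'.left = σ ≫ pullback.fst E.hom X.hom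
    rw [← h, pullback.lift_fst]

end Lift

/-- The part of `X` over an open of the base. -/
noncomputable abbrev part (X : Over S) (O : X.left.Opens) : Over S := Over.mk (O.ι ≫ X.hom)

/-- Its inclusion. -/
noncomputable abbrev partIncl (X : Over S) (O : X.left.Opens) : part X O ⟶ X := Over.homMk O.ι rfl

theorem restrict_th {X X₀ : Over S} (c : X₀ ⟶ X) (hc : Th c.left) (O : X.left.Opens) :
    ∃ c' : part X₀ (c.left ⁻¹ᵁ O) ⟶ part X O, Th c'.left ∧ c' ≫ partIncl X O = partIncl X₀ _ ≫ c := by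
  refine ⟨Over.homMk (c.left ∣_ O) ?_, Th.of_isPullback (isPullback_morphismRestrict c.left O) hc,
    Over.OverMorphism.ext (morphismRestrict_ι _ _)⟩
  show (c.left ∣_ O) ≫ O.ι ≫ X.hom = (c.left ⁻¹ᵁ O).ι ≫ X₀.hom
  rw [morphismRestrict_ι_assoc, Over.w c]

/-- Torsion points agreeing on a thickening are equal. -/
theorem eq_of_thick {X X₀ : Over S} (c : X₀ ⟶ X) (hc : Th c.left) {x y : X ⟶ G} (hx : Tors x) (hy : Tors y)
    (hU : InU y) (h : c ≫ x = c ≫ y) : x = y := by
  refine Over.OverMorphism.ext (Scheme.hom_ext_of_forall _ _ fun p => ?_)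
  obtain ⟨n, V, hV, hn, hk⟩ := hx p
  obtain ⟨m, W, hW, hm, hk'⟩ := hy p
  let O : X.left.Opens := X.hom ⁻¹ᵁ (V ⊓ W)
  refine ⟨O, ⟨hV, hW⟩, ?_⟩
  obtain ⟨c', hc', hcc⟩ := restrict_th c hc O
  let i := partIncl X O
  have hi : ∀ q, X.hom (i.left q) ∈ V ⊓ W := fun q => q.2
  suffices i ≫ x = i ≫ y from congrArg CommaMorphism.left this
  have hx' : (i ≫ x) ^ (n * m) = 1 := by rw [pow_mul, hk _ i fun q => (hi q).1, _root_.one_pow]
  have hy' : (i ≫ y) ^ (n * m) = 1 := by
    rw [Nat.mul_comm, pow_mul, hk' _ i fun q => (hi q).2, _root_.one_pow]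
  refine (existsUnique_pow (n * m) c' hc' (c' ≫ i ≫ y) ?_ fun q => ?_).unique ⟨?_, hx'⟩ ⟨rfl, hy'⟩
  · rw [← MonObj.comp_pow, hy', MonObj.comp_one]
  · refine hU (i.left (c'.left q)) (n * m) ?_
    rw [hom_left_apply, Nat.cast_mul]
    exact mul_ne_zero (hn _ (hi _).1) (hm _ (hi _).2)
  · rw [reassoc_of% hcc, h, ← Category.assoc, ← hcc, Category.assoc]

/-- Torsion points in the etale loci lift along thickenings. -/
theorem exists_lift {X X₀ : Over S} (c : X₀ ⟶ X) (hc : Th c.left) (x₀ : X₀ ⟶ G) (hx₀ : Tors x₀) (hU : InU x₀) :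
    ∃ x : X ⟶ G, c ≫ x = x₀ ∧ Tors x ∧ InU x := by
  classical
  haveI := hc.surj
  have hpt : ∀ p : X.left, ∃ (n : ℕ) (V : S.Opens), X.hom p ∈ V ∧ (∀ t : S, t ∈ V → (n : S.residueField t) ≠ 0) ∧
      ∀ (Y : Over S) (h : Y ⟶ X₀), (∀ q, Y.hom q ∈ V) → (h ≫ x₀) ^ n = 1 := fun p => by
    obtain ⟨p₀, rfl⟩ := c.left.surjective p
    obtain ⟨n, V, hV, r⟩ := hx₀ p₀
    exact ⟨n, V, by rwa [hom_left_apply], r⟩
  choose n V hV hn hk using hpt
  let O : X.left → X.left.Opens := fun p => X.hom ⁻¹ᵁ V p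
  have hloc : ∀ p, ∃ x : part X (O p) ⟶ G, partIncl X₀ (c.left ⁻¹ᵁ O p) ≫ x₀ =
      (Over.homMk (c.left ∣_ O p) (by
        show (c.left ∣_ O p) ≫ (O p).ι ≫ X.hom = (c.left ⁻¹ᵁ O p).ι ≫ X₀.hom
        rw [morphismRestrict_ι_assoc, Over.w c]) : part X₀ (c.left ⁻¹ᵁ O p) ⟶ part X (O p)) ≫ x ∧
        x ^ n p = 1 := by
    intro p
    obtain ⟨c', hc', hcc⟩ := restrict_th c hc (O p)
    have hV' : ∀ q, (part X₀ (c.left ⁻¹ᵁ O p)).hom q ∈ V p := fun q => by
      rw [← hom_left_apply c']
      exact (c'.left q).2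
    obtain ⟨x, ⟨hx, hxn⟩, -⟩ := existsUnique_pow (n p) c' hc' (partIncl X₀ _ ≫ x₀) (hk p _ _ hV') fun q =>
      hU _ (n p) (by rw [hom_left_apply]; exact hn p _ (hV' q))
    refine ⟨x, ?_, hxn⟩
    rw [← hx]
    congr 1
    refine Over.OverMorphism.ext ((cancel_mono (O p).ι).mp ?_)
    exact (congrArg CommaMorphism.left hcc).trans (morphismRestrict_ι _ _).symm
  choose x hx hxn using hloc
  have htors : ∀ p, Tors (x p) := fun p q =>
    ⟨n p, V p, q.2, hn p, fun Y h _ => by rw [← MonObj.comp_pow, hxn p, MonObj.comp_one]⟩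
  have hinU : ∀ p, InU (x p) := fun p q => by
    haveI : Surjective (c.left ∣_ O p) := (Th.of_isPullback (isPullback_morphismRestrict c.left (O p)) hc).surj
    obtain ⟨q₀, rfl⟩ := (c.left ∣_ O p).surjective q
    have h := congrArg CommaMorphism.left (hx p)
    have e : ((c.left ∣_ O p) ≫ (x p).left) q₀ = (partIncl X₀ (c.left ⁻¹ᵁ O p) ≫ x₀).left q₀ :=
      congrArg (fun m : (c.left ⁻¹ᵁ O p).toScheme ⟶ G.left => m.base q₀) h.symm
    have h0 : EtAt G ((partIncl X₀ (c.left ⁻¹ᵁ O p) ≫ x₀).left q₀) := hU _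
    rw [← e] at h0
    exact h0
  let 𝒰 : X.left.OpenCover := Scheme.openCoverOfIsOpenCover X.left O
    (.mk (top_unique fun p _ => TopologicalSpace.Opens.mem_iSup.mpr ⟨p, hV p⟩))
  have hglue : ∀ p q : X.left, pullback.fst (O p).ι (O q).ι ≫ (x p).left =
      pullback.snd (O p).ι (O q).ι ≫ (x q).left := by
    intro p q
    let Y : Over S := Over.mk (pullback.fst (O p).ι (O q).ι ≫ (O p).ι ≫ X.hom)
    let a : Y ⟶ part X (O p) := Over.homMk (pullback.fst _ _) rfl
    let b : Y ⟶ part X (O q) := Over.homMk (pullback.snd _ _) (by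
      show pullback.snd _ _ ≫ (O q).ι ≫ X.hom = _
      rw [← Category.assoc, ← pullback.condition, Category.assoc]
      rfl)
    let Y₀ : Over S := Over.mk (pullback.fst (a.left ≫ (O p).ι) c.left ≫ Y.hom)
    let cY : Y₀ ⟶ Y := Over.homMk (pullback.fst (a.left ≫ (O p).ι) c.left) rfl
    have hcY : Th cY.left := Th.of_isPullback (IsPullback.of_hasPullback (a.left ≫ (O p).ι) c.left) hc
    suffices a ≫ x p = b ≫ x q from congrArg CommaMorphism.left this
    refine eq_of_thick cY hcY ((htors p).precomp a) ((htors q).precomp b) (fun y => hinU q (b.left y)) ?_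
    let d₀ : Y₀ ⟶ X₀ := Over.homMk (pullback.snd (a.left ≫ (O p).ι) c.left) (by
      show pullback.snd _ _ ≫ X₀.hom = pullback.fst _ _ ≫ (pullback.fst (O p).ι (O q).ι ≫ (O p).ι ≫ X.hom)
      rw [← Over.w c, ← Category.assoc, ← pullback.condition]
      simp only [Category.assoc]
      rfl)
    have hab : a ≫ partIncl X (O p) = b ≫ partIncl X (O q) := Over.OverMorphism.ext pullback.condition
    have hd : cY ≫ a ≫ partIncl X (O p) = d₀ ≫ c := Over.OverMorphism.ext pullback.condition
    have key : ∀ (r : X.left) (z : Y₀ ⟶ part X (O r)), z ≫ partIncl X (O r) = d₀ ≫ c → z ≫ x r = d₀ ≫ x₀ := by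
      intro r z hz
      have hz' : z.left ≫ (O r).ι = d₀.left ≫ c.left := congrArg CommaMorphism.left hz
      let z₀ : Y₀ ⟶ part X₀ (c.left ⁻¹ᵁ O r) :=
        Over.homMk ((isPullback_morphismRestrict c.left (O r)).lift z.left d₀.left hz') (by
          show _ ≫ (c.left ⁻¹ᵁ O r).ι ≫ X₀.hom = _
          rw [← Category.assoc, IsPullback.lift_snd]
          exact Over.w d₀)
      have h1 : z₀ ≫ (Over.homMk (c.left ∣_ O r) (by
          show (c.left ∣_ O r) ≫ (O r).ι ≫ X.hom = (c.left ⁻¹ᵁ O r).ι ≫ X₀.hom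
          rw [morphismRestrict_ι_assoc, Over.w c]) : part X₀ (c.left ⁻¹ᵁ O r) ⟶ part X (O r)) = z :=
        Over.OverMorphism.ext (IsPullback.lift_fst _ _ _ _)
      have h2 : z₀ ≫ partIncl X₀ (c.left ⁻¹ᵁ O r) = d₀ := Over.OverMorphism.ext (IsPullback.lift_snd _ _ _ _)
      rw [← h1, Category.assoc, ← hx r, reassoc_of% h2]
    rw [← Category.assoc, ← Category.assoc, key p (cY ≫ a) (by rw [Category.assoc, hd]),
      key q (cY ≫ b) (by rw [Category.assoc, ← hab, hd])]
  let xl : X.left ⟶ G.left := 𝒰.glueMorphisms (fun p => (x p).left) hglue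
  have hxl : ∀ p, (O p).ι ≫ xl = (x p).left := fun p => 𝒰.ι_glueMorphisms _ _ p
  let xx : X ⟶ G := Over.homMk xl (𝒰.hom_ext _ _ fun p => by
    show (O p).ι ≫ xl ≫ G.hom = (O p).ι ≫ X.hom
    rw [reassoc_of% (hxl p)]
    exact Over.w (x p))
  have hxx : ∀ p, partIncl X (O p) ≫ xx = x p := fun p => Over.OverMorphism.ext (hxl p)
  refine ⟨xx, Over.OverMorphism.ext (Scheme.hom_ext_of_forall _ _ fun q => ?_), fun p => ?_, fun p => ?_⟩
  · refine ⟨c.left ⁻¹ᵁ O (c.left q), hV (c.left q), ?_⟩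
    have h := congrArg CommaMorphism.left (hx (c.left q))
    show (c.left ⁻¹ᵁ O (c.left q)).ι ≫ c.left ≫ xl = (c.left ⁻¹ᵁ O (c.left q)).ι ≫ x₀.left
    rw [← morphismRestrict_ι_assoc, hxl]
    exact h.symm
  · refine ⟨n p, V p, hV p, hn p, fun Y h hh => ?_⟩
    have hr : Set.range h.left ⊆ Set.range (O p).ι := by
      rintro _ ⟨y, rfl⟩
      rw [Scheme.Opens.range_ι]
      show X.hom (h.left y) ∈ V p
      rw [hom_left_apply]
      exact hh y
    let h' : Y ⟶ part X (O p) := Over.homMk (IsOpenImmersion.lift (O p).ι h.left hr) (by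
      show IsOpenImmersion.lift (O p).ι h.left hr ≫ (O p).ι ≫ X.hom = Y.hom
      rw [IsOpenImmersion.lift_fac_assoc]
      exact Over.w h)
    have hh' : h' ≫ partIncl X (O p) = h := Over.OverMorphism.ext (IsOpenImmersion.lift_fac _ _ _)
    rw [← hh', Category.assoc, hxx, ← MonObj.comp_pow, hxn, MonObj.comp_one]
  · have h := hinU p ⟨p, hV p⟩
    rwa [← hxx p] at h

end Groth.Agent.MultConjLib.CentralLift
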