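import Groth.Agent.MultConjLib.Rigid
import Groth.Agent.MultConjLib.Comm
import Groth.Agent.MultTypeLib.EtaleLift

/-!
# Descent of homomorphisms on points and rigidity of groups of multiplicative type
-/

universe u

open CategoryTheory CategoryTheory.Limits MonoidalCategory CartesianMonoidalCategory MonObj GrpObj AlgebraicGeometry
open TensorProduct

namespace Groth.Agent.MultConjLib

open GrpSchLib.DiagActionRigid (sp spm spm_comp spm_id spm_left)

set_option backward.isDefEq.respectTransparency false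

variable {S : Scheme.{u}} {R : Type u} [CommRing R] {β : Spec (CommRingCat.of R) ⟶ S}
variable {H G : Over S} [GrpObj H] [GrpObj G] {A' : Type u} [CommRing A'] [Algebra R A'] {y : sp β A' ⟶ G}

theorem point_ext_of_injective (hy : IsUniv y) {B B' : Type u} [CommRing B] [Algebra R B] [CommRing B']
    [Algebra R B'] (f : B →ₐ[R] B') (hf : Function.Injective f) {p p' : sp β B ⟶ G}
    (h : spm β f ≫ p = spm β f ≫ p') : p = p' := by
  obtain ⟨ψ, hψ, -⟩ := hy B p
  obtain ⟨ψ', hψ', -⟩ := hy B p'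
  rw [← hψ, ← hψ', ← Category.assoc, spm_comp, ← Category.assoc, spm_comp] at h
  have := (hy B' _).unique h rfl
  rw [← hψ, ← hψ', show ψ = ψ' from AlgHom.ext fun a => hf (AlgHom.congr_fun this a)]

theorem point_ext_of_jointly_injective (hy : IsUniv y) {B : Type u} [CommRing B] [Algebra R B] {κ : Type u}
    {Bk : κ → Type u} [∀ k, CommRing (Bk k)] [∀ k, Algebra R (Bk k)] (f : ∀ k, B →ₐ[R] Bk k)
    (hf : Function.Injective fun b k => f k b) {p p' : sp β B ⟶ G} (h : ∀ k, spm β (f k) ≫ p = spm β (f k) ≫ p') :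
    p = p' := by
  refine point_ext_of_injective hy (Pi.algHom R Bk f) hf ?_
  obtain ⟨ψ, hψ, -⟩ := hy B p
  obtain ⟨ψ', hψ', -⟩ := hy B p'
  rw [← hψ, ← hψ', ← Category.assoc, spm_comp, ← Category.assoc, spm_comp]
  congr 2
  refine AlgHom.ext fun a => funext fun k => ?_
  have hk := h k
  rw [← hψ, ← hψ', ← Category.assoc, spm_comp, ← Category.assoc, spm_comp] at hk
  exact AlgHom.congr_fun ((hy _ _).unique hk rfl) a

/-- Descent of a point along a faithfully flat algebra. -/
theorem point_descend (hy : IsUniv y) {R'' : Type u} [CommRing R''] [Algebra R R''] [Module.FaithfullyFlat R R'']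
    {B : Type u} [CommRing B] [Algebra R B] (z : sp β (R'' ⊗[R] B) ⟶ G)
    (hz : spm β (Algebra.TensorProduct.map (Algebra.TensorProduct.includeLeft : R'' →ₐ[R] R'' ⊗[R] R'')
        (AlgHom.id R B)) ≫ z =
      spm β (Algebra.TensorProduct.map (Algebra.TensorProduct.includeRight : R'' →ₐ[R] R'' ⊗[R] R'')
        (AlgHom.id R B)) ≫ z) :
    ∃ p : sp β B ⟶ G, spm β (Algebra.TensorProduct.includeRight : B →ₐ[R] R'' ⊗[R] B) ≫ p = z := by
  obtain ⟨ψ, hψ, -⟩ := hy _ z
  rw [← hψ, ← Category.assoc, spm_comp, ← Category.assoc, spm_comp] at hz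
  have heq := (hy _ _).unique hz rfl
  let E := B ⊗[R] R''
  let cm : R'' ⊗[R] B →ₐ[R] E := (Algebra.TensorProduct.comm R R'' B).toAlgHom
  let L : E →ₐ[R] E ⊗[B] E := (Algebra.TensorProduct.includeLeft : E →ₐ[B] E ⊗[B] E).restrictScalars R
  let Rt : E →ₐ[R] E ⊗[B] E := (Algebra.TensorProduct.includeRight : E →ₐ[B] E ⊗[B] E).restrictScalars R
  let r : R'' →ₐ[R] E := Algebra.TensorProduct.includeRight
  let c : (R'' ⊗[R] R'') ⊗[R] B →ₐ[R] E ⊗[B] E :=
    Algebra.TensorProduct.lift (Algebra.TensorProduct.lift (L.comp r) (Rt.comp r) fun _ _ => Commute.all _ _)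
      (IsScalarTower.toAlgHom R B (E ⊗[B] E)) fun _ _ => Commute.all _ _
  have hL : c.comp (Algebra.TensorProduct.map (Algebra.TensorProduct.includeLeft : R'' →ₐ[R] R'' ⊗[R] R'')
      (AlgHom.id R B)) = L.comp cm := by
    refine Algebra.TensorProduct.ext' fun s b => ?_
    show Algebra.TensorProduct.lift (L.comp r) (Rt.comp r) (fun _ _ => Commute.all _ _) (s ⊗ₜ[R] (1 : R'')) *
      algebraMap B (E ⊗[B] E) b = L (b ⊗ₜ[R] s)
    rw [Algebra.TensorProduct.lift_tmul, map_one, _root_.mul_one]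
    show L (1 ⊗ₜ[R] s) * L (algebraMap B E b) = _
    rw [← map_mul, Algebra.TensorProduct.algebraMap_apply, Algebra.TensorProduct.tmul_mul_tmul, _root_.one_mul,
      _root_.mul_one]
    rfl
  have hR : c.comp (Algebra.TensorProduct.map (Algebra.TensorProduct.includeRight : R'' →ₐ[R] R'' ⊗[R] R'')
      (AlgHom.id R B)) = Rt.comp cm := by
    refine Algebra.TensorProduct.ext' fun s b => ?_
    show Algebra.TensorProduct.lift (L.comp r) (Rt.comp r) (fun _ _ => Commute.all _ _) ((1 : R'') ⊗ₜ[R] s) *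
      algebraMap B (E ⊗[B] E) b = Rt (b ⊗ₜ[R] s)
    rw [Algebra.TensorProduct.lift_tmul, map_one, _root_.one_mul,
      ← (Algebra.TensorProduct.includeRight : E →ₐ[B] E ⊗[B] E).commutes b]
    show Rt (1 ⊗ₜ[R] s) * Rt (algebraMap B E b) = _
    rw [← map_mul, Algebra.TensorProduct.algebraMap_apply, Algebra.TensorProduct.tmul_mul_tmul, _root_.one_mul,
      _root_.mul_one]
    rfl
  have h2 := congrArg c.comp heq
  rw [← AlgHom.comp_assoc, ← AlgHom.comp_assoc, hL, hR] at h2
  have hmem : ∀ a, ∃ b, algebraMap B E b = cm (ψ a) := fun a => by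
    have h : cm (ψ a) ∈ Set.range (algebraMap B E) := by
      rw [← (Algebra.IsEffective.of_faithfullyFlat B E).eqLocus_includeLeft_includeRight]
      exact AlgHom.congr_fun h2 a
    exact h
  choose f hf using hmem
  have hinj : Function.Injective (algebraMap B E) := FaithfulSMul.algebraMap_injective B E
  let ψ₀ : A' →ₐ[R] B := AlgHom.mk
    { toFun := f
      map_one' := hinj (by rw [hf, map_one, map_one, map_one])
      map_mul' := fun a a' => hinj (by rw [hf, map_mul, map_mul, map_mul, hf, hf])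
      map_zero' := hinj (by rw [hf, map_zero, map_zero, map_zero])
      map_add' := fun a a' => hinj (by rw [hf, map_add, map_add, map_add, hf, hf]) }
    (fun r' => hinj (by
      show algebraMap B E (f (algebraMap R A' r')) = _
      rw [hf, AlgHom.commutes, AlgHom.commutes, ← IsScalarTower.algebraMap_apply]))
  refine ⟨spm β ψ₀ ≫ y, ?_⟩
  rw [← hψ, ← Category.assoc, spm_comp]
  congr 2
  refine AlgHom.ext fun a => (Algebra.TensorProduct.comm R R'' B).injective ?_
  show (Algebra.TensorProduct.comm R R'' B) ((1 : R'') ⊗ₜ[R] f a) = cm (ψ a)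
  rw [← hf, Algebra.TensorProduct.comm_tmul, Algebra.TensorProduct.algebraMap_apply]
  rfl

/-- Homomorphisms over the factors of a finite product give one over the product. -/
theorem PtHom.exists_pi (hy : IsUniv y) {κ : Type u} [Finite κ] {Rk : κ → Type u} [∀ k, CommRing (Rk k)]
    [∀ k, Algebra R (Rk k)] (uk : ∀ k, PtHom β H G (Rk k)) :
    ∃ u : PtHom β H G (∀ k, Rk k), ∀ k, u.map (Pi.evalAlgHom R Rk k) = uk k := by
  classical
  have _ := Fintype.ofFinite κ
  let e : ∀ {B : Type u} [CommRing B] [Algebra R B], ((∀ k, Rk k) →ₐ[R] B) → κ → B :=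
    fun ρ k => ρ (Pi.single k 1)
  let q : ∀ {B : Type u} [CommRing B] [Algebra R B] (ρ : (∀ k, Rk k) →ₐ[R] B) (k : κ),
      B →ₐ[R] B ⧸ Ideal.span {1 - e ρ k} := fun ρ k => Ideal.Quotient.mkₐ R _
  have hfac : ∀ {B : Type u} [CommRing B] [Algebra R B] (ρ : (∀ k, Rk k) →ₐ[R] B) (k : κ) (r : ∀ k, Rk k),
      q ρ k (ρ r) = q ρ k (ρ (Pi.single k (r k))) := fun ρ k r => by
    have h1 : (r - Pi.single k (r k)) = (1 - Pi.single k 1) * r := by
      funext l
      by_cases hl : l = k
      · subst hl; simp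
      · simp [hl]
    rw [← sub_eq_zero, ← map_sub, ← map_sub, h1, map_mul, map_mul,
      show q ρ k (ρ (1 - Pi.single k 1)) = 0 from Ideal.Quotient.eq_zero_iff_mem.mpr (by
        rw [map_sub, map_one]; exact Ideal.mem_span_singleton_self _), zero_mul]
  have hex : ∀ {B : Type u} [CommRing B] [Algebra R B] (ρ : (∀ k, Rk k) →ₐ[R] B) (k : κ),
      ∃ ρk : Rk k →ₐ[R] B ⧸ Ideal.span {1 - e ρ k}, ρk.comp (Pi.evalAlgHom R Rk k) = (q ρ k).comp ρ := by
    intro B _ _ ρ k
    let g : (∀ k, Rk k) →ₐ[R] B ⧸ Ideal.span {1 - e ρ k} := (q ρ k).comp ρ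
    let ρk : Rk k →ₐ[R] B ⧸ Ideal.span {1 - e ρ k} :=
      { toFun := fun r => g (Pi.single k r)
        map_one' := by
          show q ρ k (ρ (Pi.single k 1)) = 1
          rw [← Pi.one_apply (M := Rk) k, ← hfac, map_one, map_one]
        map_mul' := fun a b => by rw [← map_mul, ← Pi.single_mul]
        map_zero' := by rw [Pi.single_zero, map_zero]
        map_add' := fun a b => by rw [← map_add, ← Pi.single_add]
        commutes' := fun r => by
          show q ρ k (ρ (Pi.single k ((algebraMap R (∀ k, Rk k) r) k))) = _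
          rw [← hfac]
          exact g.commutes r }
    exact ⟨ρk, AlgHom.ext fun r => (hfac ρ k r).symm⟩
  choose ρk hρk using @hex
  have hbij : ∀ {B : Type u} [CommRing B] [Algebra R B] (ρ : (∀ k, Rk k) →ₐ[R] B),
      Function.Bijective (fun b k => q ρ k b) := fun {B} _ _ ρ =>
    CompleteOrthogonalIdempotents.bijective_pi
      ((CompleteOrthogonalIdempotents.single Rk).map ρ.toRingHom)
  have happ : ∀ (B : Type u) [CommRing B] [Algebra R B] (ρ : (∀ k, Rk k) →ₐ[R] B) (z : sp β B ⟶ H),
      ∃ p : sp β B ⟶ G, ∀ k, spm β (q ρ k) ≫ p = (uk k).app _ (ρk ρ k) (spm β (q ρ k) ≫ z) := by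
    intro B _ _ ρ z
    choose ψ hψ _ using fun k => hy _ ((uk k).app _ (ρk ρ k) (spm β (q ρ k) ≫ z))
    let E : B ≃ₐ[R] ∀ k, B ⧸ Ideal.span {1 - e ρ k} :=
      AlgEquiv.ofBijective (Pi.algHom R _ (q ρ)) (hbij ρ)
    refine ⟨spm β (E.symm.toAlgHom.comp (Pi.algHom R _ ψ)) ≫ y, fun k => ?_⟩
    rw [← Category.assoc, spm_comp, ← hψ k]
    congr 2
    refine AlgHom.ext fun a => ?_
    show (E (E.symm (Pi.algHom R _ ψ a))) k = ψ k a
    rw [AlgEquiv.apply_symm_apply]
    rfl
  choose app happ using happ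
  refine ⟨⟨app, fun {B B'} _ _ _ _ g ρ z => ?_, fun {B} _ _ ρ z z' => ?_⟩, fun k => PtHom.ext ?_⟩
  · refine point_ext_of_jointly_injective hy (q (g.comp ρ)) (hbij _).1 fun k => ?_
    rw [happ]
    let gk : (B ⧸ Ideal.span {1 - e ρ k}) →ₐ[R] B' ⧸ Ideal.span {1 - e (g.comp ρ) k} :=
      Ideal.Quotient.liftₐ _ ((q (g.comp ρ) k).comp g) fun a ha => by
        obtain ⟨b, rfl⟩ := Ideal.mem_span_singleton'.mp ha
        refine Ideal.Quotient.eq_zero_iff_mem.mpr (Ideal.mem_span_singleton'.mpr ⟨g b, ?_⟩)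
        rw [map_mul, map_sub, map_one]
        rfl
    have hgk : gk.comp (q ρ k) = (q (g.comp ρ) k).comp g := Ideal.Quotient.liftₐ_comp _ _ _
    have hk : gk.comp (ρk ρ k) = ρk (g.comp ρ) k := by
      refine AlgHom.ext fun r => ?_
      have h1 := AlgHom.congr_fun (congrArg gk.comp (hρk ρ k)) (Pi.single k r)
      have h2 := AlgHom.congr_fun (hρk (g.comp ρ) k) (Pi.single k r)
      simp only [AlgHom.comp_apply, Pi.evalAlgHom_apply, Pi.single_eq_same] at h1 h2
      show gk (ρk ρ k r) = _
      rw [h1, h2, ← AlgHom.comp_apply gk, hgk]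
      rfl
    rw [← Category.assoc, spm_comp, ← hgk, ← spm_comp, Category.assoc, happ, (uk k).nat, hk, ← Category.assoc,
      spm_comp, hgk, ← spm_comp, Category.assoc]
  · refine point_ext_of_jointly_injective hy (q ρ) (hbij _).1 fun k => ?_
    rw [happ, MonObj.comp_mul, MonObj.comp_mul, happ, happ, (uk k).mul]
  · funext B _ _ ρ z
    show app B (ρ.comp (Pi.evalAlgHom R Rk k)) z = (uk k).app B ρ z
    let ρ' := ρ.comp (Pi.evalAlgHom R Rk k)
    have he : ∀ l, e ρ' l = if l = k then 1 else 0 := fun l => by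
      show ρ ((Pi.single l (1 : Rk l) : ∀ k, Rk k) k) = _
      by_cases hl : l = k
      · subst hl; simp
      · simp [hl, Pi.single_eq_of_ne (Ne.symm hl)]
    refine point_ext_of_injective hy (q ρ' k) ?_ ?_
    · intro a b hab
      have hz : a - b ∈ Ideal.span {1 - e ρ' k} := Ideal.Quotient.eq.mp hab
      rw [he, if_pos rfl, sub_self, Ideal.span_singleton_eq_bot.mpr rfl, Ideal.mem_bot, sub_eq_zero] at hz
      exact hz
    · rw [happ, (uk k).nat]
      congr 1
      refine AlgHom.ext fun r => ?_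
      have h1 := AlgHom.congr_fun (hρk ρ' k) (Pi.single k r)
      simp only [AlgHom.comp_apply, Pi.evalAlgHom_apply, Pi.single_eq_same] at h1
      rw [h1]
      show q ρ' k (ρ ((Pi.single k r : ∀ k, Rk k) k)) = q ρ' k (ρ r)
      rw [Pi.single_eq_same]

/-- Descent of homomorphisms on points. -/
theorem PtHom.exists_descend (hy : IsUniv y) {R'' : Type u} [CommRing R''] [Algebra R R'']
    [Module.FaithfullyFlat R R''] (u : PtHom β H G R'')
    (h : u.map (Algebra.TensorProduct.includeLeft : R'' →ₐ[R] R'' ⊗[R] R'') =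
      u.map (Algebra.TensorProduct.includeRight : R'' →ₐ[R] R'' ⊗[R] R'')) :
    ∃ v : PtHom β H G R, v.map (Algebra.ofId R R'') = u := by
  have hinj : ∀ (B : Type u) [CommRing B] [Algebra R B],
      Function.Injective (Algebra.TensorProduct.includeRight : B →ₐ[R] R'' ⊗[R] B) := fun B _ _ =>
    Module.FaithfullyFlat.tensorProduct_mk_injective (A := R) (B := R'') B
  have happ : ∀ (B : Type u) [CommRing B] [Algebra R B] (z : sp β B ⟶ H), ∃ p : sp β B ⟶ G,
      spm β (Algebra.TensorProduct.includeRight : B →ₐ[R] R'' ⊗[R] B) ≫ p =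
        u.app (R'' ⊗[R] B) Algebra.TensorProduct.includeLeft
          (spm β (Algebra.TensorProduct.includeRight : B →ₐ[R] R'' ⊗[R] B) ≫ z) := by
    intro B _ _ z
    refine point_descend hy _ ?_
    rw [u.nat, u.nat]
    let D := R'' ⊗[R] R''
    let i : D →ₐ[R] D ⊗[R] B := Algebra.TensorProduct.includeLeft
    have hl : ∀ (g : R'' →ₐ[R] D), (Algebra.TensorProduct.map g (AlgHom.id R B)).comp
        Algebra.TensorProduct.includeLeft = i.comp g := fun g =>
      AlgHom.ext fun s => Algebra.TensorProduct.map_tmul _ _ s (1 : B)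
    have hr : ∀ (g : R'' →ₐ[R] D), spm β (Algebra.TensorProduct.map g (AlgHom.id R B)) ≫
        spm β (Algebra.TensorProduct.includeRight : B →ₐ[R] R'' ⊗[R] B) ≫ z =
        spm β (Algebra.TensorProduct.includeRight : B →ₐ[R] D ⊗[R] B) ≫ z := fun g => by
      rw [← Category.assoc, spm_comp]
      congr 2
      exact AlgHom.ext fun b => by simp [D]
    rw [hl, hl, hr, hr]
    exact congrArg (fun w : PtHom β H G D => w.app (D ⊗[R] B) i
      (spm β (Algebra.TensorProduct.includeRight : B →ₐ[R] D ⊗[R] B) ≫ z)) h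
  choose app happ using happ
  refine ⟨⟨fun B _ _ _ z => app B z, fun {B B'} _ _ _ _ g _ z => ?_, fun {B} _ _ _ z z' => ?_⟩, PtHom.ext ?_⟩
  · refine point_ext_of_injective hy _ (hinj B') ?_
    rw [happ, ← Category.assoc, spm_comp, show (Algebra.TensorProduct.includeRight : B' →ₐ[R] R'' ⊗[R] B').comp g =
      (Algebra.TensorProduct.map (AlgHom.id R R'') g).comp Algebra.TensorProduct.includeRight from
        AlgHom.ext fun b => by simp, ← spm_comp, Category.assoc, happ, u.nat,
      Algebra.TensorProduct.map_comp_includeLeft, AlgHom.comp_id, ← Category.assoc, ← Category.assoc, spm_comp,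
      spm_comp]
    congr 3
  · refine point_ext_of_injective hy _ (hinj B) ?_
    rw [happ, MonObj.comp_mul, MonObj.comp_mul, happ, happ, u.mul]
  · funext B _ _ ρ z
    show app B z = u.app B ρ z
    refine point_ext_of_injective hy _ (hinj B) ?_
    rw [happ, u.nat]
    let D := R'' ⊗[R] R''
    let ir : B →ₐ[R] R'' ⊗[R] B := Algebra.TensorProduct.includeRight
    let d : D →ₐ[R] R'' ⊗[R] B := Algebra.TensorProduct.lift Algebra.TensorProduct.includeLeft (ir.comp ρ)
      fun _ _ => Commute.all _ _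
    have h1 : d.comp Algebra.TensorProduct.includeLeft = Algebra.TensorProduct.includeLeft :=
      Algebra.TensorProduct.lift_comp_includeLeft _ _ _
    have h2 : d.comp Algebra.TensorProduct.includeRight = ir.comp ρ :=
      AlgHom.ext fun b => lift_includeRight _ _ (fun _ _ => Commute.all _ _) b
    have := congrArg (fun w : PtHom β H G D => w.app (R'' ⊗[R] B) d (spm β ir ≫ z)) h
    simp only [PtHom.map_app, h1, h2] at this
    exact this

variable {H' : Over S} [GrpObj H']

/-- Homomorphisms of groups of multiplicative type lift along nilpotent ideals. -/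
theorem exists_ptHom_lift (hH : IsLocDS H) (hH' : IsLocDS H') (J : Ideal R) (hJ : IsNilpotent J)
    (u₀ : PtHom β H H' (R ⧸ J)) : ∃ u : PtHom β H H' R, u.map (Ideal.Quotient.mkₐ R J) = u₀ := by
  classical
  obtain ⟨A, _, _, x, hx, -, -, j, hj⟩ := exists_univ_int hH β
  obtain ⟨A₁, _, _, y, hy, -, -, -⟩ := exists_univ_int hH' β
  have hcomm : ∀ (Y : Over S) (a b : Y ⟶ H'), a * b = b * a := fun Y a b => points_comm hH' a b
  obtain ⟨κ, _, Rk, _, _, _, hcov, hsp⟩ := exists_split_cover hH β
  obtain ⟨κ', _, Rk', _, _, _, hcov', hsp'⟩ := exists_split_cover hH' β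
  let I := κ × κ'
  let T : I → Type u := fun i => Rk i.1 ⊗[R] Rk' i.2
  haveI : Module.FaithfullyFlat R (∀ i : I, T i) := by
    have _ := Fintype.ofFinite I
    refine AdeqFound.faithfullyFlat_pi (A' := T) fun p => ?_
    obtain ⟨k, q, hq⟩ := hcov p
    obtain ⟨k', q', hq'⟩ := hcov' p
    obtain ⟨r, hr, hrq⟩ := MultTypeLib.exists_prime_tensor (R := R) (Rk k) (Rk' k') q.asIdeal q'.asIdeal
      ((congrArg PrimeSpectrum.asIdeal hq').trans (congrArg PrimeSpectrum.asIdeal hq).symm)
    refine ⟨(k, k'), ⟨r, hr⟩, ?_⟩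
    ext1
    show r.comap (algebraMap R (Rk k ⊗[R] Rk' k')) = p.asIdeal
    rw [← hq, IsScalarTower.algebraMap_eq R (Rk k) (Rk k ⊗[R] Rk' k'), ← Ideal.comap_comap, hrq]
    rfl
  have hkerS : ∀ (T' : Type u) [CommRing T'] [Algebra R T'] (i : R →ₐ[R] T'),
      IsNilpotent (J.map i.toRingHom) := fun T' _ _ i => by
    obtain ⟨n, hn⟩ := hJ
    exact ⟨n, by rw [← Ideal.map_pow, hn, Ideal.zero_eq_bot, Ideal.map_bot, ← Ideal.zero_eq_bot]⟩
  let red : ∀ (T' : Type u) [CommRing T'] [Algebra R T'], (R ⧸ J) →ₐ[R] (T' ⧸ J.map (algebraMap R T')) :=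
    fun T' _ _ => Ideal.Quotient.liftₐ J (Algebra.ofId R _) fun z hz => by
      show algebraMap R (T' ⧸ J.map (algebraMap R T')) z = 0
      rw [IsScalarTower.algebraMap_apply R T' (T' ⧸ _), Ideal.Quotient.algebraMap_eq, Ideal.Quotient.eq_zero_iff_mem]
      exact Ideal.mem_map_of_mem _ hz
  have hloc : ∀ i : I, ∃ u : PtHom β H H' (T i),
      u.map (Ideal.Quotient.mkₐ R (J.map (algebraMap R (T i)))) = u₀.map (red (T i)) := by
    intro i
    obtain ⟨U, gU, M, _, e, jU, hjU⟩ := hsp i.1
    obtain ⟨U', gU', N, _, e', jU', hjU'⟩ := hsp' i.2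
    refine exists_ptHom_lift_split gU e gU' e'
      (Spec.map (CommRingCat.ofHom (Algebra.TensorProduct.includeLeft : Rk i.1 →ₐ[R] T i).toRingHom) ≫ jU) ?_
      (Spec.map (CommRingCat.ofHom (Algebra.TensorProduct.includeRight : Rk' i.2 →ₐ[R] T i).toRingHom) ≫ jU') ?_
      _ Ideal.Quotient.mk_surjective (fun r hr => ?_) _
    · rw [Category.assoc, hjU, ← Category.assoc, ← Spec.map_comp, ← CommRingCat.ofHom_comp]
      exact congrArg (fun f => Spec.map (CommRingCat.ofHom f) ≫ β)
        (Algebra.TensorProduct.includeLeft : Rk i.1 →ₐ[R] T i).comp_algebraMap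
    · rw [Category.assoc, hjU', ← Category.assoc, ← Spec.map_comp, ← CommRingCat.ofHom_comp]
      exact congrArg (fun f => Spec.map (CommRingCat.ofHom f) ≫ β)
        (Algebra.TensorProduct.includeRight : Rk' i.2 →ₐ[R] T i).comp_algebraMap
    · obtain ⟨n, hn⟩ := hkerS (T i) (Algebra.ofId R (T i))
      have hr' : r ∈ J.map (algebraMap R (T i)) := Ideal.Quotient.eq_zero_iff_mem.mp hr
      have h := Ideal.pow_mem_pow hr' n
      exact ⟨n, (Ideal.mem_bot).mp (Ideal.zero_eq_bot (R := T i) ▸ hn ▸ h)⟩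
  choose uk huk using hloc
  obtain ⟨u, hu⟩ := PtHom.exists_pi hy uk
  let P := ∀ i : I, T i
  have hred : u.map (Ideal.Quotient.mkₐ R (J.map (algebraMap R P))) = u₀.map (red P) := by
    refine PtHom.ext ?_
    funext B _ _ ρ z
    let ρP : P →ₐ[R] B := ρ.comp (Ideal.Quotient.mkₐ R _)
    have _ := Fintype.ofFinite I
    let e : I → B := fun i => ρP (Pi.single i 1)
    have he : CompleteOrthogonalIdempotents e := (CompleteOrthogonalIdempotents.single T).map ρP.toRingHom
    refine point_ext_of_jointly_injective hy (fun i => Ideal.Quotient.mkₐ R (Ideal.span {1 - e i})) he.bijective_pi.1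
      fun i => ?_
    rw [PtHom.map_app, u.nat, PtHom.map_app, u₀.nat]
    let π := Ideal.Quotient.mkₐ R (Ideal.span {1 - e i})
    -- the composite factors through the `i`-th factor
    have hsi : ∀ w : P, (Pi.single i (w i) : P) = Pi.single i 1 * w := fun w => funext fun l => by
      show (Pi.single i (w i) : ∀ i, T i) l = (Pi.single i 1 : ∀ i, T i) l * w l
      rcases eq_or_ne l i with rfl | hl
      · rw [Pi.single_eq_same, Pi.single_eq_same, _root_.one_mul]
      · rw [Pi.single_eq_of_ne hl, Pi.single_eq_of_ne hl, zero_mul]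
    let g : T i →ₐ[R] B ⧸ Ideal.span {1 - e i} :=
      { toFun := fun r => π (ρP (Pi.single i r))
        map_one' := Ideal.Quotient.eq.mpr (Ideal.mem_span_singleton'.mpr ⟨-1, by simp [e]⟩)
        map_mul' := fun a b => by rw [← map_mul, ← map_mul, ← Pi.single_mul]
        map_zero' := by rw [Pi.single_zero, map_zero, map_zero]
        map_add' := fun a b => by rw [← map_add, ← map_add, ← Pi.single_add]
        commutes' := fun r => by
          show π (ρP (Pi.single i ((algebraMap R P r) i))) = _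
          rw [← (π.comp ρP).commutes r]
          show π (ρP _) = π (ρP _)
          rw [hsi, map_mul, map_mul]
          rw [show π (ρP (Pi.single i 1)) = 1 from Ideal.Quotient.eq.mpr (Ideal.mem_span_singleton'.mpr
            ⟨-1, by simp [e]⟩), _root_.one_mul] }
    have hg : g.comp (Pi.evalAlgHom R T i) = π.comp ρP := AlgHom.ext fun r => by
      show π (ρP (Pi.single i (r i))) = π (ρP r)
      rw [hsi, map_mul, map_mul, show π (ρP (Pi.single i 1)) = 1 from
          Ideal.Quotient.eq.mpr (Ideal.mem_span_singleton'.mpr ⟨-1, by simp [e]⟩), _root_.one_mul]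
    have hgk : ∀ z ∈ J.map (algebraMap R (T i)), g z = 0 := fun z hz => by
      have : J.map (algebraMap R (T i)) ≤ RingHom.ker g.toRingHom := Ideal.map_le_iff_le_comap.mpr fun w hw => by
        show g (algebraMap R (T i) w) = 0
        rw [g.commutes, IsScalarTower.algebraMap_apply R B (B ⧸ _), ← ρP.commutes w]
        show Ideal.Quotient.mk _ (ρ (Ideal.Quotient.mk _ (algebraMap R P w))) = 0
        rw [Ideal.Quotient.eq_zero_iff_mem.mpr (Ideal.mem_map_of_mem _ hw), map_zero, map_zero]
      exact this hz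
    let g₀ := Ideal.Quotient.liftₐ (J.map (algebraMap R (T i))) g hgk
    have hg₀ : g₀.comp (Ideal.Quotient.mkₐ R _) = g := Ideal.Quotient.liftₐ_comp _ _ _
    have h := congrArg (fun w : PtHom β H H' _ => w.app _ g₀ (spm β π ≫ z)) (huk i)
    simp only [PtHom.map_app, hg₀] at h
    rw [← hu i, PtHom.map_app, hg] at h
    have e1 : g₀.comp (red (T i)) = (π.comp ρ).comp (red P) := Ideal.Quotient.algHom_ext _ (Subsingleton.elim _ _)
    rw [e1] at h
    exact h
  let D := P ⊗[R] P
  letI : CommRing D := inferInstanceAs (CommRing (P ⊗[R] P))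
  have heq : u.map (Algebra.TensorProduct.includeLeft : P →ₐ[R] D) =
      u.map (Algebra.TensorProduct.includeRight : P →ₐ[R] D) := by
    refine ptHom_eq_of_nilpotent hx hj hcomm (J.map (algebraMap R D)) (hkerS D (Algebra.ofId R D)) _ _ ?_
    have hk : ∀ (g : P →ₐ[R] D), (u.map g).map (Ideal.Quotient.mkₐ R (J.map (algebraMap R D))) =
        u₀.map (red D) := by
      intro g
      let g₀ : P ⧸ J.map (algebraMap R P) →ₐ[R] D ⧸ J.map (algebraMap R D) :=
        Ideal.Quotient.liftₐ _ ((Ideal.Quotient.mkₐ R _).comp g) fun z hz => by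
          refine Ideal.Quotient.eq_zero_iff_mem.mpr ?_
          have h := Ideal.mem_map_of_mem g.toRingHom hz
          rw [Ideal.map_map, show g.toRingHom.comp (algebraMap R P) = algebraMap R D from g.comp_algebraMap] at h
          exact h
      have h := congrArg (fun w => PtHom.map w g₀) hred
      simp only [PtHom.map_map, g₀, Ideal.Quotient.liftₐ_comp] at h
      rw [PtHom.map_map, h]
      congr 1
      exact Ideal.Quotient.algHom_ext _ (Subsingleton.elim _ _)
    rw [hk, hk]
  obtain ⟨v, hv⟩ := PtHom.exists_descend hy u heq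
  refine ⟨v, PtHom.ext ?_⟩
  funext B _ _ ρ z
  refine point_ext_of_injective hy (Algebra.TensorProduct.includeRight : B →ₐ[R] P ⊗[R] B)
    (Module.FaithfullyFlat.tensorProduct_mk_injective (A := R) (B := P) B) ?_
  rw [PtHom.map_app, v.nat, u₀.nat]
  let ρB : P →ₐ[R] P ⊗[R] B := Algebra.TensorProduct.includeLeft
  have hρ : ∀ w ∈ J.map (algebraMap R P), ρB w = 0 := fun w hw => by
    have : J.map (algebraMap R P) ≤ RingHom.ker ρB.toRingHom := Ideal.map_le_iff_le_comap.mpr fun r hr => by
      show ρB (algebraMap R P r) = 0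
      rw [ρB.commutes, ← (Algebra.TensorProduct.includeRight : B →ₐ[R] P ⊗[R] B).commutes r, ← ρ.commutes r,
        IsScalarTower.algebraMap_apply R R (R ⧸ J), Ideal.Quotient.algebraMap_eq,
        Ideal.Quotient.eq_zero_iff_mem.mpr (by simpa using hr), map_zero, map_zero]
    exact this hw
  let ρ₁ := Ideal.Quotient.liftₐ (J.map (algebraMap R P)) ρB hρ
  have h := congrArg (fun w : PtHom β H H' _ => w.app _ ρ₁
    (spm β (Algebra.TensorProduct.includeRight : B →ₐ[R] P ⊗[R] B) ≫ z)) hred
  simp only [PtHom.map_app, ρ₁, Ideal.Quotient.liftₐ_comp] at h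
  rw [← hv, PtHom.map_app] at h
  exact ((congrArg (fun w => v.app _ w _) (Subsingleton.elim _ _)).trans h).trans
    (congrArg (fun w => u₀.app _ w _) (Ideal.Quotient.algHom_ext _ (Subsingleton.elim _ _)))

end Groth.Agent.MultConjLib
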