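import Groth.Agent.MultConjLib.HomScheme
import Groth.Agent.MultConjLib.Descend
import Mathlib.AlgebraicGeometry.Morphisms.Integral
import Mathlib.AlgebraicGeometry.Morphisms.Finite
import Mathlib.AlgebraicGeometry.Morphisms.FlatDescent

/-!
# The scheme of homomorphisms of finite groups of multiplicative type is proper
-/

universe u

open CategoryTheory CategoryTheory.Limits MonoidalCategory CartesianMonoidalCategory MonObj GrpObj AlgebraicGeometry
open TensorProduct

namespace Groth.Agent.MultConjLib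

open GrpSchLib.DiagActionRigid (sp spm spm_comp spm_id spm_left coord_ext)
open DSPtsLib (CoordM)

set_option backward.isDefEq.respectTransparency false

variable {S : Scheme.{u}} {G H : Over S} [GrpObj G] [GrpObj H]

/-- Points of a representing scheme are determined by their homomorphisms. -/
theorem eq_of_ofFamily {R : Type u} [CommRing R] {β : Spec (CommRingCat.of R) ⟶ S} {T : Type u} [CommRing T]
    [Algebra R T] {Z : Over S} {υ : G ⊗ Z ⟶ H} (hυ : AutFam.RepresentsHom G H Z υ) {z z' : sp β T ⟶ Z}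
    (h : PtHom.ofFamily υ hυ.1 z = PtHom.ofFamily υ hυ.1 z') : z = z' := by
  obtain ⟨y, -, hy⟩ := hυ.2 _ ((G ◁ z) ≫ υ) (fun X g₁ g₂ t => by
    simp only [lift_whiskerLeft_assoc]
    exact hυ.1 X g₁ g₂ _)
  exact (hy z rfl).trans (hy z' (ofFamily_inj υ hυ.1 z z' h).symm).symm

/-- Split finite groups have finite character groups. -/
theorem finite_of_split (hG : IsLocDS G) [IsFinite G.hom] {R : Type u} [CommRing R] [Nontrivial R]
    {β : Spec (CommRingCat.of R) ⟶ S} {M : Type} [AddCommGroup M]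
    (χ : ∀ (B : Type u) [CommRing B] [Algebra R B], (R →ₐ[R] B) → (CoordM.{u} M →+* B) → (sp β B ⟶ G))
    (hnat : ∀ {B B' : Type u} [CommRing B] [Algebra R B] [CommRing B'] [Algebra R B'] (f : B →ₐ[R] B') (ρ : R →ₐ[R] B)
      (c : CoordM.{u} M →+* B), spm β f ≫ χ B ρ c = χ B' (f.comp ρ) (f.toRingHom.comp c))
    (hbij : ∀ (B : Type u) [CommRing B] [Algebra R B] (ρ : R →ₐ[R] B), Function.Bijective (χ B ρ)) :
    Finite M := by
  obtain ⟨A, _, _, x, hx, sq, -, -⟩ := exists_univ_int hG β
  have hfin : IsFinite (Spec.map (CommRingCat.ofHom (algebraMap R A))) :=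
    MorphismProperty.of_isPullback sq.flip (inferInstance : IsFinite G.hom)
  haveI : Module.Finite R A := RingHom.finite_algebraMap.mp ((IsFinite.SpecMap_iff _).mp hfin)
  obtain ⟨c, hc⟩ := (hbij A (Algebra.ofId R A)).2 x
  let E := MonoidAlgebra R (Multiplicative M)
  obtain ⟨θ, hθ, -⟩ := hx E (χ E (Algebra.ofId R E) (ofVal (MonoidAlgebra.of R (Multiplicative M))))
  rw [← hc, hnat, Subsingleton.elim (θ.comp (Algebra.ofId R A)) (Algebra.ofId R E)] at hθ
  have hθc := (hbij E _).1 hθ
  have hsurj : Function.Surjective θ := fun v => by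
    induction v using MonoidAlgebra.induction_linear with
    | zero => exact ⟨0, map_zero θ⟩
    | add a b ha hb =>
      obtain ⟨a', rfl⟩ := ha
      obtain ⟨b', rfl⟩ := hb
      exact ⟨a' + b', map_add θ a' b'⟩
    | single m r =>
      refine ⟨r • c (MonoidAlgebra.single m 1), ?_⟩
      have h1 := congrFun (congrArg DFunLike.coe hθc) (MonoidAlgebra.single m 1)
      rw [ofVal_single] at h1
      change θ (c _) = _ at h1
      rw [map_smul, h1, MonoidAlgebra.of_apply, MonoidAlgebra.smul_single, smul_eq_mul, _root_.mul_one]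
  haveI : Module.Finite R E := Module.Finite.of_surjective θ.toLinearMap hsurj
  haveI : Finite (Multiplicative M) := Module.Finite.finite_basis (MonoidAlgebra.basis (Multiplicative M) R)
  exact Finite.of_equiv _ Multiplicative.toAdd

/-- A representing scheme of homomorphisms of finite split groups is covered by finitely many sections. -/
theorem exists_sections (hG : IsLocDS G) (hH : IsLocDS H) [IsFinite G.hom] [IsFinite H.hom] {R : Type u} [CommRing R]
    {β : Spec (CommRingCat.of R) ⟶ S}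
    {U : Scheme.{u}} (gU : U ⟶ S) {M : Type} [AddCommGroup M] (e : Grp.mk (Red.bc gU G) ≅ Grp.mk (Red.DS U M))
    {U' : Scheme.{u}} (gU' : U' ⟶ S) {N : Type} [AddCommGroup N] (e' : Grp.mk (Red.bc gU' H) ≅ Grp.mk (Red.DS U' N))
    (jU : Spec (CommRingCat.of R) ⟶ U) (hjU : jU ≫ gU = β)
    (jU' : Spec (CommRingCat.of R) ⟶ U') (hjU' : jU' ≫ gU' = β)
    {Z : Over S} {υ : G ⊗ Z ⟶ H} (hυ : AutFam.RepresentsHom G H Z υ) :
    ∃ (κ₀ : Type u) (_ : Finite κ₀) (z : κ₀ → (sp β R ⟶ Z)), ∀ (K : Type u) [Field K] [Algebra R K] (w : sp β K ⟶ Z),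
      ∃ i, spm β (Algebra.ofId R K) ≫ z i = w := by
  classical
  rcases subsingleton_or_nontrivial R with hR | hR
  · refine ⟨PEmpty, inferInstance, PEmpty.elim, fun K _ _ w => ?_⟩
    exact absurd (RingHom.domain_nontrivial (algebraMap R K)) (not_nontrivial_iff_subsingleton.mpr hR)
  have hid : Spec.map (CommRingCat.ofHom (algebraMap R R)) = 𝟙 _ := Spec.map_id _
  obtain ⟨χ, hnat, hmul, hbij⟩ := exists_char_pts (R := R) (β := β) gU e (R' := R) jU (by rw [hid, Category.id_comp, hjU])
  obtain ⟨χ', hnat', hmul', hbij'⟩ :=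
    exists_char_pts (R := R) (β := β) gU' e' (R' := R) jU' (by rw [hid, Category.id_comp, hjU'])
  haveI := finite_of_split hG χ hnat hbij
  haveI := finite_of_split hH χ' hnat' hbij'
  haveI : Finite (Multiplicative N →* Multiplicative M) := Finite.of_injective _ DFunLike.coe_injective
  have hsec : ∀ φ : Multiplicative N →* Multiplicative M, ∃ z : sp β R ⟶ Z,
      ∀ (B : Type u) [CommRing B] [Algebra R B] (ρ : R →ₐ[R] B) (c : CoordM.{u} M →+* B),
        (PtHom.ofFamily υ hυ.1 z).app B ρ (χ B ρ c) = χ' B ρ (ofVal ((charVal c).comp φ)) := by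
    intro φ
    obtain ⟨u, hu⟩ := exists_ptHom_of_goodHom χ hnat hmul hbij χ' hnat' hmul'
      ((MonoidAlgebra.of R (Multiplicative M)).comp φ) fun n => by
        unfold Good
        simp [MonoidAlgebra.single_mul_single]
    obtain ⟨ψ, hψ, hψu⟩ := exists_family hG u
    obtain ⟨z, hz, -⟩ := hυ.2 _ ψ hψ
    refine ⟨z, fun B _ _ ρ c => ?_⟩
    show lift (χ B ρ c) (spm β ρ ≫ z) ≫ υ = _
    rw [← lift_whiskerLeft_assoc, hz, hψu, hu]
    congr 1
    refine coord_ext fun n => ?_
    rw [ofVal_single, ofVal_single]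
    exact ev_one ρ _ _
  choose z hz using hsec
  refine ⟨ULift.{u} (Multiplicative N →* Multiplicative M), inferInstance, fun i => z i.down, fun K _ _ w => ?_⟩
  obtain ⟨f₀, hgood, hu₀⟩ := exists_goodHom_of_ptHom χ hnat hmul hbij χ' hnat' hmul' hbij' (Algebra.ofId R K)
    (PtHom.ofFamily υ hυ.1 w)
  have hsingle : ∀ n, ∃ a, f₀ n = MonoidAlgebra.single a 1 := fun n => by
    have hne : f₀ n ≠ 0 := by
      intro h0
      have h1 : f₀ n * f₀ n⁻¹ = 1 := by rw [← map_mul, mul_inv_cancel, map_one]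
      rw [h0, zero_mul] at h1
      exact zero_ne_one h1
    obtain ⟨a, ha⟩ : ∃ a, (f₀ n).coeff a ≠ 0 := by
      by_contra h
      push Not at h
      exact hne (MonoidAlgebra.ext (Finsupp.ext h))
    have hi := (good_iff (f₀ n)).mp (hgood n)
    have h1 : (f₀ n).coeff a = 1 := mul_left_cancel₀ ha (by rw [hi a a, if_pos rfl, _root_.mul_one])
    refine ⟨a, MonoidAlgebra.ext (Finsupp.ext fun b => ?_)⟩
    rw [MonoidAlgebra.coeff_single, Finsupp.single_apply]
    split
    · next h => rw [← h, h1]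
    · next h =>
      have h2 := hi a b
      rwa [h1, if_neg h, _root_.one_mul] at h2
  choose φ hφ using hsingle
  let φ' : Multiplicative N →* Multiplicative M :=
    MonoidHom.mk' φ fun m n => by
      have h := hφ (m * n)
      rw [map_mul, hφ, hφ, MonoidAlgebra.single_mul_single, _root_.mul_one] at h
      exact (MonoidAlgebra.single_left_injective (one_ne_zero (α := K)) h).symm
  refine ⟨⟨φ'⟩, eq_of_ofFamily hυ (PtHom.ext ?_)⟩
  funext B _ _ ρ q
  obtain ⟨c, rfl⟩ := (hbij B (ρ.comp (Algebra.ofId R K))).2 q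
  rw [← PtHom.ofFamily_map, PtHom.map_app, hz, hu₀]
  congr 1
  refine coord_ext fun n => ?_
  rw [ofVal_single, ofVal_single]
  show charVal c (φ n) = ev ρ (charVal c) (f₀ n)
  rw [hφ, ev_one]

/-- Over a base splitting both groups the scheme of homomorphisms is universally closed. -/
theorem universallyClosed_split (hG : IsLocDS G) (hH : IsLocDS H) [IsFinite G.hom] [IsFinite H.hom] {R : Type u}
    [CommRing R] {β : Spec (CommRingCat.of R) ⟶ S}
    {U : Scheme.{u}} (gU : U ⟶ S) {M : Type} [AddCommGroup M] (e : Grp.mk (Red.bc gU G) ≅ Grp.mk (Red.DS U M))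
    {U' : Scheme.{u}} (gU' : U' ⟶ S) {N : Type} [AddCommGroup N] (e' : Grp.mk (Red.bc gU' H) ≅ Grp.mk (Red.DS U' N))
    (jU : Spec (CommRingCat.of R) ⟶ U) (hjU : jU ≫ gU = β)
    (jU' : Spec (CommRingCat.of R) ⟶ U') (hjU' : jU' ≫ gU' = β)
    {Z : Over S} {υ : G ⊗ Z ⟶ H} (hυ : AutFam.RepresentsHom G H Z υ) :
    UniversallyClosed (pullback.snd Z.hom β) := by
  obtain ⟨κ₀, _, z, hz⟩ := exists_sections hG hH gU e gU' e' jU hjU jU' hjU' hυ
  have hid : Spec.map (CommRingCat.ofHom (algebraMap R R)) = 𝟙 _ := Spec.map_id _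
  let P := pullback Z.hom β
  let s : κ₀ → (Spec (CommRingCat.of R) ⟶ P) := fun i =>
    pullback.lift (z i).left (𝟙 _) ((Over.w (z i)).trans (by
      show Spec.map _ ≫ β = _; rw [hid]))
  let g : Spec (CommRingCat.of (κ₀ → R)) ⟶ P := inv (sigmaSpec fun _ : κ₀ => CommRingCat.of R) ≫ Sigma.desc s
  have hg : g ≫ pullback.snd Z.hom β = Spec.map (CommRingCat.ofHom (algebraMap R (κ₀ → R))) := by
    rw [Category.assoc, IsIso.inv_comp_eq]
    refine Sigma.hom_ext _ _ fun i => ?_
    rw [Sigma.ι_desc_assoc, pullback.lift_snd, ← Category.assoc, ι_sigmaSpec, ← Spec.map_comp]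
    exact hid.symm
  haveI : Surjective (Sigma.desc s) := ⟨fun p => by
    let k := P.residueField p
    let q : Spec k ⟶ P := P.fromSpecResidueField p
    obtain ⟨ψ, hψ⟩ := Spec.map_surjective (q ≫ pullback.snd Z.hom β)
    letI : Algebra R k := ψ.hom.toAlgebra
    let w : sp β k ⟶ Z := Over.homMk (q ≫ pullback.fst Z.hom β) (by
      show (q ≫ pullback.fst Z.hom β) ≫ Z.hom = Spec.map ψ ≫ β
      rw [Category.assoc, pullback.condition, ← Category.assoc, hψ])
    obtain ⟨i, hi⟩ := hz k w
    have hq : Spec.map ψ ≫ s i = q := pullback.hom_ext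
      (by rw [Category.assoc, pullback.lift_fst]; exact congrArg CommaMorphism.left hi)
      (by rw [Category.assoc, pullback.lift_snd, Category.comp_id, hψ])
    obtain ⟨x⟩ : Nonempty (Spec k) := inferInstance
    refine ⟨(Sigma.ι (fun _ : κ₀ => Spec (CommRingCat.of R)) i) ((Spec.map ψ) x), ?_⟩
    rw [← Scheme.Hom.comp_apply, Sigma.ι_desc, ← Scheme.Hom.comp_apply, hq]
    exact P.fromSpecResidueField_apply p x⟩
  haveI : Surjective g := inferInstanceAs (Surjective (_ ≫ Sigma.desc s))
  haveI : IsFinite (Spec.map (CommRingCat.ofHom (algebraMap R (κ₀ → R)))) :=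
    (IsFinite.SpecMap_iff _).mpr (RingHom.finite_algebraMap.mpr inferInstance)
  haveI : UniversallyClosed (g ≫ pullback.snd Z.hom β) := by rw [hg]; infer_instance
  exact UniversallyClosed.of_comp_surjective g _

/-- Over an affine base the scheme of homomorphisms of finite groups of multiplicative type is universally closed. -/
theorem universallyClosed_affine (hG : IsLocDS G) (hH : IsLocDS H) [IsFinite G.hom] [IsFinite H.hom]
    {Z : Over S} {υ : G ⊗ Z ⟶ H} (hυ : AutFam.RepresentsHom G H Z υ) {R : Type u} [CommRing R]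
    (b : Spec (CommRingCat.of R) ⟶ S) : UniversallyClosed (pullback.snd Z.hom b) := by
  classical
  obtain ⟨κ, _, Rk, _, _, _, hcov, hsp⟩ := exists_split_cover hG b
  obtain ⟨κ', _, Rk', _, _, _, hcov', hsp'⟩ := exists_split_cover hH b
  let I := κ × κ'
  let T : I → Type u := fun i => Rk i.1 ⊗[R] Rk' i.2
  haveI : Module.FaithfullyFlat R (∀ i : I, T i) := by
    have _ := Fintype.ofFinite I
    refine AdeqFound.faithfullyFlat_pi (A' := T) fun p => ?_
    obtain ⟨k, q, hq⟩ := hcov p
    obtain ⟨k', q', hq'⟩ := hcov' p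
    obtain ⟨r, hr, hrq⟩ := MultTypeLib.exists_prime_tensor (R := R) (Rk k) (Rk' k') q.asIdeal q'.asIdeal
      ((congrArg PrimeSpectrum.asIdeal hq').trans (congrArg PrimeSpectrum.asIdeal hq).symm)
    refine ⟨(k, k'), ⟨r, hr⟩, ?_⟩
    ext1
    show r.comap (algebraMap R (Rk k ⊗[R] Rk' k')) = p.asIdeal
    rw [← hq, IsScalarTower.algebraMap_eq R (Rk k) (Rk k ⊗[R] Rk' k'), ← Ideal.comap_comap, hrq]
    rfl
  let P := ∀ i : I, T i
  let π : Spec (CommRingCat.of P) ⟶ Spec (CommRingCat.of R) := Spec.map (CommRingCat.ofHom (algebraMap R P))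
  have hπ : (@Surjective ⊓ @Flat ⊓ @QuasiCompact : MorphismProperty Scheme.{u}) π :=
    ⟨⟨⟨PrimeSpectrum.comap_surjective_of_faithfullyFlat⟩,
      (HasRingHomProperty.Spec_iff (P := @Flat)).mpr (RingHom.flat_algebraMap_iff.mpr inferInstance)⟩, inferInstance⟩
  refine MorphismProperty.of_pullback_snd_of_descendsAlong (P := @UniversallyClosed)
    (Q := @Surjective ⊓ @Flat ⊓ @QuasiCompact) (g := π) hπ ?_
  rw [← pullbackLeftPullbackSndIso_hom_snd Z.hom b π, MorphismProperty.cancel_left_of_respectsIso @UniversallyClosed]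
  let cmp : ∀ i : I, Spec (CommRingCat.of (T i)) ⟶ Spec (CommRingCat.of P) :=
    fun i => Spec.map (CommRingCat.ofHom (Pi.evalRingHom T i))
  haveI : ∀ i, IsOpenImmersion (cmp i) := fun i => by
    show IsOpenImmersion (Spec.map _)
    rw [← ι_sigmaSpec (fun i => CommRingCat.of (T i))]
    infer_instance
  let 𝒰 : (Spec (CommRingCat.of P)).OpenCover :=
    Scheme.Cover.mkOfCovers I (fun i => Spec (CommRingCat.of (T i))) cmp (fun x => by
      obtain ⟨y, rfl⟩ := (sigmaSpec fun i => CommRingCat.of (T i)).surjective x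
      obtain ⟨i, y', rfl⟩ := (sigmaOpenCover fun i => Spec (CommRingCat.of (T i))).exists_eq y
      exact ⟨i, y', ((congrArg (fun f : Spec (CommRingCat.of (T i)) ⟶ Spec (CommRingCat.of P) => f y')
        (ι_sigmaSpec (fun i => CommRingCat.of (T i)) i)).symm).trans (Scheme.Hom.comp_apply _ _ _)⟩)
      (fun i => this i)
  rw [IsZariskiLocalAtTarget.iff_of_openCover (P := @UniversallyClosed) (f := pullback.snd Z.hom (π ≫ b)) 𝒰]
  intro i
  show UniversallyClosed (pullback.snd (pullback.snd Z.hom (π ≫ b)) (cmp i))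
  rw [← pullbackLeftPullbackSndIso_hom_snd Z.hom (π ≫ b) (cmp i),
    MorphismProperty.cancel_left_of_respectsIso @UniversallyClosed]
  obtain ⟨U, gU, M, _, e, jU, hjU⟩ := hsp i.1
  obtain ⟨U', gU', N, _, e', jU', hjU'⟩ := hsp' i.2
  refine universallyClosed_split hG hH gU e gU' e'
    (Spec.map (CommRingCat.ofHom (Algebra.TensorProduct.includeLeft : Rk i.1 →ₐ[R] T i).toRingHom) ≫ jU) ?_
    (Spec.map (CommRingCat.ofHom (Algebra.TensorProduct.includeRight : Rk' i.2 →ₐ[R] T i).toRingHom) ≫ jU') ?_ hυ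
  · rw [Category.assoc, hjU, ← Category.assoc, ← Spec.map_comp, ← CommRingCat.ofHom_comp, ← Category.assoc (cmp i),
      ← Spec.map_comp, ← CommRingCat.ofHom_comp]
    exact congrArg (fun f => Spec.map (CommRingCat.ofHom f) ≫ b)
      (Algebra.TensorProduct.includeLeft : Rk i.1 →ₐ[R] T i).comp_algebraMap
  · rw [Category.assoc, hjU', ← Category.assoc, ← Spec.map_comp, ← CommRingCat.ofHom_comp, ← Category.assoc (cmp i),
      ← Spec.map_comp, ← CommRingCat.ofHom_comp]
    exact congrArg (fun f => Spec.map (CommRingCat.ofHom f) ≫ b)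
      (Algebra.TensorProduct.includeRight : Rk' i.2 →ₐ[R] T i).comp_algebraMap

/-- The scheme of homomorphisms of finite groups of multiplicative type is universally closed. -/
theorem universallyClosed_hom (hG : IsLocDS G) (hH : IsLocDS H) [IsFinite G.hom] [IsFinite H.hom]
    {Z : Over S} {υ : G ⊗ Z ⟶ H} (hυ : AutFam.RepresentsHom G H Z υ) : UniversallyClosed Z.hom := by
  rw [IsZariskiLocalAtTarget.iff_of_openCover (P := @UniversallyClosed) (f := Z.hom) S.affineOpenCover.openCover]
  exact fun i => universallyClosed_affine hG hH hυ (R := S.affineOpenCover.X i) (S.affineOpenCover.f i)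

end Groth.Agent.MultConjLib
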