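import Groth.Agent.MultConjLib.CentralLift
import Groth.Agent.MultConjLib.HomFinite
import Groth.Agent.EtFound.SectionUnr
import Groth.Agent.GrpSchLib.MultTypeComm
import Mathlib.LinearAlgebra.FreeModule.Finite.Matrix
import Mathlib.GroupTheory.Perm.Cycle.Type
import Mathlib.AlgebraicGeometry.AlgClosed.Basic
import Mathlib.AlgebraicGeometry.Morphisms.QuasiFinite

/-!
# Lifting central homomorphisms out of finite etale groups of multiplicative type
-/

universe u

open CategoryTheory CategoryTheory.Limits MonoidalCategory CartesianMonoidalCategory MonObj GrpObj AlgebraicGeometry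
open scoped CategoryTheory.Obj

namespace Groth.Agent.MultConjLib.CentralLift

open GrpSchLib
open GrpSchLib.DiagActionRigid (sp spm spm_comp spm_left coord_ext)
open DSPtsLib (CoordM)

set_option backward.isDefEq.respectTransparency false

variable {S : Scheme.{u}}

/-- A finite group of multiplicative type has no point of order the characteristic over a field. -/
theorem eq_one_of_pow_char {H : Over S} [GrpObj H] (hH : IsLocDS H) {L : Type u} [Field L]
    (β : Spec (CommRingCat.of L) ⟶ S) {p : ℕ} [CharP L p] (hp : p.Prime) (x : sp β L ⟶ H) (hx : x ^ p = 1) : x = 1 := by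
  classical
  obtain ⟨A, _, _, y, hy, -, -, -⟩ := exists_univ_int hH β
  obtain ⟨κ, _, Rk, _, _, _, hsurj, hk⟩ := exists_split_cover hH β
  obtain ⟨k, q, -⟩ := hsurj ⟨⊥, Ideal.bot_prime⟩
  obtain ⟨U, gU, M, _, e, jU, hjU⟩ := hk k
  obtain ⟨χ, hnat, hmul, hbij⟩ := exists_char_pts (R := L) (β := β) gU e (R' := Rk k) jU hjU
  let B := Rk k ⧸ q.asIdeal
  haveI : IsDomain B := Ideal.Quotient.isDomain _
  let ρ : Rk k →ₐ[L] B := Ideal.Quotient.mkₐ L q.asIdeal
  let f : L →ₐ[L] B := Algebra.ofId L B
  have hf : Function.Injective f := (algebraMap L B).injective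
  haveI : CharP B p := charP_of_injective_algebraMap hf p
  refine point_ext_of_injective hy f hf ?_
  rw [MonObj.comp_one]
  obtain ⟨c, hc⟩ := (hbij B ρ).2 (spm β f ≫ x)
  have htriv : χ B ρ (ofVal 1) = 1 := by
    have h := hmul ρ (ofVal 1) (ofVal 1) (ofVal 1) fun m => by simp [ofVal_single]
    exact mul_eq_left.mp h
  have hpow : ∀ i : ℕ, χ B ρ c ^ i = χ B ρ (ofVal (charVal c ^ i)) := fun i => by
    induction i with
    | zero => rw [pow_zero, pow_zero, htriv]
    | succ i ih =>
      rw [pow_succ, ih]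
      refine hmul ρ _ _ _ fun m => ?_
      rw [ofVal_single, ofVal_single, pow_succ]
      rfl
  have h1 : χ B ρ (ofVal (charVal c ^ p)) = χ B ρ (ofVal 1) := by
    rw [← hpow, hc, ← MonObj.comp_pow, hx, MonObj.comp_one, htriv]
  rw [← hc, ← htriv]
  congr 1
  refine coord_ext fun m => ?_
  have h2 := RingHom.congr_fun ((hbij B ρ).1 h1) (MonoidAlgebra.single m 1)
  rw [ofVal_single, ofVal_single] at h2
  rw [ofVal_single]
  have h3 : (c (MonoidAlgebra.single m 1)) ^ p = 1 := h2
  haveI := Fact.mk hp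
  haveI : ExpChar B p := ExpChar.prime hp
  exact frobenius_inj B p (by rw [frobenius_def, frobenius_def, h3]; simp)

/-- A finite group of multiplicative type is killed, on points over a field, by an integer invertible in it. -/
theorem exists_kill_field {H : Over S} [GrpObj H] (hH : IsLocDS H) [IsFinite H.hom] {L : Type u} [Field L]
    (β : Spec (CommRingCat.of L) ⟶ S) : ∃ n : ℕ, (n : L) ≠ 0 ∧ ∀ x : sp β L ⟶ H, x ^ n = 1 := by
  classical
  obtain ⟨A, _, _, y, hy, sq, -, -⟩ := exists_univ_int hH β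
  haveI : Module.Finite L A := RingHom.finite_algebraMap.mp ((IsFinite.SpecMap_iff _).mp
    (MorphismProperty.of_isPullback sq.flip (inferInstance : IsFinite H.hom)))
  haveI : Finite (sp β L ⟶ H) := Finite.of_surjective (fun ψ : A →ₐ[L] L => spm β ψ ≫ y) fun p => by
    obtain ⟨ψ, hψ, -⟩ := hy L p
    exact ⟨ψ, hψ⟩
  refine ⟨Nat.card (sp β L ⟶ H), fun hcard => ?_, fun x => pow_card_eq_one'⟩
  obtain ⟨p, hp⟩ := CharP.exists L
  have hdvd : p ∣ Nat.card (sp β L ⟶ H) := (CharP.cast_eq_zero_iff L p _).mp hcard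
  rcases CharP.char_is_prime_or_zero L p with hpp | rfl
  · haveI := Fact.mk hpp
    obtain ⟨x, hx⟩ := exists_prime_orderOf_dvd_card' p hdvd
    have := eq_one_of_pow_char hH β hpp x (hx ▸ pow_orderOf_eq_one x)
    rw [this, orderOf_one] at hx
    exact hpp.one_lt.ne hx
  · exact Nat.card_pos.ne' (Nat.eq_zero_of_zero_dvd hdvd)

/-- A finite etale group of multiplicative type is, locally on the base, killed by an invertible integer. -/
theorem tors_id {H : Over S} [GrpObj H] (hH : IsLocDS H) [IsFinite H.hom] [Etale H.hom] : Tors (𝟙 H) := fun p => by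
  classical
  set s := H.hom p with hs
  let L := AlgebraicClosure (S.residueField s)
  let β : Spec (CommRingCat.of L) ⟶ S :=
    Spec.map (CommRingCat.ofHom (algebraMap (S.residueField s) L)) ≫ S.fromSpecResidueField s
  obtain ⟨n, hn, hkill⟩ := exists_kill_field hH β
  let φ : H ⟶ H := 𝟙 H ^ n
  let one : 𝟙_ (Over S) ⟶ H := η[H]
  haveI : IsOpenImmersion one.left := EtFound.isOpenImmersion_section H.hom one.left (Over.w one)
  let E : H.left.Opens := φ.left ⁻¹ᵁ one.left.opensRange
  -- every point over `s` is killed by `n`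
  have hfib : ∀ h : H.left, H.hom h = s → h ∈ E := fun h hh => by
    let P := pullback H.hom β
    let r : P ⟶ Spec (CommRingCat.of L) := pullback.snd H.hom β
    haveI : IsFinite r := MorphismProperty.pullback_snd (P := @IsFinite) _ _ inferInstance
    obtain ⟨z, hz, -⟩ := Scheme.Pullback.exists_preimage_pullback (f := H.hom) (g := β) h
      ((IsLocalRing.closedPoint L : PrimeSpectrum L) : Spec (CommRingCat.of L)) (by
      show H.hom h = β _
      exact hh.trans (Scheme.fromSpecResidueField_apply _ _).symm)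
    have hzc : IsClosed ({z} : Set P) := by
      have h1 := (r.quasiFiniteAt z).isClopen_singleton_asFiber.1
      have hrange : Set.range (r.fiberι (r z)) = Set.univ := by
        rw [Scheme.Hom.range_fiberι]
        exact Set.eq_univ_of_forall fun w => Subsingleton.elim (α := PrimeSpectrum L) _ _
      have h2 : Topology.IsClosedEmbedding (r.fiberι (r z)) :=
        ⟨(r.fiberι _).isEmbedding, by rw [hrange]; exact isClosed_univ⟩
      have h3 := h2.isClosedMap _ h1
      rwa [Set.image_singleton, r.fiberι_asFiber z] at h3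
    let σ := (pointEquivClosedPoint r).symm ⟨z, hzc⟩
    have hσ : σ.1 ≫ pullback.snd H.hom β = 𝟙 _ := σ.2
    have hσz : σ.1 (IsLocalRing.closedPoint L) = z :=
      congrArg Subtype.val ((pointEquivClosedPoint r).apply_symm_apply ⟨z, hzc⟩)
    let x : sp β L ⟶ H := Over.homMk (σ.1 ≫ pullback.fst H.hom β) (by
      show (σ.1 ≫ pullback.fst H.hom β) ≫ H.hom = Spec.map (CommRingCat.ofHom (algebraMap L L)) ≫ β
      rw [Category.assoc, pullback.condition, ← Category.assoc, hσ, Category.id_comp, show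
        CommRingCat.ofHom (algebraMap L L) = 𝟙 (CommRingCat.of L) from rfl, Spec.map_id, Category.id_comp])
    have h1 : x ≫ φ = 1 := by rw [MonObj.comp_pow, Category.comp_id, hkill]
    have h2 : φ.left h = one.left ((sp β L).hom (IsLocalRing.closedPoint L)) := by
      have := congrArg (fun m : sp β L ⟶ H => m.left.base (IsLocalRing.closedPoint L)) h1
      rw [← hz, ← hσz]
      exact this
    exact ⟨_, h2.symm⟩
  let N : S.Opens := ⟨{t | (n : S.residueField t) ≠ 0}, by
    have : {t : S | (n : S.residueField t) ≠ 0} = (S.basicOpen (n : Γ(S, ⊤)) : Set S) := Set.ext fun t => by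
      rw [Set.mem_ofPred_eq, SetLike.mem_coe, ← Scheme.evaluation_ne_zero_iff_mem_basicOpen (U := ⊤) S t trivial, map_natCast]
    rw [this]
    exact (S.basicOpen _).isOpen⟩
  let V : S.Opens := ⟨(H.hom '' (E : Set H.left)ᶜ)ᶜ ∩ N, (H.hom.isClosedMap _ E.2.isClosed_compl).isOpen_compl.inter N.2⟩
  refine ⟨n, V, ⟨fun ⟨h, hh, hhs⟩ => hh (hfib h hhs), ?_⟩, fun t ht => ht.2, fun Y g hg => ?_⟩
  · show (n : S.residueField s) ≠ 0
    intro h0
    refine hn ?_
    rw [← map_natCast (algebraMap (S.residueField s) L), h0, map_zero]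
  · have hr : Set.range (g ≫ φ).left ⊆ Set.range one.left := by
      rintro _ ⟨q, rfl⟩
      by_contra hq
      exact (hg q).1 ⟨g.left q, hq, hom_left_apply g q⟩
    let l := IsOpenImmersion.lift one.left (g ≫ φ).left hr
    have hl : l ≫ one.left = (g ≫ φ).left := IsOpenImmersion.lift_fac _ _ _
    have hl' : l = Y.hom := by
      have h := congrArg (· ≫ H.hom) hl
      simp only [Category.assoc, Over.w one, Over.w (g ≫ φ)] at h
      exact (Category.comp_id l).symm.trans h
    rw [Category.comp_id, show g ^ n = g ≫ φ by rw [MonObj.comp_pow, Category.comp_id], Hom.one_def]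
    refine Over.OverMorphism.ext ?_
    rw [← hl, hl']
    rfl

variable {Z : Scheme.{u}} (π : Z ⟶ S) {H G : Over S} [GrpObj H] [GrpObj G]

/-- The thickening of `X` by `π`. -/
noncomputable abbrev thick (X : Over S) : (Over.map π).obj ((Over.pullback π).obj X) ⟶ X := DSPtsLib.theta π (𝟙 _)

theorem th_thick (hπ : Th π) (X : Over S) : Th (thick π X).left := by
  show Th ((𝟙 _ : pullback X.hom π ⟶ _) ≫ pullback.fst X.hom π)
  rw [Category.id_comp]
  exact Th.of_isPullback (IsPullback.of_hasPullback X.hom π) hπ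

theorem th_of_isClosedImmersion [IsClosedImmersion π] [Surjective π] : Th π :=
  ⟨inferInstance, inferInstance, inferInstance⟩

theorem eq_of_map_eq [Surjective π] [IsClosedImmersion π] (hH : IsLocDS H) [IsFinite H.hom] [Etale H.hom]
    (hcomm : ∀ (Y : Over S) (a b : Y ⟶ H), a * b = b * a) {X : Over S} (a b : X ⟶ H)
    (h : thick π X ≫ a = thick π X ≫ b) : a = b := by
  haveI : LocallyOfFinitePresentation H.hom := inferInstance
  refine eq_of_thick _ (th_thick π (th_of_isClosedImmersion π) X) ?_ ?_ (fun p => ?_) h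
  · rw [← Category.comp_id a]; exact (tors_id hH).precomp a
  · rw [← Category.comp_id b]; exact (tors_id hH).precomp b
  · let β : Spec (H.left.residueField (b.left p)) ⟶ S := H.left.fromSpecResidueField (b.left p) ≫ H.hom
    let g : Over.mk β ⟶ H := Over.homMk (H.left.fromSpecResidueField (b.left p)) rfl
    have := etAt_of_central (K := H.left.residueField (b.left p)) β g (fun Y q y => hcomm Y _ _) (IsLocalRing.closedPoint _)
    rwa [show g.left (IsLocalRing.closedPoint _) = b.left p from Scheme.fromSpecResidueField_apply _ _] at this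

/-- Factorisation of morphisms into a pushed forward object. -/
theorem exists_over {Y : Over S} {X₀ : Over Z} (h : Y ⟶ (Over.map π).obj X₀) :
    ∃ (Y₀ : Over Z) (e : Y ≅ (Over.map π).obj Y₀) (h₀ : Y₀ ⟶ X₀), h = e.hom ≫ (Over.map π).map h₀ := by
  refine ⟨Over.mk (h.left ≫ X₀.hom), Over.isoMk (Iso.refl _) ?_, Over.homMk h.left rfl,
    Over.OverMorphism.ext (Category.id_comp _).symm⟩
  show 𝟙 _ ≫ (h.left ≫ X₀.hom) ≫ π = Y.hom
  rw [Category.id_comp, Category.assoc]
  exact Over.w h

theorem theta_injective_pow {Y : Over Z} (a : Y ⟶ Red.bc π H) (n : ℕ) :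
    DSPtsLib.theta π (a ^ n) = DSPtsLib.theta π a ^ n :=
  map_pow (MonoidHom.mk' (DSPtsLib.theta π) (DSPtsLib.theta_mul π)) a n

/-- Homomorphisms out of a finite etale group of multiplicative type into a flat group lift uniquely, and centrally,
along a thickening, if they are central on it. -/
theorem exists_hom_lift [IsClosedImmersion π] [Surjective π] (hH : IsLocDS H) [IsFinite H.hom] [Etale H.hom]
    [Flat G.hom] [LocallyOfFinitePresentation G.hom]
    (u₀ : Red.bc π H ⟶ Red.bc π G) [IsMonHom u₀]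
    (hc₀ : ∀ (X : Over Z) (x : X ⟶ Red.bc π H) (g : X ⟶ Red.bc π G), (x ≫ u₀) * g = g * (x ≫ u₀)) :
    ∃ u : H ⟶ G, IsMonHom u ∧ (Over.pullback π).map u = u₀ ∧
      (∀ (X : Over S) (x : X ⟶ H) (g : X ⟶ G), (x ≫ u) * g = g * (x ≫ u)) ∧
      ∀ u' : H ⟶ G, IsMonHom u' → (Over.pullback π).map u' = u₀ → u' = u := by
  classical
  have hπ : Th π := th_of_isClosedImmersion π
  let c := thick π H
  let x₀ : (Over.map π).obj (Red.bc π H) ⟶ G := DSPtsLib.theta π u₀
  -- the point over the thickening is killed and central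
  have htors : Tors x₀ := fun p => by
    obtain ⟨n, V, hV, hn, hk⟩ := tors_id hH (c.left p)
    rw [hom_left_apply] at hV
    refine ⟨n, V, hV, hn, fun Y h hh => ?_⟩
    obtain ⟨Y₀, e, h₀, rfl⟩ := exists_over π h
    rw [Category.assoc, ← MonObj.comp_pow, ← DSPtsLib.theta_comp, ← theta_injective_pow, ← MonObj.pow_comp]
    have h1 : DSPtsLib.theta π (h₀ ^ n) = 1 := by
      rw [theta_injective_pow]
      have h2 := hk _ ((Over.map π).map h₀ ≫ c) fun q => by
        rw [← hom_left_apply e.inv]
        exact hh (e.inv.left q)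
      rwa [Category.comp_id, ← DSPtsLib.theta_comp, Category.comp_id] at h2
    have h3 : h₀ ^ n = 1 := (DSPtsLib.theta_bijective (g := π)).1 (h1.trans (HomUnitLocus.theta_one π Y₀).symm)
    rw [h3, MonObj.one_comp, HomUnitLocus.theta_one, MonObj.comp_one]
  have hcen : ∀ (Y : Over S) (h : Y ⟶ (Over.map π).obj (Red.bc π H)) (g : Y ⟶ G),
      (h ≫ x₀) * g = g * (h ≫ x₀) := fun Y h g => by
    obtain ⟨Y₀, e, h₀, rfl⟩ := exists_over π h
    obtain ⟨g₀, hg₀⟩ := (DSPtsLib.theta_bijective (g := π) (H := G) (Y := Y₀)).2 (e.inv ≫ g)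
    have h1 := congrArg (DSPtsLib.theta π) (hc₀ Y₀ h₀ g₀)
    rw [DSPtsLib.theta_mul, DSPtsLib.theta_mul, DSPtsLib.theta_comp, hg₀] at h1
    have h2 := congrArg (e.hom ≫ ·) h1
    simp only [MonObj.comp_mul, Category.assoc, Iso.hom_inv_id_assoc] at h2
    simpa only [Category.assoc] using h2
  have hU : InU x₀ := fun p => by
    let β : Spec (((Over.map π).obj (Red.bc π H)).left.residueField p) ⟶ S :=
      ((Over.map π).obj (Red.bc π H)).left.fromSpecResidueField p ≫ ((Over.map π).obj (Red.bc π H)).hom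
    let i : Over.mk β ⟶ (Over.map π).obj (Red.bc π H) :=
      Over.homMk (((Over.map π).obj (Red.bc π H)).left.fromSpecResidueField p) rfl
    have := etAt_of_central (K := ((Over.map π).obj (Red.bc π H)).left.residueField p) β (i ≫ x₀) (fun Y q y => by
      rw [← Category.assoc]; exact hcen Y _ y) (IsLocalRing.closedPoint _)
    rwa [show (i ≫ x₀).left (IsLocalRing.closedPoint _) = x₀.left p by
      rw [Over.comp_left, Scheme.Hom.comp_apply]
      congr 1
      exact Scheme.fromSpecResidueField_apply _ _] at this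
  obtain ⟨u, hu, hut, huU⟩ := exists_lift c (th_thick π hπ H) x₀ htors hU
  have hmap : (Over.pullback π).map u = u₀ := by
    refine (DSPtsLib.theta_bijective (g := π)).1 ?_
    show _ = x₀
    rw [← hu, ← HomUnitLocus.theta_comp_map, Category.id_comp]
  -- points on thickenings
  have hkey : ∀ (X : Over S) (a : X ⟶ H), ∃ a₀, thick π X ≫ a = DSPtsLib.theta π a₀ ∧
      ∀ v : H ⟶ G, (Over.pullback π).map v = u₀ → thick π X ≫ a ≫ v = DSPtsLib.theta π (a₀ ≫ u₀) := fun X a => by
    obtain ⟨a₀, ha₀⟩ := (DSPtsLib.theta_bijective (g := π) (H := H) (Y := Red.bc π X)).2 (thick π X ≫ a)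
    exact ⟨a₀, ha₀.symm, fun v hv => by rw [← Category.assoc, ← ha₀, ← hv, HomUnitLocus.theta_comp_map]⟩
  have hcentral : ∀ (X : Over S) (x : X ⟶ H) (g : X ⟶ G), (x ≫ u) * g = g * (x ≫ u) := fun X x g => by
    obtain ⟨a₀, -, ha⟩ := hkey X x
    obtain ⟨g₀, hg₀⟩ := (DSPtsLib.theta_bijective (g := π) (H := G) (Y := Red.bc π X)).2 (thick π X ≫ g)
    have h1 : g * (x ≫ u) * g⁻¹ = x ≫ u := by
      refine eq_of_thick _ (th_thick π hπ X) ((hut.precomp x).conj g) (hut.precomp x)
        (fun p => huU (x.left p)) ?_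
      have hcomm := congrArg (DSPtsLib.theta π) (hc₀ _ a₀ g₀)
      rw [DSPtsLib.theta_mul, DSPtsLib.theta_mul, hg₀, ← ha u hmap] at hcomm
      rw [MonObj.comp_mul, MonObj.comp_mul, GrpObj.comp_inv, ← hcomm, mul_inv_cancel_right]
    exact (mul_inv_eq_iff_eq_mul.mp h1).symm
  have hmul : ∀ (X : Over S) (a b : X ⟶ H), (a * b) ≫ u = (a ≫ u) * (b ≫ u) := fun X a b => by
    obtain ⟨a₀, ha₀, ha⟩ := hkey X a
    obtain ⟨b₀, hb₀, hb⟩ := hkey X b
    obtain ⟨d₀, hd₀, hd⟩ := hkey X (a * b)
    have hdd : d₀ = a₀ * b₀ := (DSPtsLib.theta_bijective (g := π)).1 (by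
      rw [DSPtsLib.theta_mul, ← hd₀, ← ha₀, ← hb₀, MonObj.comp_mul])
    refine (eq_of_thick _ (th_thick π hπ X) ((hut.precomp a).mul (hut.precomp b) fun Y h => ?_)
      (hut.precomp (a * b)) (fun p => huU ((a * b).left p)) ?_).symm
    · rw [← Category.assoc, ← Category.assoc]
      exact hcentral Y _ _
    · rw [MonObj.comp_mul, ha u hmap, hb u hmap, hd u hmap, hdd, MonObj.mul_comp, DSPtsLib.theta_mul]
  haveI hmon : IsMonHom u := by
    have h1 : (1 : 𝟙_ (Over S) ⟶ H) ≫ u = 1 := by
      have h := hmul _ (1 : 𝟙_ (Over S) ⟶ H) 1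
      rw [_root_.one_mul] at h
      exact left_eq_mul.mp h
    refine ⟨?_, ?_⟩
    · rw [Hom.one_def, Hom.one_def, toUnit_unique (toUnit _) (𝟙 _), Category.id_comp, Category.id_comp] at h1
      exact h1
    · rw [mul_eq_mul, hmul, Hom.mul_def]
      congr 1
  refine ⟨u, hmon, hmap, hcentral, fun u' hu' hmap' => ?_⟩
  have htors' : Tors u' := by
    rw [← Category.id_comp u']
    exact (tors_id hH).comp_hom u'
  refine eq_of_thick c (th_thick π hπ H) htors' hut huU ?_
  show thick π H ≫ u' = thick π H ≫ u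
  rw [← HomUnitLocus.theta_comp_map, ← HomUnitLocus.theta_comp_map, hmap, hmap']

/-- A quotient by a nil ideal is surjective on spectra. -/
theorem surjective_specMk {A : Type u} [CommRing A] (J : Ideal A) (hJ : ∀ x ∈ J, IsNilpotent x) :
    Surjective (Spec.map (CommRingCat.ofHom (Ideal.Quotient.mk J))) := by
  refine ⟨fun p => ?_⟩
  have hle : J ≤ p.asIdeal := fun x hx => by
    obtain ⟨n, hn⟩ := hJ x hx
    exact p.isPrime.mem_of_pow_mem n (hn ▸ zero_mem _)
  refine ⟨⟨p.asIdeal.map (Ideal.Quotient.mk J), ?_⟩, PrimeSpectrum.ext ?_⟩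
  · exact Ideal.map_isPrime_of_surjective Ideal.Quotient.mk_surjective (by rwa [Ideal.mk_ker])
  · exact (Ideal.comap_map_of_surjective _ Ideal.Quotient.mk_surjective _).trans
      (by rw [← RingHom.ker_eq_comap_bot, Ideal.mk_ker, sup_eq_left.2 hle])

end Groth.Agent.MultConjLib.CentralLift
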