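import Groth.Agent.MultConjLib.CentralLiftHom
import Groth.Agent.MultConjLib.Bridge
import Groth.Agent.MultTypeLib.FiniteMult
import Groth.Agent.MultTypeLib.Torsion
import Groth.Agent.UnramMisc.QFSmooth
import Groth.Agent.GrpSchLib.UnramifiedFibre
import Groth.Agent.GrpSchLib.MultTypeLft
import Groth.Agent.S2973
import Groth.Agent.S2979
import Mathlib.AlgebraicGeometry.Morphisms.Proper

/-!
# Finite etale groups of multiplicative type and thickenings
-/

universe u

open CategoryTheory CategoryTheory.Limits MonoidalCategory CartesianMonoidalCategory MonObj GrpObj AlgebraicGeometry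
open TensorProduct

namespace Groth.Agent.MultConjLib.CentralLift

set_option backward.isDefEq.respectTransparency false

variable {R : Type u} [CommRing R]

/-- A finite group of multiplicative type over an affine base is flat and of finite presentation. -/
theorem flat_lfp_of_finite {H : Over (Spec (CommRingCat.of R))} [GrpObj H] (hH : IsLocDS H) [IsFinite H.hom] :
    Flat H.hom ∧ LocallyOfFinitePresentation H.hom := by
  haveI : IsAffine H.left := isAffine_of_isAffineHom H.hom
  obtain ⟨A, _, _, ⟨e⟩⟩ := GrpSchLib.AffineHopf.exists_hopf H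
  haveI : IsIso e.hom.hom.hom.left :=
    ⟨e.inv.hom.hom.left, congrArg (fun h => h.hom.hom.left) e.hom_inv_id,
      congrArg (fun h => h.hom.hom.left) e.inv_hom_id⟩
  have hw : e.hom.hom.hom.left ≫ H.hom = Spec.map (CommRingCat.ofHom (algebraMap R A)) := Over.w e.hom.hom.hom
  haveI : IsFinite (Spec.map (CommRingCat.ofHom (algebraMap R A))) := by rw [← hw]; infer_instance
  haveI : Module.Finite R A := RingHom.finite_algebraMap.mp ((IsFinite.SpecMap_iff _).mp ‹_›)
  haveI : Module.Projective R A :=
    MultTypeLib.projective_of_isMultType (isMultType_of_locDS R A (isLocDS_congr e.symm hH))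
  haveI : Module.FinitePresentation R A := Module.finitePresentation_of_projective R A
  haveI : Algebra.FinitePresentation R A :=
    (Module.FinitePresentation.iff_finitePresentation_of_finite R A).mp inferInstance
  constructor
  · have h : Flat (Spec.map (CommRingCat.ofHom (algebraMap R A))) :=
      (HasRingHomProperty.Spec_iff (P := @Flat)).mpr (RingHom.flat_algebraMap_iff.mpr inferInstance)
    rwa [← hw, MorphismProperty.cancel_left_of_respectsIso (P := @Flat)] at h
  · have h : LocallyOfFinitePresentation (Spec.map (CommRingCat.ofHom (algebraMap R A))) :=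
      (HasRingHomProperty.Spec_iff (P := @LocallyOfFinitePresentation)).mpr
        (RingHom.finitePresentation_algebraMap.mpr inferInstance)
    rwa [← hw, MorphismProperty.cancel_left_of_respectsIso (P := @LocallyOfFinitePresentation)] at h

/-- A group of multiplicative type is finite etale if it is so on a thickening. -/
theorem finite_etale_of_thick {H : Over (Spec (CommRingCat.of R))} [GrpObj H] (hH : IsLocDS H)
    [LocallyOfFiniteType H.hom] {Z : Scheme.{u}} (π : Z ⟶ Spec (CommRingCat.of R)) [IsClosedImmersion π] [Surjective π]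
    (hfin : IsFinite ((Over.pullback π).obj H).hom) (hsm : Smooth ((Over.pullback π).obj H).hom) :
    IsFinite H.hom ∧ Etale H.hom := by
  haveI := isAffineHom_of_locDS hH
  haveI : IsFinite (pullback.snd H.hom π) := hfin
  haveI : Smooth (pullback.snd H.hom π) := hsm
  haveI : Surjective (pullback.fst H.hom π) := MorphismProperty.pullback_fst (P := @Surjective) _ _ ‹_›
  haveI : UniversallyClosed (pullback.fst H.hom π ≫ H.hom) := by rw [pullback.condition]; infer_instance
  haveI : UniversallyClosed H.hom := UniversallyClosed.of_comp_surjective (pullback.fst H.hom π) H.hom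
  haveI : IsProper H.hom := ⟨⟩
  haveI hf : IsFinite H.hom := IsFinite.iff_isProper_and_isAffineHom.mpr ⟨inferInstance, inferInstance⟩
  refine ⟨hf, ?_⟩
  obtain ⟨_, _⟩ := flat_lfp_of_finite hH
  haveI : Etale (pullback.snd H.hom π) := UnramMisc.etale_of_smooth_of_locallyQuasiFinite _
  haveI : FormallyUnramified H.hom := by
    refine GrpSchLib.formallyUnramified_of_fibres _ fun s => ?_
    let i := (Spec (CommRingCat.of R)).fromSpecResidueField s
    haveI : IsClosedImmersion (pullback.fst i π) := MorphismProperty.pullback_fst (P := @IsClosedImmersion) _ _ ‹_›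
    haveI : Surjective (pullback.fst i π) := MorphismProperty.pullback_fst (P := @Surjective) _ _ ‹_›
    haveI : IsIso (pullback.fst i π) := isIso_of_isClosedImmersion_of_surjective _
    let t : Spec ((Spec (CommRingCat.of R)).residueField s) ⟶ Z := inv (pullback.fst i π) ≫ pullback.snd i π
    have ht : t ≫ π = i := by rw [Category.assoc, ← pullback.condition, IsIso.inv_hom_id_assoc]
    show FormallyUnramified (pullback.snd H.hom i)
    let v : pullback H.hom i ⟶ pullback H.hom π :=
      pullback.lift (pullback.fst _ _) (pullback.snd _ _ ≫ t) (by rw [Category.assoc, ht, pullback.condition])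
    have hsq : IsPullback v (pullback.snd H.hom i) (pullback.snd H.hom π) t := by
      refine IsPullback.of_right ?_ (pullback.lift_snd _ _ _) (IsPullback.of_hasPullback H.hom π)
      rw [pullback.lift_fst, ht]
      exact IsPullback.of_hasPullback H.hom i
    exact MorphismProperty.of_isPullback (P := @FormallyUnramified) hsq inferInstance
  exact Etale.of_formallyUnramified_of_flat H.hom

open MultTypeLib in
/-- A group of multiplicative type which is finite modulo a nil ideal is finite. -/
theorem finite_of_finite_red {A : Type u} [CommRing A] [HopfAlgebra R A] (J : Ideal R) (hJ : ∀ x ∈ J, IsNilpotent x)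
    [Module.Finite (R ⧸ J) ((R ⧸ J) ⊗[R] A)] (hA : SGA3b.IsMultType R A) : Module.Finite R A := by
  classical
  obtain ⟨c⟩ := exists_cover hA
  have hgen : ∀ i, ∃ L : Submodule R A, L.FG ∧
      ∀ z : (c.split i).S ⊗[R] A, z ∈ LinearMap.range (LinearMap.lTensor (c.split i).S L.subtype) := by
    intro i
    let P := c.split i
    rcases subsingleton_or_nontrivial P.S with hS | hS
    · refine ⟨⊥, Submodule.fg_bot, fun z => ⟨0, ?_⟩⟩
      have : Subsingleton (P.S ⊗[R] A) := Module.subsingleton P.S _
      exact Subsingleton.elim _ _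
    obtain ⟨m, hm⟩ := Ideal.exists_maximal P.S
    let K := P.S ⧸ m
    letI : Field K := Ideal.Quotient.field m
    have hker : ∀ x ∈ J, algebraMap R K x = 0 := fun x hx => by
      obtain ⟨k, hk⟩ := hJ x hx
      exact (pow_eq_zero_iff' (n := k)).mp (by rw [← map_pow, hk, map_zero]) |>.1
    letI : Algebra (R ⧸ J) K := (Ideal.Quotient.lift J (algebraMap R K) hker).toAlgebra
    haveI : IsScalarTower R (R ⧸ J) K := IsScalarTower.of_algebraMap_eq fun x => (Ideal.Quotient.lift_mk J _ hker).symm
    haveI : Module.Finite K (K ⊗[R] A) :=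
      Module.Finite.equiv (TensorProduct.AlgebraTensorModule.cancelBaseChange R (R ⧸ J) K K A)
    let b := ((MonoidAlgebra.basis P.M P.S).map P.equiv.symm.toLinearEquiv).baseChange K
    let b' := b.map (TensorProduct.AlgebraTensorModule.cancelBaseChange R P.S K K A)
    have : Finite P.M := Module.Finite.finite_basis b'
    have : Fintype P.M := Fintype.ofFinite _
    let s : Set (P.S ⊗[R] A) := Set.range fun m : P.M => P.equiv.symm (MonoidAlgebra.single m 1)
    obtain ⟨L, hL, hs⟩ := TensorProduct.exists_finite_submodule_right_of_setFinite s (Set.finite_range _)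
    have hLS : ∀ (r : P.S) (z : P.S ⊗[R] A), z ∈ LinearMap.range (LinearMap.lTensor P.S L.subtype) →
        r • z ∈ LinearMap.range (LinearMap.lTensor P.S L.subtype) := by
      rintro r _ ⟨y, rfl⟩
      refine ⟨r • y, ?_⟩
      induction y using TensorProduct.induction_on with
      | zero => simp
      | add y₁ y₂ h₁ h₂ => simp [smul_add, map_add, h₁, h₂]
      | tmul a b => simp [TensorProduct.smul_tmul']
    refine ⟨L, Module.Finite.iff_fg.mp hL, fun z => ?_⟩
    obtain ⟨y, rfl⟩ := P.equiv.symm.surjective z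
    induction y using MonoidAlgebra.induction_linear with
    | zero => simp
    | add y w hy hw => rw [map_add]; exact add_mem hy hw
    | single m r =>
      have e : MonoidAlgebra.single m r = r • MonoidAlgebra.single m (1 : P.S) := by simp
      rw [e, map_smul]
      exact hLS r _ (hs ⟨m, rfl⟩)
  choose L hL hmem using hgen
  have := Fintype.ofFinite c.ι
  refine ⟨?_⟩
  have htop : (⊤ : Submodule R A) = ⨆ i ∈ (Finset.univ : Finset c.ι), L i := by
    refine le_antisymm (fun a _ => c.mem_of_forall _ a fun i => ?_) le_top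
    have hle : L i ≤ ⨆ i ∈ (Finset.univ : Finset c.ι), L i := le_biSup L (Finset.mem_univ i)
    obtain ⟨y, hy⟩ := hmem i (1 ⊗ₜ[R] a)
    refine ⟨LinearMap.lTensor _ (Submodule.inclusion hle) y, ?_⟩
    rw [← LinearMap.comp_apply, ← LinearMap.lTensor_comp, Submodule.subtype_comp_inclusion]
    exact hy
  rw [htop]
  exact Submodule.fg_biSup Finset.univ L fun i _ => hL i

/-- A subgroup of multiplicative type, finite, smooth and central on a nil thickening, lifts. -/
theorem exists_multType_lift (J : Ideal R) (hJ : ∀ x ∈ J, IsNilpotent x)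
    (H₀ : Over (Spec (CommRingCat.of (R ⧸ J)))) [GrpObj H₀] [IsFinite H₀.hom] [Smooth H₀.hom]
    (hH₀ : SGA3x.IsMultTypeFT H₀) :
    ∃ (H : Over (Spec (CommRingCat.of R))) (_ : GrpObj H), SGA3x.IsMultTypeFT H ∧ IsFinite H.hom ∧ Etale H.hom ∧
      ∃ ψ : Red.bc (Spec.map (CommRingCat.ofHom (Ideal.Quotient.mk J))) H ≅ H₀, IsMonHom ψ.hom := by
  classical
  let R₀ := R ⧸ J
  let jR : Spec (CommRingCat.of R₀) ⟶ Spec (CommRingCat.of R) := Spec.map (CommRingCat.ofHom (Ideal.Quotient.mk J))
  haveI : IsClosedImmersion jR := IsClosedImmersion.spec_of_surjective _ Ideal.Quotient.mk_surjective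
  haveI : Surjective jR := surjective_specMk J hJ
  haveI : IsAffine H₀.left := isAffine_of_isAffineHom H₀.hom
  obtain ⟨A₀, _, _, ⟨e₀⟩⟩ := GrpSchLib.AffineHopf.exists_hopf H₀
  haveI : IsIso e₀.hom.hom.hom.left :=
    ⟨e₀.inv.hom.hom.left, congrArg (fun h => h.hom.hom.left) e₀.hom_inv_id,
      congrArg (fun h => h.hom.hom.left) e₀.inv_hom_id⟩
  have hw₀ : e₀.hom.hom.hom.left ≫ H₀.hom = Spec.map (CommRingCat.ofHom (algebraMap R₀ A₀)) := Over.w e₀.hom.hom.hom
  haveI : IsFinite (Spec.map (CommRingCat.ofHom (algebraMap R₀ A₀))) := by rw [← hw₀]; infer_instance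
  haveI : Module.Finite R₀ A₀ := RingHom.finite_algebraMap.mp ((IsFinite.SpecMap_iff _).mp ‹_›)
  have hq₀ : SGA3b.IsQuasiIsotrivial R₀ A₀ := S2973.result R₀ A₀ inferInstance
    (isMultType_of_locDS R₀ A₀ (isLocDS_congr e₀.symm (isLocDS_of_multTypeFT hH₀)))
  obtain ⟨A, _, _, hA, ⟨e⟩⟩ := S2979.result R J hJ A₀ hq₀
  haveI : Module.Finite R₀ (R₀ ⊗[R] A) :=
    Module.Finite.equiv ((e : R₀ ⊗[R] A ≃ₐ[R₀] A₀).toLinearEquiv.symm)
  haveI : Module.Finite R A := finite_of_finite_red J hJ (isMultType_of_quasiIsotrivial hA)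
  let H : Over (Spec (CommRingCat.of R)) := GrpSchLib.AffineHopf.sp R A
  have hHft : SGA3x.IsMultTypeFT H := isMultTypeFT_sp (isMultType_of_quasiIsotrivial hA)
  obtain ⟨e₁⟩ := GrpSchLib.AffineHopf.nonempty_bc_sp (R := R) R₀ A
  let ψG : Grp.mk (Red.bc jR H) ≅ Grp.mk H₀ := e₁ ≪≫ GrpSchLib.AffineHopf.spIso e.symm ≪≫ e₀
  let ψ : Red.bc jR H ≅ H₀ := ⟨ψG.hom.hom.hom, ψG.inv.hom.hom, congrArg (fun h => h.hom.hom) ψG.hom_inv_id,
    congrArg (fun h => h.hom.hom) ψG.inv_hom_id⟩
  haveI : IsMonHom ψ.hom := ψG.hom.hom.isMonHom_hom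
  haveI : LocallyOfFiniteType H.hom := GrpSchLib.MultTypeLft.lft hHft
  haveI : IsIso ψ.hom.left := inferInstanceAs (IsIso ((Over.forget _).map ψ.hom))
  obtain ⟨hf, he⟩ := finite_etale_of_thick (isLocDS_of_multTypeFT hHft) jR
    (by rw [← Over.w ψ.hom]; infer_instance) (by rw [← Over.w ψ.hom]; infer_instance)
  exact ⟨H, inferInstance, hHft, hf, he, ψ, ‹_›⟩

end Groth.Agent.MultConjLib.CentralLift
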