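import Groth.Agent.MultConjLib.Ext
import Mathlib.Tactic.Group

/-!
# Homomorphisms out of a group with an invariant integral

Two homomorphisms out of an affine group with a normalised invariant integral into an arbitrary group which agree
modulo an ideal of square zero are conjugate by a point congruent to the unit.
-/

universe u

open CategoryTheory CategoryTheory.Limits MonoidalCategory CartesianMonoidalCategory MonObj GrpObj AlgebraicGeometry
open TensorProduct

namespace Groth.Agent.MultConjLib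

open GrpSchLib.DiagActionRigid (sp spm spm_comp spm_id)

set_option backward.isDefEq.respectTransparency false

variable {S : Scheme.{u}} {R : Type u} [CommRing R] {β : Spec (CommRingCat.of R) ⟶ S}

/-- `x` is a universal point of `H` over `R`-algebras. -/
def IsUniv {H : Over S} {A : Type u} [CommRing A] [Algebra R A] (x : sp β A ⟶ H) : Prop :=
  ∀ (T : Type u) [CommRing T] [Algebra R T] (q : sp β T ⟶ H), ∃! ψ : A →ₐ[R] T, spm β ψ ≫ x = q

/-- The extension of scalars of a functional. -/
noncomputable def jExt {A R' : Type u} [CommRing A] [Algebra R A] [CommRing R'] [Algebra R R'] (j : A →ₗ[R] R')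
    (T : Type u) [CommRing T] [Algebra R T] [Algebra R' T] [IsScalarTower R R' T] : T ⊗[R] A →ₗ[T] T :=
  TensorProduct.AlgebraTensorModule.lift (LinearMap.toSpanSingleton T (A →ₗ[R] T)
    (((IsScalarTower.toAlgHom R R' T).toLinearMap).comp j))

theorem jExt_tmul {A R' : Type u} [CommRing A] [Algebra R A] [CommRing R'] [Algebra R R'] (j : A →ₗ[R] R')
    (T : Type u) [CommRing T] [Algebra R T] [Algebra R' T] [IsScalarTower R R' T] (t : T) (z : A) :
    jExt j T (t ⊗ₜ[R] z) = t * algebraMap R' T (j z) := rfl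

/-- A normalised functional with values in `R'` invariant under translations. -/
structure IsInt {H : Over S} [GrpObj H] {A : Type u} [CommRing A] [Algebra R A] (x : sp β A ⟶ H)
    {R' : Type u} [CommRing R'] [Algebra R R'] (j : A →ₗ[R] R') : Prop where
  one : j 1 = 1
  left : ∀ (T : Type u) [CommRing T] [Algebra R T] [Algebra R' T] [IsScalarTower R R' T] (a : sp β T ⟶ H)
    (φ : A →ₐ[R] T ⊗[R] A),
    spm β φ ≫ x = (spm β (Algebra.TensorProduct.includeLeft : T →ₐ[R] T ⊗[R] A) ≫ a) *
      (spm β (Algebra.TensorProduct.includeRight : A →ₐ[R] T ⊗[R] A) ≫ x) →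
    ∀ z, jExt j T (φ z) = algebraMap R' T (j z)
  right : ∀ (T : Type u) [CommRing T] [Algebra R T] [Algebra R' T] [IsScalarTower R R' T] (a : sp β T ⟶ H)
    (φ : A →ₐ[R] T ⊗[R] A),
    spm β φ ≫ x = (spm β (Algebra.TensorProduct.includeRight : A →ₐ[R] T ⊗[R] A) ≫ x) *
      (spm β (Algebra.TensorProduct.includeLeft : T →ₐ[R] T ⊗[R] A) ≫ a) →
    ∀ z, jExt j T (φ z) = algebraMap R' T (j z)

variable {G : Over S} [GrpObj G]

/-- The averaging lemma. -/
theorem exists_avg {T A B : Type u} [CommRing T] [Algebra R T] [CommRing A] [Algebra R A] [Algebra T A]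
    [IsScalarTower R T A] [CommRing B] [Algebra R B] [Algebra T B] [Algebra A B] [IsScalarTower R A B]
    [IsScalarTower T A B] [IsScalarTower R T B] (L : Ideal T) (hL : L ^ 2 = ⊥)
    (i₂ Δ : A →ₐ[T] B) (I : A →ₗ[T] T) (hI : I 1 = 1) (J : B →ₗ[A] A) (hJ : J 1 = 1)
    (hJΔ : ∀ a, J (Δ a) = algebraMap T A (I a)) (hJ₂ : ∀ a, J (i₂ a) = algebraMap T A (I a))
    (d uu : sp β A ⟶ G) (hd : spm β (Ideal.Quotient.mkₐ R (L.map (algebraMap T A))) ≫ d = 1)
    (heq : spm β (Δ.restrictScalars R) ≫ d = (spm β (IsScalarTower.toAlgHom R A B) ≫ d) *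
      ((spm β (IsScalarTower.toAlgHom R A B) ≫ uu) * (spm β (i₂.restrictScalars R) ≫ d) *
        (spm β (IsScalarTower.toAlgHom R A B) ≫ uu)⁻¹)) :
    ∃ c : sp β T ⟶ G, spm β (Ideal.Quotient.mkₐ R L) ≫ c = 1 ∧
      d = (spm β (IsScalarTower.toAlgHom R T A) ≫ c) * uu * (spm β (IsScalarTower.toAlgHom R T A) ≫ c)⁻¹ * uu⁻¹ := by
  obtain ⟨y, hy₁, hy₂⟩ := exists_ext_one L d hd
  let LA : Ideal A := L.map (algebraMap T A)
  have hLA : LA ^ 2 = ⊥ := by rw [← Ideal.map_pow, hL, Ideal.map_bot]
  have hmapB : ∀ z ∈ L.map (algebraMap T B), z ∈ LA.map (algebraMap A B) := fun z hz => by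
    rwa [Ideal.map_map, ← IsScalarTower.algebraMap_eq]
  have hlin : ∀ (g : A →ₐ[T] B) (z : Ext L A (R := R)),
      ((algebraMap T A z.1.1, g z.1.2) : A × B) ∈ Ext LA B (R := R) := fun g z => by
    show g z.1.2 - algebraMap A B (algebraMap T A z.1.1) ∈ LA.map (algebraMap A B)
    rw [← IsScalarTower.algebraMap_apply, ← g.commutes z.1.1, ← map_sub]
    refine hmapB _ ?_
    have hz : z.1.2 - algebraMap T A z.1.1 ∈ L.map (algebraMap T A) := z.2
    have h := Ideal.mem_map_of_mem g.toRingHom hz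
    rwa [Ideal.map_map, show g.toRingHom.comp (algebraMap T A) = algebraMap T B from g.comp_algebraMap] at h
  let push : (A →ₐ[T] B) → (Ext L A (R := R) →ₐ[R] Ext LA B (R := R)) := fun g =>
    (((IsScalarTower.toAlgHom R T A).comp (extFst L A)).prod ((g.restrictScalars R).comp (extSnd L A))).codRestrict _
      (hlin g)
  have hsec : ∀ a : A, ((a, algebraMap A B a) : A × B) ∈ Ext LA B (R := R) := fun a => by
    show algebraMap A B a - algebraMap A B a ∈ LA.map (algebraMap A B)
    rw [sub_self]; exact zero_mem _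
  let sec : A →ₐ[R] Ext LA B (R := R) :=
    ((AlgHom.id R A).prod (IsScalarTower.toAlgHom R A B)).codRestrict _ hsec
  let e₁ : Ext L A (R := R) →ₐ[R] Ext LA B (R := R) := push (IsScalarTower.toAlgHom T A B)
  have hE : spm β (push Δ) ≫ y = (spm β e₁ ≫ y) *
      ((spm β sec ≫ uu) * (spm β (push i₂) ≫ y) * (spm β sec ≫ uu)⁻¹) := by
    apply ext_hom_ext LA
    · have hs : ∀ g : A →ₐ[T] B, spm β (extSnd LA B) ≫ spm β (push g) ≫ y = spm β (g.restrictScalars R) ≫ d := by
        intro g
        rw [← hy₁, ← Category.assoc, ← Category.assoc, spm_comp, spm_comp]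
        rfl
      simp only [MonObj.comp_mul, GrpObj.comp_inv, hs, e₁]
      rw [← Category.assoc, spm_comp, heq]
      rfl
    · have hf : ∀ g : A →ₐ[T] B, spm β (extFst LA B) ≫ spm β (push g) ≫ y = 1 := by
        intro g
        rw [← Category.assoc, spm_comp,
          show (extFst (R := R) LA B).comp (push g) = (IsScalarTower.toAlgHom R T A).comp (extFst L A) from rfl,
          ← spm_comp, Category.assoc, hy₂, MonObj.comp_one]
      simp only [MonObj.comp_mul, GrpObj.comp_inv, hf, e₁, _root_.one_mul, _root_.mul_one, mul_inv_cancel]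
  let σ : Ext LA B (R := R) →ₐ[R] A := (extSnd LA A).comp (extMap LA hLA J hJ)
  let τ : Ext L A (R := R) →ₐ[R] T := (extSnd L T).comp (extMap L hL I hI)
  refine ⟨spm β τ ≫ y, ?_, ?_⟩
  · rw [← Category.assoc, spm_comp,
      show (Ideal.Quotient.mkₐ R L).comp τ = (Ideal.Quotient.mkₐ R L).comp (extFst L A) from AlgHom.ext fun z => by
        refine Ideal.Quotient.eq.mpr ?_
        have h : (extMap L hL I hI z).1.2 - algebraMap T T (extMap L hL I hI z).1.1 ∈ L.map (algebraMap T T) :=
          (extMap L hL I hI z).2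
        rw [show algebraMap T T = RingHom.id T from rfl, Ideal.map_id] at h
        exact h,
      ← spm_comp, Category.assoc, hy₂, MonObj.comp_one]
  · have h := congrArg (spm β σ ≫ ·) hE
    simp only [MonObj.comp_mul, GrpObj.comp_inv, ← Category.assoc, spm_comp] at h
    have h₁ : σ.comp e₁ = extSnd L A := AlgHom.ext fun z => by
      show J (algebraMap A B z.1.2) = z.1.2
      rw [Algebra.algebraMap_eq_smul_one, map_smul, hJ, smul_eq_mul, _root_.mul_one]
    have h₂ : σ.comp (push i₂) = (IsScalarTower.toAlgHom R T A).comp τ := AlgHom.ext fun z => hJ₂ z.1.2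
    have h₃ : σ.comp (push Δ) = (IsScalarTower.toAlgHom R T A).comp τ := AlgHom.ext fun z => hJΔ z.1.2
    have h₄ : σ.comp sec = AlgHom.id R A := AlgHom.ext fun a => by
      show J (algebraMap A B a) = a
      rw [Algebra.algebraMap_eq_smul_one, map_smul, hJ, smul_eq_mul, _root_.mul_one]
    rw [h₁, h₂, h₃, h₄, hy₁, spm_id, Category.id_comp] at h
    rw [← Category.assoc, spm_comp]
    have h' := eq_mul_inv_iff_mul_eq.mpr h.symm
    rw [h']
    group

variable {H : Over S} [GrpObj H] {A : Type u} [CommRing A] [Algebra R A]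

/-- Homomorphisms conjugate modulo an ideal of square zero are conjugate by a congruent point. -/
theorem exists_conj {x : sp β A ⟶ H} (hx : IsUniv x) {j : A →ₗ[R] R} (hj : IsInt x j) {T : Type u} [CommRing T]
    [Algebra R T] (L : Ideal T) (hL : L ^ 2 = ⊥) (u v : H ⟶ G) [IsMonHom u] [IsMonHom v] (g' : sp β T ⟶ G)
    (h0 : ∀ (B : Type u) [CommRing B] [Algebra R B] [Algebra T B] [IsScalarTower R T B],
      L.map (algebraMap T B) = ⊥ → ∀ q : sp β B ⟶ H, q ≫ v = (spm β (IsScalarTower.toAlgHom R T B) ≫ g') * (q ≫ u) *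
        (spm β (IsScalarTower.toAlgHom R T B) ≫ g')⁻¹) :
    ∃ g : sp β T ⟶ G, spm β (Ideal.Quotient.mkₐ R L) ≫ g = spm β (Ideal.Quotient.mkₐ R L) ≫ g' ∧
      ∀ (B : Type u) [CommRing B] [Algebra R B] [Algebra T B] [IsScalarTower R T B] (q : sp β B ⟶ H),
        q ≫ v = (spm β (IsScalarTower.toAlgHom R T B) ≫ g) * (q ≫ u) *
          (spm β (IsScalarTower.toAlgHom R T B) ≫ g)⁻¹ := by
  let AT := T ⊗[R] A
  let AA := AT ⊗[R] A
  let xT : sp β AT ⟶ H := spm β (Algebra.TensorProduct.includeRight : A →ₐ[R] AT) ≫ x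
  let gA : sp β AT ⟶ G := spm β (IsScalarTower.toAlgHom R T AT) ≫ g'
  let uu : sp β AT ⟶ G := gA * (xT ≫ u) * gA⁻¹
  let d : sp β AT ⟶ G := (xT ≫ v) * uu⁻¹
  have hd : spm β (Ideal.Quotient.mkₐ R (L.map (algebraMap T AT))) ≫ d = 1 := by
    let LT : Ideal AT := L.map (algebraMap T AT)
    have hq : L.map (algebraMap T (AT ⧸ LT)) = ⊥ := by
      rw [show algebraMap T (AT ⧸ LT) = (Ideal.Quotient.mk LT).comp (algebraMap T AT) from rfl, ← Ideal.map_map]
      exact Ideal.map_quotient_self _
    have h := h0 (AT ⧸ LT) hq (spm β (Ideal.Quotient.mkₐ R LT) ≫ xT)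
    simp only [d, uu, gA, MonObj.comp_mul, GrpObj.comp_inv, ← Category.assoc, spm_comp] at h ⊢
    rw [h]
    exact mul_inv_cancel _
  let i₁ : AT →ₐ[R] AA := IsScalarTower.toAlgHom R AT AA
  let r : A →ₐ[R] AA := Algebra.TensorProduct.includeRight
  obtain ⟨φ, hφ, -⟩ := hx AA ((spm β i₁ ≫ xT) * (spm β r ≫ x))
  let i₂ : AT →ₐ[T] AA :=
    Algebra.TensorProduct.lift (Algebra.ofId T AA) r fun _ _ => Commute.all _ _
  let Δ : AT →ₐ[T] AA :=
    Algebra.TensorProduct.lift (Algebra.ofId T AA) φ fun _ _ => Commute.all _ _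
  have hi₂ : spm β (i₂.restrictScalars R) ≫ xT = spm β r ≫ x := by
    rw [← Category.assoc, spm_comp]
    congr 2
    exact AlgHom.ext fun z => by simp [i₂, r, AT, AA]
  have hΔ : spm β (Δ.restrictScalars R) ≫ xT = (spm β i₁ ≫ xT) * (spm β r ≫ x) := by
    rw [← hφ, ← Category.assoc, spm_comp]
    congr 2
    exact AlgHom.ext fun z => by simp [Δ, AT, AA]
  have hint : ∀ z, jExt j AT (φ z) = algebraMap R AT (j z) := hj.left AT xT φ hφ
  obtain ⟨c, hc₁, hc₂⟩ := exists_avg (β := β) L hL i₂ Δ (jExt j T)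
    (by rw [Algebra.TensorProduct.one_def, jExt_tmul, hj.one, map_one, _root_.mul_one])
    (jExt j AT) (by rw [Algebra.TensorProduct.one_def, jExt_tmul, hj.one, map_one, _root_.mul_one])
    (fun a => by
      induction a using TensorProduct.induction_on with
      | zero => simp
      | add a b ha hb => simp [map_add, ha, hb]
      | tmul t z =>
        rw [Algebra.TensorProduct.lift_tmul, jExt_tmul]
        show jExt j AT (algebraMap T AA t * φ z) = _
        rw [← Algebra.smul_def, LinearMap.map_smul_of_tower, hint, map_mul, Algebra.smul_def,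
          ← IsScalarTower.algebraMap_apply])
    (fun a => by
      induction a using TensorProduct.induction_on with
      | zero => simp
      | add a b ha hb => simp [map_add, ha, hb]
      | tmul t z =>
        rw [Algebra.TensorProduct.lift_tmul, jExt_tmul]
        show jExt j AT (algebraMap T AA t * (1 ⊗ₜ z)) = _
        rw [← Algebra.smul_def, LinearMap.map_smul_of_tower, jExt_tmul, _root_.one_mul, map_mul, Algebra.smul_def,
          ← IsScalarTower.algebraMap_apply])
    d uu hd (by
      have hg : ∀ g₁ : AT →ₐ[T] AA, spm β (g₁.restrictScalars R) ≫ gA = spm β (IsScalarTower.toAlgHom R T AA) ≫ g' := by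
        intro g₁
        simp only [gA, ← Category.assoc, spm_comp]
        congr 2
        exact AlgHom.ext g₁.commutes
      have hg₁ : spm β (IsScalarTower.toAlgHom R AT AA) ≫ gA = spm β (IsScalarTower.toAlgHom R T AA) ≫ g' :=
        hg (IsScalarTower.toAlgHom T AT AA)
      simp only [d, uu, MonObj.comp_mul, GrpObj.comp_inv, hg, hg₁]
      rw [reassoc_of% hΔ, reassoc_of% hΔ, reassoc_of% hi₂, reassoc_of% hi₂, MonObj.mul_comp, MonObj.mul_comp]
      simp only [Category.assoc]
      group
      rfl)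
  refine ⟨c * g', by rw [MonObj.comp_mul, hc₁, _root_.one_mul], fun B _ _ _ _ q => ?_⟩
  obtain ⟨ψ, hψ, -⟩ := hx B q
  let Ψ : AT →ₐ[T] B := Algebra.TensorProduct.lift (Algebra.ofId T B) ψ fun _ _ => Commute.all _ _
  have hΨ : spm β (Ψ.restrictScalars R) ≫ xT = q := by
    rw [← hψ, ← Category.assoc, spm_comp]
    congr 2
    exact AlgHom.ext fun z => by simp [Ψ, AT]
  have hΨT : ∀ a : sp β T ⟶ G, spm β (Ψ.restrictScalars R) ≫ spm β (IsScalarTower.toAlgHom R T AT) ≫ a =
      spm β (IsScalarTower.toAlgHom R T B) ≫ a := fun a => by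
    rw [← Category.assoc, spm_comp]
    congr 2
    exact AlgHom.ext fun t => Ψ.commutes t
  have hv : xT ≫ v = (spm β (IsScalarTower.toAlgHom R T AT) ≫ c) * uu *
      (spm β (IsScalarTower.toAlgHom R T AT) ≫ c)⁻¹ := by
    have := hc₂
    simp only [d] at this
    exact mul_right_cancel this
  have h := congrArg (spm β (Ψ.restrictScalars R) ≫ ·) hv
  simp only [uu, gA, MonObj.comp_mul, GrpObj.comp_inv, reassoc_of% hΨ, hΨT] at h
  rw [h, MonObj.comp_mul]
  group

end Groth.Agent.MultConjLib
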