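import Groth.Agent.MultConjLib.SubTransporter
import Groth.Agent.MultConjLib.Transporter
import Groth.Agent.GrpSchLib.RankOneNonComm
import Groth.Agent.S0412
import Groth.Prelude.Def_SGA3x

/-!
# Etale local conjugacy from smooth transporters
-/

universe u

open CategoryTheory CategoryTheory.Limits MonoidalCategory CartesianMonoidalCategory MonObj GrpObj AlgebraicGeometry

namespace Groth.Agent.MultConjLib

set_option backward.isDefEq.respectTransparency false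

variable {S : Scheme.{u}}

/-- A point of a smooth scheme over `s` gives an etale neighbourhood with a section. -/
theorem exists_etale_point {Z G : Over S} [GrpObj G] (c : Z ⟶ G) [Smooth Z.hom] {K : Type u} [Field K]
    (k : Spec (CommRingCat.of K) ⟶ S) {s : S} (hk : s ∈ Set.range k) (t : Over.mk k ⟶ Z) :
    ∃ (S' : Scheme.{u}) (e : S' ⟶ S), Etale e ∧ s ∈ Set.range e ∧ ∃ g : 𝟙_ (Over S') ⟶ Red.bc e G,
      ∃ z : (Over.map e).obj (𝟙_ (Over S')) ⟶ Z, DSPtsLib.theta e g = z ≫ c := by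
  obtain ⟨x, hx⟩ := hk
  obtain ⟨S', e, s', he, hs', h, hh⟩ := Groth.Agent.S0412.result Z.hom s
    ⟨t.left x, by rw [← Scheme.Hom.comp_apply, Over.w t]; exact hx⟩
  let z : (Over.map e).obj (𝟙_ (Over S')) ⟶ Z := Over.homMk h (by
    show h ≫ Z.hom = 𝟙 S' ≫ e
    rw [hh, Category.id_comp])
  obtain ⟨g, hg⟩ := (DSPtsLib.theta_bijective (g := e) (H := G) (Y := 𝟙_ (Over S'))).surjective (z ≫ c)
  exact ⟨S', e, he, ⟨s', hs'⟩, g, z, hg⟩

theorem theta_inv {U : Scheme.{u}} (q : U ⟶ S) {Y : Over U} {H : Over S} [GrpObj H] (a : Y ⟶ Red.bc q H) :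
    DSPtsLib.theta q a⁻¹ = (DSPtsLib.theta q a)⁻¹ :=
  map_inv (MonoidHom.mk' (DSPtsLib.theta q) (DSPtsLib.theta_mul q)) a

/-- Equal homomorphisms after a section of the transporter. -/
theorem conj_of_point {H G Z : Over S} [GrpObj H] [GrpObj G] (u₁ u₂ : H ⟶ G) [IsMonHom u₁] [IsMonHom u₂] (c : Z ⟶ G)
    (hpts : ∀ (X : Over S) (g : X ⟶ G), (∃ t : X ⟶ Z, t ≫ c = g) ↔
      ∀ (X' : Over S) (x : X' ⟶ X) (h : X' ⟶ H), (x ≫ g) * (h ≫ u₁) * (x ≫ g)⁻¹ = h ≫ u₂)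
    {S' : Scheme.{u}} (e : S' ⟶ S) (g : 𝟙_ (Over S') ⟶ Red.bc e G) (z : (Over.map e).obj (𝟙_ (Over S')) ⟶ Z)
    (hg : DSPtsLib.theta e g = z ≫ c) (X : Over S') (h : X ⟶ Red.bc e H) :
    h ≫ (Over.pullback e).map u₂ = (toUnit X ≫ g) * (h ≫ (Over.pullback e).map u₁) * (toUnit X ≫ g)⁻¹ := by
  apply (DSPtsLib.theta_bijective (g := e) (H := G)).injective
  rw [GrpSchLib.RankOne.theta_map, GrpSchLib.RankOne.theta_conj, DSPtsLib.theta_comp, hg]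
  exact ((hpts _ _).mp ⟨z, rfl⟩ _ _ _).symm

/-- Conjugate subgroups after a section of the transporter. -/
theorem conjBy_of_point {H₁ H₂ G Z : Over S} [GrpObj H₁] [GrpObj H₂] [GrpObj G] (i₁ : H₁ ⟶ G) [IsMonHom i₁] [Mono i₁]
    (i₂ : H₂ ⟶ G) [IsMonHom i₂] [Mono i₂] (c : Z ⟶ G)
    (hpts : ∀ (X : Over S) (g : X ⟶ G), (∃ t : X ⟶ Z, t ≫ c = g) ↔
      ∀ (X' : Over S) (x : X' ⟶ X),
        (∀ h₁ : X' ⟶ H₁, ∃ h₂ : X' ⟶ H₂, (x ≫ g) * (h₁ ≫ i₁) * (x ≫ g)⁻¹ = h₂ ≫ i₂) ∧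
        (∀ h₂ : X' ⟶ H₂, ∃ h₁ : X' ⟶ H₁, (x ≫ g)⁻¹ * (h₂ ≫ i₂) * (x ≫ g) = h₁ ≫ i₁))
    {S' : Scheme.{u}} (e : S' ⟶ S) (g : 𝟙_ (Over S') ⟶ Red.bc e G) (z : (Over.map e).obj (𝟙_ (Over S')) ⟶ Z)
    (hg : DSPtsLib.theta e g = z ≫ c) :
    SGA3x.ConjBy ((Over.pullback e).map i₁) ((Over.pullback e).map i₂) g := by
  have h := (hpts _ _).mp ⟨z, rfl⟩
  obtain ⟨a, ha⟩ := (h _ ((Over.map e).map (toUnit (Red.bc e H₁)))).1 (DSPtsLib.theta e (𝟙 _))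
  obtain ⟨b, hb⟩ := (h _ ((Over.map e).map (toUnit (Red.bc e H₂)))).2 (DSPtsLib.theta e (𝟙 _))
  obtain ⟨φ, hφ⟩ := (DSPtsLib.theta_bijective (g := e) (H := H₂) (Y := Red.bc e H₁)).surjective a
  obtain ⟨ψ, hψ⟩ := (DSPtsLib.theta_bijective (g := e) (H := H₁) (Y := Red.bc e H₂)).surjective b
  let k₁ := (Over.pullback e).map i₁
  let k₂ := (Over.pullback e).map i₂
  have e₁ : φ ≫ k₂ = (toUnit _ ≫ g) * k₁ * (toUnit _ ≫ g)⁻¹ := by
    apply (DSPtsLib.theta_bijective (g := e) (H := G)).injective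
    rw [GrpSchLib.RankOne.theta_map, hφ, ← ha, DSPtsLib.theta_mul, DSPtsLib.theta_mul, theta_inv,
      DSPtsLib.theta_comp, hg, ← GrpSchLib.RankOne.theta_map, Category.id_comp]
  have e₂ : ψ ≫ k₁ = (toUnit _ ≫ g)⁻¹ * k₂ * (toUnit _ ≫ g) := by
    apply (DSPtsLib.theta_bijective (g := e) (H := G)).injective
    rw [GrpSchLib.RankOne.theta_map, hψ, ← hb, DSPtsLib.theta_mul, DSPtsLib.theta_mul, theta_inv,
      DSPtsLib.theta_comp, hg, ← GrpSchLib.RankOne.theta_map, Category.id_comp]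
  haveI : (Over.pullback e).IsRightAdjoint := (Over.mapPullbackAdj e).isRightAdjoint
  haveI : Mono k₁ := (Over.pullback e).map_mono i₁
  haveI : Mono k₂ := (Over.pullback e).map_mono i₂
  refine ⟨⟨φ, ψ, ?_, ?_⟩, e₁.symm⟩
  · rw [← cancel_mono k₁, Category.assoc, e₂]
    simp only [MonObj.comp_mul, GrpObj.comp_inv, ← Category.assoc, toUnit_unique (φ ≫ toUnit _) (toUnit _), e₁,
      Category.id_comp]
    group
  · rw [← cancel_mono k₂, Category.assoc, e₁]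
    simp only [MonObj.comp_mul, GrpObj.comp_inv, ← Category.assoc, toUnit_unique (ψ ≫ toUnit _) (toUnit _), e₂,
      Category.id_comp]
    group

end Groth.Agent.MultConjLib
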