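import Groth.Agent.GrpSchLib.DiagActionRigid
import Groth.Agent.RingPO.Cat

/-!
# Points congruent to the unit modulo an ideal

A point of a scheme on an algebra `B` over `T` which is trivial modulo the extension of an ideal `L` of `T` is the
same as a point on the fibre product `T ×_{B/LB} B` which is trivial on `T`.
-/

universe u

open CategoryTheory CategoryTheory.Limits MonoidalCategory CartesianMonoidalCategory MonObj AlgebraicGeometry

namespace Groth.Agent.MultConjLib

open GrpSchLib.DiagActionRigid (sp spm)

set_option backward.isDefEq.respectTransparency false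

variable {S : Scheme.{u}} {R : Type u} [CommRing R] {β : Spec (CommRingCat.of R) ⟶ S}
variable {T : Type u} [CommRing T] [Algebra R T] (L : Ideal T)

/-- The pairs of elements congruent modulo the extension of `L`. -/
def Ext (B : Type u) [CommRing B] [Algebra R B] [Algebra T B] [IsScalarTower R T B] : Subalgebra R (T × B) where
  carrier := {z | z.2 - algebraMap T B z.1 ∈ L.map (algebraMap T B)}
  mul_mem' := fun {p q} hp hq => by
    show (p * q).2 - algebraMap T B (p * q).1 ∈ L.map (algebraMap T B)
    have : (p * q).2 - algebraMap T B (p * q).1 =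
        p.2 * (q.2 - algebraMap T B q.1) + algebraMap T B q.1 * (p.2 - algebraMap T B p.1) := by
      rw [Prod.fst_mul, Prod.snd_mul, map_mul]; ring
    rw [this]
    exact add_mem (Ideal.mul_mem_left _ _ hq) (Ideal.mul_mem_left _ _ hp)
  add_mem' := fun {p q} hp hq => by
    show (p + q).2 - algebraMap T B (p + q).1 ∈ L.map (algebraMap T B)
    rw [Prod.fst_add, Prod.snd_add, map_add, add_sub_add_comm]
    exact add_mem hp hq
  algebraMap_mem' := fun r => by
    show algebraMap R B r - algebraMap T B (algebraMap R T r) ∈ L.map (algebraMap T B)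
    rw [← IsScalarTower.algebraMap_apply, sub_self]
    exact zero_mem _

variable (B : Type u) [CommRing B] [Algebra R B] [Algebra T B] [IsScalarTower R T B]

/-- The projection to `T`. -/
def extFst : Ext L B (R := R) →ₐ[R] T := (AlgHom.fst R T B).comp (Ext L B).val

/-- The projection to `B`. -/
def extSnd : Ext L B (R := R) →ₐ[R] B := (AlgHom.snd R T B).comp (Ext L B).val

theorem isFibreProd_ext :
    RingPO.IsFibreProd (Ideal.Quotient.mk (L.map (algebraMap T B)))
      ((Ideal.Quotient.mk (L.map (algebraMap T B))).comp (algebraMap T B))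
      (extSnd (R := R) L B).toRingHom (extFst (R := R) L B).toRingHom where
  surj := Ideal.Quotient.mk_surjective
  comm z := Ideal.Quotient.eq.mpr z.2
  ext z z' h₁ h₂ := Subtype.ext (Prod.ext h₂ h₁)
  exists_of_eq t b h := ⟨⟨(t, b), Ideal.Quotient.eq.mp h⟩, rfl, rfl⟩

variable {B} {X : Over S}

theorem ext_hom_ext {y y' : sp β (Ext L B (R := R)) ⟶ X} (h₁ : spm β (extSnd L B) ≫ y = spm β (extSnd L B) ≫ y')
    (h₂ : spm β (extFst L B) ≫ y = spm β (extFst L B) ≫ y') : y = y' :=
  Over.OverMorphism.ext ((isFibreProd_ext (R := R) L B).isPushout.hom_ext (congrArg CommaMorphism.left h₁)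
    (congrArg CommaMorphism.left h₂))

theorem exists_ext_point (x : sp β B ⟶ X) (t : sp β T ⟶ X)
    (h : spm β (Ideal.Quotient.mkₐ R (L.map (algebraMap T B))) ≫ x =
      spm β ((Ideal.Quotient.mkₐ R (L.map (algebraMap T B))).comp (IsScalarTower.toAlgHom R T B)) ≫ t) :
    ∃ y : sp β (Ext L B (R := R)) ⟶ X, spm β (extSnd L B) ≫ y = x ∧ spm β (extFst L B) ≫ y = t := by
  have H := (isFibreProd_ext (R := R) L B).isPushout
  have hl := congrArg CommaMorphism.left h
  refine ⟨Over.homMk (H.desc x.left t.left hl) (H.hom_ext ?_ ?_), Over.OverMorphism.ext (H.inl_desc _ _ hl),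
    Over.OverMorphism.ext (H.inr_desc _ _ hl)⟩
  · rw [H.inl_desc_assoc, Over.w x]
    exact (Over.w (spm β (extSnd (R := R) L B))).symm
  · rw [H.inr_desc_assoc, Over.w t]
    exact (Over.w (spm β (extFst (R := R) L B))).symm

theorem exists_ext_one [GrpObj X] (x : sp β B ⟶ X)
    (h : spm β (Ideal.Quotient.mkₐ R (L.map (algebraMap T B))) ≫ x = 1) :
    ∃ y : sp β (Ext L B (R := R)) ⟶ X, spm β (extSnd L B) ≫ y = x ∧ spm β (extFst L B) ≫ y = 1 :=
  exists_ext_point L x 1 (h.trans (MonObj.comp_one _).symm)

/-- A linear map preserving the unit transports congruent pairs. -/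
noncomputable def extMap {B' : Type u} [CommRing B'] [Algebra R B'] [Algebra T B'] [IsScalarTower R T B']
    (hL : L ^ 2 = ⊥) (I : B →ₗ[T] B') (hI : I 1 = 1) : Ext L B (R := R) →ₐ[R] Ext L B' (R := R) :=
  have hmem : ∀ x ∈ L.map (algebraMap T B), I x ∈ L.map (algebraMap T B') := fun x hx => by
    rw [← Submodule.restrictScalars_mem T, ← Ideal.smul_top_eq_map] at hx ⊢
    have := Submodule.mem_map_of_mem (f := I) hx
    rw [Submodule.map_smul''] at this
    exact Submodule.smul_mono le_rfl le_top this
  have hone : ∀ t, I (algebraMap T B t) = algebraMap T B' t := fun t => by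
    rw [Algebra.algebraMap_eq_smul_one, map_smul, hI, ← Algebra.algebraMap_eq_smul_one]
  have hmap : ∀ (z : Ext L B (R := R)), ((z.1.1, I z.1.2) : T × B') ∈ Ext L B' (R := R) := fun z => by
    show I z.1.2 - algebraMap T B' z.1.1 ∈ L.map (algebraMap T B')
    rw [← hone, ← map_sub]
    exact hmem _ z.2
  { toFun := fun z => ⟨(z.1.1, I z.1.2), hmap z⟩
    map_one' := Subtype.ext (Prod.ext rfl hI)
    map_zero' := Subtype.ext (Prod.ext rfl (map_zero I))
    map_add' := fun _ _ => Subtype.ext (Prod.ext rfl (map_add I _ _))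
    map_mul' := fun p q => by
      refine Subtype.ext (Prod.ext rfl ?_)
      show I (p.1.2 * q.1.2) = I p.1.2 * I q.1.2
      have hsq : ∀ (C : Type u) [CommRing C] [Algebra T C] (a b : C), a ∈ L.map (algebraMap T C) →
          b ∈ L.map (algebraMap T C) → a * b = 0 := fun C _ _ a b ha hb => by
        have h := Ideal.mul_mem_mul ha hb
        rwa [← Ideal.map_mul, ← sq, hL, Ideal.map_bot, Ideal.mem_bot] at h
      have e : p.1.2 * q.1.2 = p.1.1 • q.1.2 + q.1.1 • p.1.2 - algebraMap T B (p.1.1 * q.1.1) := by
        have := hsq B _ _ p.2 q.2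
        rw [Algebra.smul_def, Algebra.smul_def, map_mul]
        linear_combination this
      rw [e, map_sub, map_add, map_smul, map_smul, hone]
      have := hsq B' _ _ (hmap p) (hmap q)
      rw [Algebra.smul_def, Algebra.smul_def, map_mul]
      linear_combination -this
    commutes' := fun r => Subtype.ext (Prod.ext rfl (by
      show I (algebraMap R B r) = algebraMap R B' r
      rw [IsScalarTower.algebraMap_apply R T B, hone, ← IsScalarTower.algebraMap_apply])) }

end Groth.Agent.MultConjLib
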