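import Groth.Agent.MultConjLib.Exists
import Groth.Agent.MultConjLib.Ext
import Groth.Agent.GrpSchLib.Action
import Groth.Prelude.Def_MoreMor

/-!
# Fixed points of actions of groups of multiplicative type are formally smooth

A lift of a fixed point along an ideal of square zero is corrected to a fixed one by averaging the translated lifts
against the invariant integral; the comparison takes place on triples of congruent elements.
-/

universe u

open CategoryTheory CategoryTheory.Limits MonoidalCategory CartesianMonoidalCategory MonObj GrpObj AlgebraicGeometry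
open TensorProduct

namespace Groth.Agent.MultConjLib

open GrpSchLib.DiagActionRigid (sp spm spm_comp spm_id spm_left)

set_option backward.isDefEq.respectTransparency false

variable {S : Scheme.{u}} {G X : Over S} [GrpObj G]

theorem act_mul (a : AlgGrp.Action G X) {Y : Over S} (g h : Y ⟶ G) (x : Y ⟶ X) :
    lift (g * h) x ≫ a.act = lift g (lift h x ≫ a.act) ≫ a.act := by
  have h1 := congrArg (lift (lift g h) x ≫ ·) a.mul_act
  simp only [lift_whiskerRight_assoc, lift_lift_associator_hom_assoc, lift_whiskerLeft_assoc] at h1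
  rw [Hom.mul_def]
  exact h1

variable {R : Type u} [CommRing R] {β : Spec (CommRingCat.of R) ⟶ S}

/-- A lift of a point fixed modulo an ideal of square zero can be chosen fixed. -/
theorem exists_fixed_lift (a : AlgGrp.Action G X) {AH : Type u} [CommRing AH] [Algebra R AH] {u₀ : sp β AH ⟶ G}
    (hx : IsUniv u₀) {j : AH →ₗ[R] R} (hj : IsInt u₀ j) (I : Ideal R) (hI : I ^ 2 = ⊥) (x : sp β R ⟶ X)
    (hfix : spm β (Ideal.Quotient.mkₐ R (I.map (algebraMap R AH))) ≫ lift u₀ (spm β (Algebra.ofId R AH) ≫ x) ≫ a.act =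
      spm β (Ideal.Quotient.mkₐ R (I.map (algebraMap R AH))) ≫ spm β (Algebra.ofId R AH) ≫ x) :
    ∃ x' : sp β R ⟶ X, spm β (Ideal.Quotient.mkₐ R I) ≫ x' = spm β (Ideal.Quotient.mkₐ R I) ≫ x ∧
      lift u₀ (spm β (Algebra.ofId R AH) ≫ x') ≫ a.act = spm β (Algebra.ofId R AH) ≫ x' := by
  let AA := AH ⊗[R] AH
  let LH : Ideal AH := I.map (algebraMap R AH)
  have hLH : LH ^ 2 = ⊥ := by rw [← Ideal.map_pow, hI, Ideal.map_bot]
  let i₁ : AH →ₐ[R] AA := IsScalarTower.toAlgHom R AH AA
  let i₂ : AH →ₐ[R] AA := Algebra.TensorProduct.includeRight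
  obtain ⟨φ, hφ, -⟩ := hx AA ((spm β i₁ ≫ u₀) * (spm β i₂ ≫ u₀))
  let J : AA →ₗ[AH] AH := jExt j AH
  have hJ : J 1 = 1 := by
    show jExt j AH 1 = 1
    rw [Algebra.TensorProduct.one_def, jExt_tmul, hj.one, map_one, _root_.mul_one]
  let xH : sp β AH ⟶ X := spm β (Algebra.ofId R AH) ≫ x
  let y : sp β AH ⟶ X := lift u₀ xH ≫ a.act
  obtain ⟨y', hy₁, hy₂⟩ := exists_ext_point I y x (hfix.trans (by rw [← Category.assoc, spm_comp]; rfl))
  obtain ⟨w, hw₁, hw₂⟩ := exists_ext_point LH y xH (by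
    have h : LH.map (algebraMap AH AH) = LH := Ideal.map_id LH
    have e : ∀ (L' : Ideal AH), L' = LH →
        spm β (Ideal.Quotient.mkₐ R L') ≫ y = spm β (Ideal.Quotient.mkₐ R L') ≫ xH := by
      rintro L' rfl
      exact hfix
    exact e _ h)
  let D := Ext (R := R) LH AH
  let g₁ : D →ₐ[R] AH := extSnd LH AH
  let g₀ : D →ₐ[R] AH := extFst LH AH
  letI : Algebra D AA := (i₁.comp g₁).toRingHom.toAlgebra
  haveI : IsScalarTower R D AA := IsScalarTower.of_algebraMap_eq fun r => ((i₁.comp g₁).commutes r).symm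
  let LD : Ideal D := I.map (algebraMap R D)
  have hmapD : LD.map (algebraMap D AA) = I.map (algebraMap R AA) := by
    rw [Ideal.map_map, ← IsScalarTower.algebraMap_eq]
  have hmapH : LH.map (algebraMap AH AA) = I.map (algebraMap R AA) := by
    rw [Ideal.map_map, ← IsScalarTower.algebraMap_eq]
  let yφ : sp β AA ⟶ X := spm β φ ≫ y
  obtain ⟨W, hW₁, hW₂⟩ := exists_ext_point LD yφ w (by
    have hfix' : ∀ {B : Type u} [CommRing B] [Algebra R B] (f : AH →ₐ[R] B) (L' : Ideal B),
        L' = I.map (algebraMap R B) →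
        spm β (Ideal.Quotient.mkₐ R L') ≫ spm β f ≫ y =
          spm β (Ideal.Quotient.mkₐ R L') ≫ spm β (Algebra.ofId R B) ≫ x := by
      intro B _ _ f L' hL'
      have hle : LH ≤ Ideal.comap f.toRingHom L' := by
        rw [hL', Ideal.map_le_iff_le_comap, Ideal.comap_comap, show f.toRingHom.comp (algebraMap R AH) = algebraMap R B
          from f.comp_algebraMap]
        exact Ideal.le_comap_map
      let f' : AH ⧸ LH →ₐ[R] B ⧸ L' := Ideal.quotientMapₐ _ f hle
      have hf : f'.comp (Ideal.Quotient.mkₐ R LH) = (Ideal.Quotient.mkₐ R L').comp f := AlgHom.ext fun _ => rfl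
      have h := congrArg (spm β f' ≫ ·) hfix
      simp only [← Category.assoc, spm_comp] at h
      simp only [← Category.assoc, spm_comp]
      rw [hf] at h
      exact h.trans (congrArg (fun p : R →ₐ[R] B ⧸ L' => spm β p ≫ x) (Subsingleton.elim _ _))
    have h1 := hfix' φ (LD.map (algebraMap D AA)) hmapD
    have h2 := hfix' i₁ (LD.map (algebraMap D AA)) hmapD
    rw [h1, ← h2, ← hw₁]
    simp only [← Category.assoc, spm_comp]
    rfl)
  -- the two projections to pairs
  have hmem : ∀ g : D →ₐ[R] AH, (∀ d, i₁ (g d) - i₁ (g₁ d) ∈ I.map (algebraMap R AA)) →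
      ∀ z : Ext LD AA (R := R), ((g z.1.1, z.1.2) : AH × AA) ∈ Ext LH AA (R := R) := by
    intro g hg z
    show z.1.2 - i₁ (g z.1.1) ∈ LH.map (algebraMap AH AA)
    rw [hmapH]
    have hz : z.1.2 - i₁ (g₁ z.1.1) ∈ LD.map (algebraMap D AA) := z.2
    rw [hmapD] at hz
    have := Submodule.sub_mem _ hz (hg z.1.1)
    rwa [sub_sub_sub_cancel_right] at this
  let proj : ∀ g : D →ₐ[R] AH, (∀ d, i₁ (g d) - i₁ (g₁ d) ∈ I.map (algebraMap R AA)) →
      (Ext LD AA (R := R) →ₐ[R] Ext LH AA (R := R)) := fun g hg =>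
    ((g.comp (extFst LD AA)).prod (extSnd LD AA)).codRestrict _ (hmem g hg)
  have hg₁ : ∀ d, i₁ (g₁ d) - i₁ (g₁ d) ∈ I.map (algebraMap R AA) := fun d => by
    rw [sub_self]; exact zero_mem _
  have hg₀ : ∀ d, i₁ (g₀ d) - i₁ (g₁ d) ∈ I.map (algebraMap R AA) := fun d => by
    have hd : d.1.2 - algebraMap AH AH d.1.1 ∈ LH.map (algebraMap AH AH) := d.2
    rw [show algebraMap AH AH = RingHom.id AH from rfl, Ideal.map_id] at hd
    rw [← hmapH, ← map_sub, ← neg_sub, map_neg]
    exact Submodule.neg_mem _ (Ideal.mem_map_of_mem _ hd)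
  let P := spm β (proj g₁ hg₁) ≫ W
  let Q := spm β (proj g₀ hg₀) ≫ W
  let σ : Ext LH AA (R := R) →ₐ[R] AH := (extSnd LH AH).comp (extMap LH hLH J hJ)
  have hPQ : spm β σ ≫ P = spm β σ ≫ Q := by
    rw [← Category.assoc, ← Category.assoc, spm_comp, spm_comp]
    rfl
  have hP₁ : spm β (extSnd LH AA) ≫ P = yφ := by
    rw [← hW₁, ← Category.assoc, spm_comp]; rfl
  have hP₂ : spm β (extFst LH AA) ≫ P = y := by
    rw [← hw₁, ← hW₂, ← Category.assoc, ← Category.assoc, spm_comp, spm_comp]; rfl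
  have hQ₁ : spm β (extSnd LH AA) ≫ Q = yφ := by
    rw [← hW₁, ← Category.assoc, spm_comp]; rfl
  have hQ₂ : spm β (extFst LH AA) ≫ Q = xH := by
    rw [← hw₂, ← hW₂, ← Category.assoc, ← Category.assoc, spm_comp, spm_comp]; rfl
  have hlin : ∀ (g : AH →ₐ[R] AA) (z : Ext I AH (R := R)),
      ((algebraMap R AH z.1.1, g z.1.2) : AH × AA) ∈ Ext LH AA (R := R) := fun g z => by
    show g z.1.2 - algebraMap AH AA (algebraMap R AH z.1.1) ∈ LH.map (algebraMap AH AA)
    rw [hmapH, ← IsScalarTower.algebraMap_apply, ← g.commutes z.1.1, ← map_sub,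
      show algebraMap R AA = g.toRingHom.comp (algebraMap R AH) from g.comp_algebraMap.symm, ← Ideal.map_map]
    exact Ideal.mem_map_of_mem g.toRingHom z.2
  let push : (AH →ₐ[R] AA) → (Ext I AH (R := R) →ₐ[R] Ext LH AA (R := R)) := fun g =>
    (((Algebra.ofId R AH).comp (extFst I AH)).prod (g.comp (extSnd I AH))).codRestrict _ (hlin g)
  have hpush₁ : ∀ g, spm β (extSnd LH AA) ≫ spm β (push g) ≫ y' = spm β g ≫ y := fun g => by
    rw [← hy₁, ← Category.assoc, ← Category.assoc, spm_comp, spm_comp]; rfl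
  have hpush₂ : ∀ g, spm β (extFst LH AA) ≫ spm β (push g) ≫ y' = xH := fun g => by
    rw [show xH = spm β (Algebra.ofId R AH) ≫ x from rfl, ← hy₂, ← Category.assoc, ← Category.assoc, spm_comp, spm_comp]
    rfl
  have hsec : ∀ t : AH, ((t, i₁ t) : AH × AA) ∈ Ext LH AA (R := R) := fun t => by
    show i₁ t - i₁ t ∈ LH.map (algebraMap AH AA)
    rw [sub_self]; exact zero_mem _
  let sec : AH →ₐ[R] Ext LH AA (R := R) := ((AlgHom.id R AH).prod i₁).codRestrict _ hsec
  have hQ : Q = spm β (push φ) ≫ y' := ext_hom_ext LH (hQ₁.trans (hpush₁ φ).symm) (hQ₂.trans (hpush₂ φ).symm)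
  have hP : P = lift (spm β sec ≫ u₀) (spm β (push i₂) ≫ y') ≫ a.act := by
    refine ext_hom_ext LH (hP₁.trans ?_) (hP₂.trans ?_)
    · rw [← Category.assoc, comp_lift, ← Category.assoc, spm_comp, hpush₁,
        show (extSnd (R := R) LH AA).comp sec = i₁ from rfl]
      simp only [yφ, y, xH, ← Category.assoc, comp_lift, spm_comp, hφ]
      rw [act_mul, show φ.comp (Algebra.ofId R AH) = i₂.comp (Algebra.ofId R AH) from Subsingleton.elim _ _]
    · rw [← Category.assoc, comp_lift, ← Category.assoc, spm_comp, hpush₂,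
        show (extFst (R := R) LH AA).comp sec = AlgHom.id R AH from rfl, spm_id, Category.id_comp]
  let τ : Ext I AH (R := R) →ₐ[R] R := (extSnd I R).comp (extMap I hI j hj.one)
  refine ⟨spm β τ ≫ y', ?_, ?_⟩
  · rw [← Category.assoc, spm_comp,
      show (Ideal.Quotient.mkₐ R I).comp τ = (Ideal.Quotient.mkₐ R I).comp (extFst I AH) from AlgHom.ext fun z => by
        refine Ideal.Quotient.eq.mpr ?_
        have h : (extMap I hI j hj.one z).1.2 - algebraMap R R (extMap I hI j hj.one z).1.1 ∈ I.map (algebraMap R R) :=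
          (extMap I hI j hj.one z).2
        rw [show algebraMap R R = RingHom.id R from rfl, Ideal.map_id] at h
        exact h,
      ← spm_comp, Category.assoc, hy₂]
  · rw [hP, hQ] at hPQ
    have hint : ∀ z, jExt j AH (φ z) = algebraMap R AH (j z) := hj.left AH u₀ φ hφ
    have h₁ : σ.comp sec = AlgHom.id R AH := AlgHom.ext fun t => by
      show J (algebraMap AH AA t) = t
      rw [Algebra.algebraMap_eq_smul_one, map_smul, hJ, smul_eq_mul, _root_.mul_one]
    have h₂ : σ.comp (push i₂) = (Algebra.ofId R AH).comp τ := AlgHom.ext fun z => by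
      show jExt j AH (1 ⊗ₜ z.1.2) = algebraMap R AH (j z.1.2)
      rw [jExt_tmul, _root_.one_mul]
    have h₃ : σ.comp (push φ) = (Algebra.ofId R AH).comp τ := AlgHom.ext fun z => hint z.1.2
    simp only [← Category.assoc, comp_lift, spm_comp, h₁, h₂, h₃, spm_id, Category.id_comp] at hPQ
    rw [← Category.assoc, spm_comp]
    exact hPQ

/-- Fixed point schemes of actions of groups of multiplicative type are formally smooth. -/
theorem isFormallySmoothHom_fixed {F : Over S} (hG : IsLocDS G) (hX : MoreMor.IsFormallySmoothHom X.hom)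
    (a : AlgGrp.Action G X) (c : F ⟶ X) [Mono c.left]
    (hpts : ∀ (T : Over S) (x : T ⟶ X), (∃ y : T ⟶ F, y ≫ c = x) ↔
      ∀ (T' : Over S) (t : T' ⟶ T) (g : T' ⟶ G), lift g (t ≫ x) ≫ a.act = t ≫ x) :
    MoreMor.IsFormallySmoothHom F.hom := by
  intro A _ I hI a₀ b hab
  obtain ⟨AH, _, _, u₀, hu, sq, -, j, hj⟩ := exists_univ_int hG b
  have hid : Spec.map (CommRingCat.ofHom (algebraMap A A)) = 𝟙 _ := Spec.map_id _
  let z : sp b (A ⧸ I) ⟶ F := Over.homMk a₀ hab.symm
  obtain ⟨l, hl₁, hl₂⟩ := hX A I hI (z ≫ c).left b (by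
    refine hab.trans ?_
    show a₀ ≫ F.hom = (a₀ ≫ c.left) ≫ X.hom
    rw [Category.assoc, Over.w c])
  let x : sp b A ⟶ X := Over.homMk l (by show _ = Spec.map _ ≫ b; rw [hid, Category.id_comp]; exact hl₂)
  have hzx : spm b (Ideal.Quotient.mkₐ A I) ≫ x = z ≫ c := Over.OverMorphism.ext hl₁
  have hfix : spm b (Ideal.Quotient.mkₐ A (I.map (algebraMap A AH))) ≫ lift u₀ (spm b (Algebra.ofId A AH) ≫ x) ≫ a.act =
      spm b (Ideal.Quotient.mkₐ A (I.map (algebraMap A AH))) ≫ spm b (Algebra.ofId A AH) ≫ x := by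
    let ψ : A ⧸ I →ₐ[A] AH ⧸ I.map (algebraMap A AH) := Ideal.quotientMapₐ _ (Algebra.ofId A AH) Ideal.le_comap_map
    have hψ : ψ.comp (Ideal.Quotient.mkₐ A I) =
        (Ideal.Quotient.mkₐ A (I.map (algebraMap A AH))).comp (Algebra.ofId A AH) := Subsingleton.elim _ _
    have h := (hpts _ (z ≫ c)).mp ⟨z, rfl⟩ _ (spm b ψ) (spm b (Ideal.Quotient.mkₐ A _) ≫ u₀)
    rw [← hzx, ← Category.assoc (spm b ψ), spm_comp, hψ, ← spm_comp] at h
    simp only [Category.assoc] at h
    rw [← Category.assoc, comp_lift]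
    exact h
  obtain ⟨x', hx', hfx⟩ := exists_fixed_lift a hu hj I hI x hfix
  obtain ⟨y, hy⟩ := (hpts _ x').mpr fun T' t g => by
    have hw : t.left ≫ b = T'.hom := by
      have h := Over.w t
      change t.left ≫ Spec.map (CommRingCat.ofHom (algebraMap A A)) ≫ b = T'.hom at h
      rw [hid] at h
      exact (congrArg (t.left ≫ ·) (Category.id_comp b)).symm.trans h
    let tt : T' ⟶ sp b AH := Over.homMk (sq.lift t.left g.left (hw.trans (Over.w g).symm)) (by
      show _ ≫ Spec.map (CommRingCat.ofHom (algebraMap A AH)) ≫ b = T'.hom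
      rw [sq.lift_fst_assoc, hw])
    have htg : tt ≫ u₀ = g := Over.OverMorphism.ext (sq.lift_snd _ _ _)
    have htt : tt ≫ spm b (Algebra.ofId A AH) = t := Over.OverMorphism.ext (sq.lift_fst _ _ _)
    have h := congrArg (tt ≫ ·) hfx
    simp only [comp_lift_assoc, htg, reassoc_of% htt] at h
    exact h
  refine ⟨y.left, ?_, ?_⟩
  · rw [← cancel_mono c.left, Category.assoc]
    exact (congrArg (fun m => Spec.map (CommRingCat.ofHom (Ideal.Quotient.mk I)) ≫ CommaMorphism.left m) hy).trans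
      ((congrArg CommaMorphism.left (hx'.trans hzx)).trans rfl)
  · refine (Over.w y).trans ?_
    show Spec.map (CommRingCat.ofHom (algebraMap A A)) ≫ b = b
    rw [hid, Category.id_comp]

end Groth.Agent.MultConjLib
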