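import Groth.Agent.MultConjLib.Rigid
import Mathlib.RingTheory.Ideal.Maximal
import Mathlib.GroupTheory.QuotientGroup.Basic

/-!
# Coactions of group algebras without isotropy

If a coaction of a diagonalisable group on an algebra has no isotropy at any point then the products of homogeneous
elements of opposite degrees generate the unit ideal in every degree, and the graph map is surjective.
-/

universe u

open TensorProduct

namespace Groth.Agent.MultConjLib

variable {R : Type u} [CommRing R] {B : Type u} [CommRing B] [Algebra R B] {M : Type} [CommGroup M]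

/-- `b` is homogeneous of degree `m`. -/
def IsHomog (α : B →ₐ[R] MonoidAlgebra B M) (m : M) (b : B) : Prop := α b = MonoidAlgebra.single m b

/-- The two ways of coacting twice. -/
def IsCoact (α : B →ₐ[R] MonoidAlgebra B M) : Prop :=
  (ev (AlgHom.id R B) (1 : M →* B)).comp α = AlgHom.id R B ∧
    (ev (IsScalarTower.toAlgHom R B (MonoidAlgebra B (M × M)))
        ((MonoidAlgebra.of B (M × M)).comp (MonoidHom.inl M M) * (MonoidAlgebra.of B (M × M)).comp (MonoidHom.inr M M))).comp α =
      (ev ((ev (IsScalarTower.toAlgHom R B (MonoidAlgebra B (M × M)))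
          ((MonoidAlgebra.of B (M × M)).comp (MonoidHom.inr M M))).comp α)
        ((MonoidAlgebra.of B (M × M)).comp (MonoidHom.inl M M))).comp α

theorem eq_sum_single (v : MonoidAlgebra B M) :
    v = ∑ n ∈ v.coeff.support, MonoidAlgebra.single n (v.coeff n) := by
  classical
  refine MonoidAlgebra.ext (Finsupp.ext fun k => ?_)
  rw [MonoidAlgebra.coeff_sum, Finsupp.finsetSum_apply]
  simp only [MonoidAlgebra.coeff_single, Finsupp.single_apply]
  rw [Finset.sum_ite_eq' v.coeff.support k fun n => v.coeff n]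
  split
  · rfl
  · next h => exact Finsupp.notMem_support_iff.mp h

theorem isHomog_coeff {α : B →ₐ[R] MonoidAlgebra B M} (h : IsCoact α) (b : B) (m : M) :
    IsHomog α m ((α b).coeff m) := by
  classical
  let E₂ := MonoidAlgebra B (M × M)
  let ι₂ : B →ₐ[R] E₂ := IsScalarTower.toAlgHom R B E₂
  let f₁ : M →* E₂ := (MonoidAlgebra.of B (M × M)).comp (MonoidHom.inl M M)
  let f₂ : M →* E₂ := (MonoidAlgebra.of B (M × M)).comp (MonoidHom.inr M M)
  have hι : ∀ (r : B), ι₂ r = MonoidAlgebra.single 1 r := fun r => by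
    show algebraMap B E₂ r = _
    simp [E₂]
  have hψ : ∀ (v : MonoidAlgebra B M) (n k : M),
      (ev ι₂ f₂ v).coeff (n, k) = if n = 1 then v.coeff k else 0 := fun v n k => by
    induction v using MonoidAlgebra.induction_linear with
    | zero => simp
    | add a c ha hc =>
      rw [map_add, MonoidAlgebra.coeff_add, Finsupp.add_apply, ha, hc, MonoidAlgebra.coeff_add, Finsupp.add_apply]
      split <;> simp
    | single d r =>
      rw [ev_single, hι, MonoidHom.comp_apply, MonoidAlgebra.of_apply, MonoidAlgebra.single_mul_single,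
        MonoidAlgebra.coeff_single, MonoidAlgebra.coeff_single, Finsupp.single_apply, Finsupp.single_apply]
      by_cases hn : n = 1 <;> by_cases hd : d = k <;> simp [hn, hd, eq_comm, Prod.ext_iff] <;> grind
  have hR : ∀ (v : MonoidAlgebra B M) (n k : M),
      (ev ((ev ι₂ f₂).comp α) f₁ v).coeff (n, k) = (α (v.coeff n)).coeff k := fun v n k => by
    induction v using MonoidAlgebra.induction_linear with
    | zero => simp
    | add a c ha hc =>
      rw [map_add, MonoidAlgebra.coeff_add, Finsupp.add_apply, ha, hc, MonoidAlgebra.coeff_add, Finsupp.add_apply,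
        map_add, MonoidAlgebra.coeff_add, Finsupp.add_apply]
    | single d r =>
      rw [ev_single, AlgHom.comp_apply, MonoidHom.comp_apply, MonoidAlgebra.of_apply,
        show ((n, k) : M × M) = (n * d⁻¹, k) * MonoidHom.inl M M d from Prod.ext (by simp) (by simp),
        MonoidAlgebra.coeff_mul_single_apply, MonoidAlgebra.coeff_single, Finsupp.single_apply]
      simp only [Prod.mk_mul_mk, MonoidHom.inl_apply, mul_one, mul_inv_cancel_right, Prod.inv_mk, inv_one, hψ]
      by_cases hd : d = n
      · subst hd; simp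
      · simp [Ne.symm hd, hd, mul_inv_eq_one]
  have hL : ∀ (v : MonoidAlgebra B M) (n k : M),
      (ev ι₂ (f₁ * f₂) v).coeff (n, k) = if n = k then v.coeff n else 0 := fun v n k => by
    induction v using MonoidAlgebra.induction_linear with
    | zero => simp
    | add a c ha hc =>
      rw [map_add, MonoidAlgebra.coeff_add, Finsupp.add_apply, ha, hc, MonoidAlgebra.coeff_add, Finsupp.add_apply]
      split <;> simp
    | single d r =>
      rw [ev_single, hι, MonoidHom.mul_apply, MonoidHom.comp_apply, MonoidHom.comp_apply, MonoidAlgebra.of_apply,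
        MonoidAlgebra.of_apply, MonoidAlgebra.single_mul_single, MonoidAlgebra.single_mul_single,
        MonoidAlgebra.coeff_single, MonoidAlgebra.coeff_single, Finsupp.single_apply, Finsupp.single_apply]
      by_cases hn : n = k <;> by_cases hd : d = n <;> simp [hn, hd, Prod.ext_iff] <;> grind
  refine MonoidAlgebra.ext (Finsupp.ext fun k => ?_)
  have e := congrArg (fun z : E₂ => z.coeff (m, k)) (AlgHom.congr_fun h.2 b)
  simp only [AlgHom.comp_apply] at e
  rw [hL, hR] at e
  rw [← e, MonoidAlgebra.coeff_single, Finsupp.single_apply]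

theorem IsHomog.mul {α : B →ₐ[R] MonoidAlgebra B M} {m n : M} {x y : B} (hx : IsHomog α m x) (hy : IsHomog α n y) :
    IsHomog α (m * n) (x * y) := by
  rw [IsHomog, map_mul, hx, hy, MonoidAlgebra.single_mul_single]

/-- Without isotropy the opposite degrees generate the unit ideal. -/
theorem span_homog_eq_top {α : B →ₐ[R] MonoidAlgebra B M} (h : IsCoact α)
    (hfree : ∀ (C : Type u) [CommRing C] [Algebra R C] (ψ : B →ₐ[R] C) (g : M →* C),
      (ev ψ g).comp α = ψ → g = 1) (m : M) :
    Ideal.span {z : B | ∃ x y, IsHomog α m x ∧ IsHomog α m⁻¹ y ∧ z = x * y} = ⊤ := by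
  classical
  by_contra hne
  let J := Ideal.span {z : B | ∃ x y, IsHomog α m x ∧ IsHomog α m⁻¹ y ∧ z = x * y}
  let P : Set (Ideal B) := {I | J ≤ I ∧ I ≠ ⊤ ∧ ∀ b ∈ I, ∀ n, (α b).coeff n ∈ I}
  have hJ : J ∈ P := by
    refine ⟨le_rfl, hne, fun b hb n => ?_⟩
    induction hb using Submodule.span_induction generalizing n with
    | mem z hz =>
      obtain ⟨x, y, hx, hy, rfl⟩ := hz
      have hxy : IsHomog α (m * m⁻¹) (x * y) := hx.mul hy
      rw [hxy, MonoidAlgebra.coeff_single, Finsupp.single_apply]
      split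
      · exact Ideal.subset_span ⟨x, y, hx, hy, rfl⟩
      · exact zero_mem _
    | zero => simp
    | add a c _ _ ha hc => rw [map_add, MonoidAlgebra.coeff_add, Finsupp.add_apply]; exact add_mem (ha n) (hc n)
    | smul r a _ ha =>
      rw [smul_eq_mul, map_mul, eq_sum_single (α r), Finset.sum_mul, MonoidAlgebra.coeff_sum, Finsupp.finsetSum_apply]
      refine Submodule.sum_mem _ fun k _ => ?_
      rw [show n = k * (k⁻¹ * n) by group, MonoidAlgebra.coeff_single_mul_mul]
      exact Ideal.mul_mem_left _ _ (ha _)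
  obtain ⟨I, hJI, hI⟩ := zorn_le_nonempty₀ P (fun c hc hchain y hy => by
    refine ⟨sSup c, ⟨(hc hy).1.trans (le_sSup hy), fun ht => ?_, fun b hb n => ?_⟩, fun z hz => le_sSup hz⟩
    · have : (1 : B) ∈ sSup c := ht ▸ Submodule.mem_top
      obtain ⟨z, hz, h1⟩ := (Submodule.mem_sSup_of_directed ⟨y, hy⟩ hchain.directedOn).mp this
      exact (hc hz).2.1 ((Ideal.eq_top_iff_one z).mpr h1)
    · obtain ⟨z, hz, hbz⟩ := (Submodule.mem_sSup_of_directed ⟨y, hy⟩ hchain.directedOn).mp hb
      exact le_sSup hz ((hc hz).2.2 b hbz n)) J hJ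
  obtain ⟨hJle, hIne, hIgr⟩ := hI.prop
  have hunit : ∀ n x, IsHomog α n x → x ∉ I → ∃ y, IsHomog α n⁻¹ y ∧ x * y - 1 ∈ I := by
    intro n x hx hxI
    have hmem : I ⊔ Ideal.span {x} ∉ P := fun hP =>
      hxI (hI.le_of_ge hP le_sup_left (Ideal.mem_sup_right (Ideal.mem_span_singleton_self x)))
    have htop : I ⊔ Ideal.span {x} = ⊤ := by
      by_contra hne'
      refine hmem ⟨hJle.trans le_sup_left, hne', fun b hb k => ?_⟩
      obtain ⟨i, hi, z, hz, rfl⟩ := Submodule.mem_sup.mp hb
      obtain ⟨r, rfl⟩ := Ideal.mem_span_singleton'.mp hz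
      rw [map_add, map_mul, hx, MonoidAlgebra.coeff_add, Finsupp.add_apply, MonoidAlgebra.coeff_mul_single_apply]
      exact add_mem (Ideal.mem_sup_left (hIgr i hi k)) (Ideal.mem_sup_right (Ideal.mul_mem_left _ _ (Ideal.mem_span_singleton_self x)))
    obtain ⟨i, hi, z, hz, hone⟩ := Submodule.mem_sup.mp ((Ideal.eq_top_iff_one _).mp htop)
    obtain ⟨r, rfl⟩ := Ideal.mem_span_singleton'.mp hz
    refine ⟨(α r).coeff n⁻¹, isHomog_coeff h r _, ?_⟩
    have e := congrArg (fun w : MonoidAlgebra B M => w.coeff 1) (congrArg α hone)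
    simp only [map_add, map_mul, map_one, (show α x = MonoidAlgebra.single n x from hx), MonoidAlgebra.one_def, MonoidAlgebra.coeff_add, Finsupp.add_apply,
      MonoidAlgebra.coeff_mul_single_apply, one_mul, MonoidAlgebra.coeff_single, Finsupp.single_eq_same] at e
    rw [show x * (α r).coeff n⁻¹ - 1 = -(α i).coeff 1 by rw [← e]; ring]
    exact I.neg_mem (hIgr i hi 1)
  let Q : Subgroup M :=
    { carrier := {n | ∃ x, IsHomog α n x ∧ x ∉ I}
      one_mem' := ⟨1, by rw [IsHomog, map_one, MonoidAlgebra.one_def], (Ideal.ne_top_iff_one I).mp hIne⟩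
      mul_mem' := by
        rintro a c ⟨x, hx, hxI⟩ ⟨y, hy, hyI⟩
        refine ⟨x * y, hx.mul hy, fun hxy => hyI ?_⟩
        obtain ⟨z, -, hz⟩ := hunit a x hx hxI
        rw [show y = z * (x * y) - (x * z - 1) * y by ring]
        exact I.sub_mem (I.mul_mem_left _ hxy) (I.mul_mem_right _ hz)
      inv_mem' := by
        rintro a ⟨x, hx, hxI⟩
        obtain ⟨z, hz, hxz⟩ := hunit a x hx hxI
        refine ⟨z, hz, fun hzI => (Ideal.ne_top_iff_one I).mp hIne ?_⟩
        rw [show (1 : B) = x * z - (x * z - 1) by ring]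
        exact I.sub_mem (I.mul_mem_left _ hzI) hxz }
  haveI : Nontrivial (B ⧸ I) := Ideal.Quotient.nontrivial_iff.mpr hIne
  let C := MonoidAlgebra (B ⧸ I) (M ⧸ Q)
  let ψ : B →ₐ[R] C := (IsScalarTower.toAlgHom R (B ⧸ I) C).comp (Ideal.Quotient.mkₐ R I)
  let g : M →* C := (MonoidAlgebra.of (B ⧸ I) (M ⧸ Q)).comp (QuotientGroup.mk' Q)
  have hg := hfree C ψ g (AlgHom.ext fun b => by
    have hb := AlgHom.congr_fun h.1 b
    rw [AlgHom.comp_apply, AlgHom.id_apply] at hb
    show ev ψ g (α b) = ψ b
    conv_rhs => rw [← hb]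
    rw [eq_sum_single (α b), map_sum, map_sum, map_sum]
    refine Finset.sum_congr rfl fun n _ => ?_
    rw [ev_single, ev_single, AlgHom.id_apply, MonoidHom.one_apply, mul_one]
    by_cases hn : n ∈ Q
    · rw [show g n = 1 by
        show MonoidAlgebra.of _ _ (QuotientGroup.mk' Q n) = 1
        rw [QuotientGroup.mk'_apply, (QuotientGroup.eq_one_iff n).mpr hn, map_one], mul_one]
    · have hin : (α b).coeff n ∈ I := by
        by_contra hin
        exact hn ⟨_, isHomog_coeff h b n, hin⟩
      have h0 : ψ ((α b).coeff n) = 0 := by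
        show algebraMap (B ⧸ I) C (Ideal.Quotient.mk I _) = 0
        rw [Ideal.Quotient.eq_zero_iff_mem.mpr hin, map_zero]
      rw [h0, zero_mul])
  have hm : m ∈ Q := by
    rw [← QuotientGroup.eq_one_iff]
    exact MonoidAlgebra.single_left_injective (one_ne_zero (α := B ⧸ I)) (DFunLike.congr_fun hg m)
  obtain ⟨x, hx, hxI⟩ := hm
  obtain ⟨y, hy, hxy⟩ := hunit m x hx hxI
  refine (Ideal.ne_top_iff_one I).mp hIne ?_
  rw [show (1 : B) = x * y - (x * y - 1) by ring]
  exact I.sub_mem (hJle (Ideal.subset_span ⟨x, y, hx, hy, rfl⟩)) hxy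

/-- Without isotropy the graph is surjective on rings. -/
theorem graph_surjective {α : B →ₐ[R] MonoidAlgebra B M} (h : IsCoact α)
    (hfree : ∀ (C : Type u) [CommRing C] [Algebra R C] (ψ : B →ₐ[R] C) (g : M →* C),
      (ev ψ g).comp α = ψ → g = 1) (T : Subalgebra R (MonoidAlgebra B M)) (hα : ∀ b, α b ∈ T)
    (hι : ∀ b : B, algebraMap B (MonoidAlgebra B M) b ∈ T) (v : MonoidAlgebra B M) : v ∈ T := by
  rw [eq_sum_single v]
  refine Subalgebra.sum_mem _ fun m _ => ?_
  have h1 : (MonoidAlgebra.single m 1 : MonoidAlgebra B M) ∈ T := by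
    have hJ : ∀ z ∈ Ideal.span {z : B | ∃ x y, IsHomog α m x ∧ IsHomog α m⁻¹ y ∧ z = x * y},
        MonoidAlgebra.single m z ∈ T := by
      intro z hz
      induction hz using Submodule.span_induction with
      | mem z hz =>
        obtain ⟨x, y, hx, hy, rfl⟩ := hz
        have e : MonoidAlgebra.single m (x * y) = α x * algebraMap B (MonoidAlgebra B M) y := by
          rw [hx]; simp [MonoidAlgebra.single_mul_single]
        rw [e]
        exact T.mul_mem (hα x) (hι y)
      | zero => rw [MonoidAlgebra.single_zero]; exact zero_mem _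
      | add a c _ _ ha hc => rw [MonoidAlgebra.single_add]; exact add_mem ha hc
      | smul r a _ ha =>
        have e : MonoidAlgebra.single m (r • a) = algebraMap B (MonoidAlgebra B M) r * MonoidAlgebra.single m a := by
          simp [MonoidAlgebra.single_mul_single]
        rw [e]
        exact T.mul_mem (hι r) ha
    exact hJ 1 (by rw [span_homog_eq_top h hfree m]; exact Submodule.mem_top)
  have e : MonoidAlgebra.single m (v.coeff m) =
      algebraMap B (MonoidAlgebra B M) (v.coeff m) * MonoidAlgebra.single m 1 := by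
    simp [MonoidAlgebra.single_mul_single]
  rw [e]
  exact T.mul_mem (hι _) h1

end Groth.Agent.MultConjLib
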