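import Groth.Agent.MultConjLib.Descend
import Groth.Agent.S1488

/-!
# Homomorphisms from homomorphisms on points over an affine base
-/

universe u

open CategoryTheory CategoryTheory.Limits MonoidalCategory CartesianMonoidalCategory MonObj GrpObj AlgebraicGeometry
open TensorProduct

namespace Groth.Agent.MultConjLib

open GrpSchLib.DiagActionRigid (sp spm spm_comp spm_id spm_left)

set_option backward.isDefEq.respectTransparency false

variable {R : Type u} [CommRing R]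

local notation "𝔅" => 𝟙 (Spec (CommRingCat.of R))

/-- An affine scheme over an affine base is a spectrum. -/
theorem exists_sp_iso (Y : Over (Spec (CommRingCat.of R))) [IsAffine Y.left] :
    ∃ (B : Type u) (_ : CommRing B) (_ : Algebra R B), Nonempty (sp 𝔅 B ≅ Y) := by
  obtain ⟨φ, hφ⟩ := Spec.map_surjective (Y.left.isoSpec.inv ≫ Y.hom)
  letI := φ.hom.toAlgebra
  refine ⟨Γ(Y.left, ⊤), inferInstance, inferInstance, ⟨Over.isoMk Y.left.isoSpec.symm ?_⟩⟩
  show _ = Spec.map φ ≫ 𝟙 _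
  rw [Category.comp_id, hφ]
  rfl

theorem exists_spm {B B' : Type u} [CommRing B] [Algebra R B] [CommRing B'] [Algebra R B']
    (g : sp 𝔅 B' ⟶ sp 𝔅 B) : ∃ f : B →ₐ[R] B', spm 𝔅 f = g := by
  obtain ⟨ψ, hψ⟩ := Spec.map_surjective g.left
  have hw := Over.w g
  change g.left ≫ Spec.map (CommRingCat.ofHom (algebraMap R B)) ≫ 𝟙 _ =
    Spec.map (CommRingCat.ofHom (algebraMap R B')) ≫ 𝟙 _ at hw
  rw [Category.comp_id, Category.comp_id, ← hψ, ← Spec.map_comp] at hw
  exact ⟨{ ψ.hom with commutes' := fun r => RingHom.congr_fun (congrArg CommRingCat.Hom.hom (Spec.map_injective hw)) r },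
    Over.OverMorphism.ext hψ⟩

variable {H G : Over (Spec (CommRingCat.of R))} [GrpObj H] [GrpObj G]

theorem exists_hom_of_ptHom [IsAffineHom H.hom] (u : PtHom 𝔅 H G R) :
    ∃ (f : H ⟶ G) (_ : IsMonHom f), PtHom.ofHom f R = u := by
  haveI : IsAffine H.left := isAffine_of_isAffineHom H.hom
  obtain ⟨A, _, _, ⟨σ⟩⟩ := exists_sp_iso H
  let f : H ⟶ G := σ.inv ≫ u.app A (Algebra.ofId R A) σ.hom
  have hf : ∀ (B : Type u) [CommRing B] [Algebra R B] (ρ : R →ₐ[R] B) (q : sp 𝔅 B ⟶ H), q ≫ f = u.app B ρ q := by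
    intro B _ _ ρ q
    obtain ⟨g, hg⟩ := exists_spm (q ≫ σ.inv)
    rw [← Category.assoc, ← hg, u.nat, Subsingleton.elim (g.comp (Algebra.ofId R A)) ρ, hg, Category.assoc,
      Iso.inv_hom_id, Category.comp_id]
  have hmul : ∀ (Y : Over (Spec (CommRingCat.of R))) [IsAffine Y.left] (a b : Y ⟶ H),
      (a * b) ≫ f = (a ≫ f) * (b ≫ f) := by
    intro Y _ a b
    obtain ⟨B, _, _, ⟨τ⟩⟩ := exists_sp_iso Y
    have hf' : ∀ q : sp 𝔅 B ⟶ H, q ≫ f = u.app B (Algebra.ofId R B) q := hf B _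
    rw [← cancel_epi τ.hom, MonObj.comp_mul τ.hom]
    refine ((Category.assoc τ.hom (a * b) f).symm).trans ((hf' _).trans ?_)
    rw [MonObj.comp_mul τ.hom, u.mul]
    exact (congrArg₂ (· * ·) ((hf' _).symm.trans (Category.assoc τ.hom a f))
      ((hf' _).symm.trans (Category.assoc τ.hom b f)))
  refine ⟨f, ⟨?_, ?_⟩, ?_⟩
  · haveI : IsAffine (𝟙_ (Over (Spec (CommRingCat.of R)))).left := inferInstanceAs (IsAffine (Spec _))
    have h := hmul (𝟙_ _) η[H] η[H]
    have h1 : (1 : 𝟙_ (Over (Spec (CommRingCat.of R))) ⟶ H) = η[H] := by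
      rw [Hom.one_def, toUnit_unique (toUnit _) (𝟙 _), Category.id_comp]
    rw [← h1, _root_.one_mul] at h
    rw [← h1, left_eq_mul.mp h, Hom.one_def, toUnit_unique (toUnit _) (𝟙 _), Category.id_comp]
  · haveI : IsAffine (H ⊗ H).left := by
      show IsAffine (pullback H.hom H.hom)
      exact isAffine_of_isAffineHom (pullback.fst H.hom H.hom)
    have h := hmul (H ⊗ H) (fst H H) (snd H H)
    rw [Hom.mul_def, lift_fst_snd, Category.id_comp] at h
    rw [h, Hom.mul_def]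
    congr 1
  · refine PtHom.ext ?_
    funext B _ _ ρ q
    exact hf B ρ q

theorem hom_ext_of_ptHom [IsAffineHom H.hom] {f g : H ⟶ G} [IsMonHom f] [IsMonHom g]
    (h : (PtHom.ofHom f R : PtHom 𝔅 H G R) = PtHom.ofHom g R) : f = g := by
  haveI : IsAffine H.left := isAffine_of_isAffineHom H.hom
  obtain ⟨A, _, _, ⟨σ⟩⟩ := exists_sp_iso H
  rw [← cancel_epi σ.hom]
  exact congrArg (fun w : PtHom 𝔅 H G R => w.app A (Algebra.ofId R A) σ.hom) h

section Build

variable {S : Scheme.{u}} {β : Spec (CommRingCat.of R) ⟶ S} {H G K : Over S} [GrpObj H] [GrpObj G] [GrpObj K]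
  {T : Type u} [CommRing T] [Algebra R T]

/-- The conjugate of a homomorphism on points by a point. -/
noncomputable def PtHom.conj (u : PtHom β H G T) (g : sp β T ⟶ G) : PtHom β H G T where
  app B _ _ ρ q := (spm β ρ ≫ g) * u.app B ρ q * (spm β ρ ≫ g)⁻¹
  nat f ρ q := by rw [MonObj.comp_mul, MonObj.comp_mul, GrpObj.comp_inv, u.nat, ← Category.assoc, spm_comp]
  mul ρ q q' := by rw [u.mul]; group

/-- A homomorphism on points with values in a subgroup. -/
theorem PtHom.exists_factor (k : K ⟶ G) [IsMonHom k] [Mono k] (w : PtHom β H G T)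
    (h : ∀ (B : Type u) [CommRing B] [Algebra R B] (ρ : T →ₐ[R] B) (q : sp β B ⟶ H),
      ∃ p : sp β B ⟶ K, p ≫ k = w.app B ρ q) :
    ∃ v : PtHom β H K T, ∀ (B : Type u) [CommRing B] [Algebra R B] (ρ : T →ₐ[R] B) (q : sp β B ⟶ H),
      v.app B ρ q ≫ k = w.app B ρ q := by
  choose app happ using h
  refine ⟨⟨app, fun f ρ q => ?_, fun ρ q q' => ?_⟩, happ⟩
  · rw [← cancel_mono k, Category.assoc, happ, happ, w.nat]
  · rw [← cancel_mono k, happ, MonObj.mul_comp, happ, happ, w.mul]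

theorem exists_hom_lift_nilpotent {A : Type u} [CommRing A] [Algebra R A] {x : sp β A ⟶ H} (hx : IsUniv x)
    {j : A →ₗ[R] R} (hj : IsInt x j) (hG : MoreMor.IsFormallySmoothHom G.hom) (L : Ideal T) (hL : IsNilpotent L)
    (u₀ : PtHom β H G (T ⧸ L)) : ∃ u : PtHom β H G T, u.map (Ideal.Quotient.mkₐ R L) = u₀ := by
  revert u₀
  revert ‹Algebra R T›
  apply Ideal.IsNilpotent.induction_on (S := T) L hL
  · intro T _ I hI _ u₀
    exact exists_hom_lift hx hj hG I hI u₀
  · intro T _ I J hIJ h₁ h₂ _ u₀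
    let e : ((T ⧸ I) ⧸ J.map (Ideal.Quotient.mk I)) ≃ₐ[R] T ⧸ J :=
      { (DoubleQuot.quotQuotEquivQuotSup I J).trans (Ideal.quotEquivOfEq (sup_eq_right.mpr hIJ)) with
        commutes' := fun x => rfl }
    obtain ⟨u', hu'⟩ := h₂ (u₀.map e.symm.toAlgHom)
    obtain ⟨u, hu⟩ := h₁ u'
    subst hu
    refine ⟨u, ?_⟩
    have h := congrArg (fun w => PtHom.map w e.toAlgHom) hu'
    simp only [PtHom.map_map] at h
    rw [show e.toAlgHom.comp e.symm.toAlgHom = AlgHom.id R (T ⧸ J) from e.comp_symm, PtHom.map_id] at h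
    exact h

end Build

end Groth.Agent.MultConjLib
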