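import Groth.Agent.MultConjLib.FreeAlg
import Groth.Agent.MultConjLib.ToHom
import Groth.Agent.HomSchLib.Local
import Groth.Agent.EtFound.Descent
import Groth.Agent.GrpSchLib.Action
import Groth.Agent.MultConjLib.FixedSmooth

/-!
# The graph of a free action of a group of multiplicative type on an affine scheme
-/

universe u

open CategoryTheory CategoryTheory.Limits MonoidalCategory CartesianMonoidalCategory MonObj GrpObj AlgebraicGeometry
open TensorProduct

namespace Groth.Agent.MultConjLib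

open GrpSchLib.DiagActionRigid (sp spm spm_comp spm_id spm_left coord_ext)
open DSPtsLib (CoordM)

set_option backward.isDefEq.respectTransparency false

variable {S : Scheme.{u}} {R : Type u} [CommRing R] {β : Spec (CommRingCat.of R) ⟶ S}

/-- An affine scheme over the base ring is a spectrum. -/
theorem exists_sp_iso_over (W : Over S) (t : W ⟶ sp β R) [IsAffine W.left] :
    ∃ (B : Type u) (_ : CommRing B) (_ : Algebra R B) (σ : sp β B ≅ W), σ.hom ≫ t = spm β (Algebra.ofId R B) := by
  obtain ⟨φ, hφ⟩ := Spec.map_surjective (W.left.isoSpec.inv ≫ t.left)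
  letI := φ.hom.toAlgebra
  refine ⟨Γ(W.left, ⊤), inferInstance, inferInstance, Over.isoMk W.left.isoSpec.symm ?_, ?_⟩
  · show W.left.isoSpec.inv ≫ W.hom = Spec.map φ ≫ β
    rw [hφ, Category.assoc, ← Over.w t]
    show _ = _ ≫ t.left ≫ β
    congr 2
    show Spec.map (CommRingCat.ofHom (algebraMap R R)) ≫ β = β
    rw [show Spec.map (CommRingCat.ofHom (algebraMap R R)) = 𝟙 _ from Spec.map_id _, Category.id_comp]
  · exact Over.OverMorphism.ext hφ.symm

/-- Morphisms of spectra over the base ring are algebra maps. -/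
theorem exists_spm_over {C D : Type u} [CommRing C] [Algebra R C] [CommRing D] [Algebra R D]
    (m : sp β C ⟶ sp β D) (h : m ≫ spm β (Algebra.ofId R D) = spm β (Algebra.ofId R C)) :
    ∃ θ : D →ₐ[R] C, spm β θ = m := by
  obtain ⟨φ, hφ⟩ := Spec.map_surjective m.left
  have hw := congrArg CommaMorphism.left h
  change m.left ≫ Spec.map (CommRingCat.ofHom (Algebra.ofId R D).toRingHom) =
    Spec.map (CommRingCat.ofHom (Algebra.ofId R C).toRingHom) at hw
  rw [← hφ, ← Spec.map_comp] at hw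
  exact ⟨{ φ.hom with commutes' := fun r => RingHom.congr_fun (congrArg CommRingCat.Hom.hom (Spec.map_injective hw)) r },
    Over.OverMorphism.ext hφ⟩

variable {G X : Over S} [GrpObj G]

theorem isPullback_whiskerRight {Y Z : Over S} (f : Y ⟶ Z) (K : Over S) :
    IsPullback (f ▷ K) (fst Y K) (fst Z K) f := by
  refine ⟨⟨by simp⟩, ⟨PullbackCone.IsLimit.mk _ (fun s => lift s.snd (s.fst ≫ snd Z K))
    (fun s => ?_) (fun s => lift_fst _ _) fun s m h₁ h₂ => ?_⟩⟩
  · refine CartesianMonoidalCategory.hom_ext _ _ ?_ ?_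
    · simpa using s.condition.symm
    · simp
  · refine CartesianMonoidalCategory.hom_ext _ _ (by simpa using h₂) ?_
    have h := congrArg (· ≫ snd Z K) h₁
    simpa using h

theorem isPullback_whiskerRight_left {Y Z : Over S} (f : Y ⟶ Z) (K : Over S) :
    IsPullback (f ▷ K).left (fst Y K).left (fst Z K).left f.left :=
  (isPullback_whiskerRight f K).map (Over.forget S)

theorem isPullback_whiskerRight_map {Y Z : Over S} (f : Y ⟶ Z) {K K' : Over S} (π : K' ⟶ K) :
    IsPullback (f ▷ K').left (Y ◁ π).left (Z ◁ π).left (f ▷ K).left := by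
  refine IsPullback.of_bot ?_ ?_ (isPullback_whiskerRight_left f K)
  · rw [← Over.comp_left, ← Over.comp_left, whiskerLeft_fst, whiskerLeft_fst]
    exact isPullback_whiskerRight_left f K'
  · rw [← Over.comp_left, ← Over.comp_left, whisker_exchange]

/-- The graph over a base where the group is split. -/
theorem isClosedImmersion_graph_split (hG : IsLocDS G) (hX : IsAffineHom X.hom) (a : AlgGrp.Action G X)
    (hfree : ∀ (Y : Over S) (g : Y ⟶ G) (x : Y ⟶ X), lift g x ≫ a.act = x → g = 1)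
    {U : Scheme.{u}} (gU : U ⟶ S) {M : Type} [AddCommGroup M] (e : Grp.mk (Red.bc gU G) ≅ Grp.mk (Red.DS U M))
    (jU : Spec (CommRingCat.of R) ⟶ U) (hjU : jU ≫ gU = β) :
    IsClosedImmersion ((lift a.act (snd G X)) ▷ sp β R).left := by
  haveI := isAffineHom_of_locDS hG
  haveI := hX
  haveI : IsAffineHom (pullback.fst G.hom X.hom) := MorphismProperty.pullback_fst _ _ hX
  haveI : IsAffineHom (pullback.fst X.hom X.hom) := MorphismProperty.pullback_fst _ _ hX
  haveI : IsAffineHom (G ⊗ X).hom := inferInstanceAs (IsAffineHom (pullback.fst G.hom X.hom ≫ G.hom))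
  haveI : IsAffineHom (X ⊗ X).hom := inferInstanceAs (IsAffineHom (pullback.fst X.hom X.hom ≫ X.hom))
  haveI : IsAffineHom (snd X (sp β R)).left := MorphismProperty.pullback_snd X.hom (sp β R).hom hX
  haveI : IsAffine (sp β R).left := inferInstanceAs (IsAffine (Spec _))
  haveI : IsAffineHom (snd (G ⊗ X) (sp β R)).left := MorphismProperty.pullback_snd (G ⊗ X).hom (sp β R).hom ‹_›
  haveI : IsAffineHom (snd (X ⊗ X) (sp β R)).left := MorphismProperty.pullback_snd (X ⊗ X).hom (sp β R).hom ‹_›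
  haveI : IsAffine (X ⊗ sp β R).left := isAffine_of_isAffineHom (snd X (sp β R)).left
  haveI : IsAffine ((G ⊗ X) ⊗ sp β R).left := isAffine_of_isAffineHom (snd (G ⊗ X) (sp β R)).left
  haveI : IsAffine ((X ⊗ X) ⊗ sp β R).left := isAffine_of_isAffineHom (snd (X ⊗ X) (sp β R)).left
  have hid : Spec.map (CommRingCat.ofHom (algebraMap R R)) = 𝟙 _ := Spec.map_id _
  obtain ⟨χ', hnat', hmul', hbij'⟩ :=
    exists_char_pts (R := R) (β := β) gU e (R' := R) jU (by rw [hid, Category.id_comp, hjU])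
  let χ : ∀ (C : Type u) [CommRing C] [Algebra R C], (Multiplicative M →* C) → (sp β C ⟶ G) := fun C _ _ g =>
    χ' C (Algebra.ofId R C) (ofVal g)
  have hval : ∀ {C : Type u} [CommRing C] (c : CoordM.{u} M →+* C), ofVal (charVal c) = c := fun c =>
    coord_ext fun n => by rw [ofVal_single]; rfl
  have hnat : ∀ {C D : Type u} [CommRing C] [Algebra R C] [CommRing D] [Algebra R D] (f : C →ₐ[R] D)
      (g : Multiplicative M →* C), spm β f ≫ χ C g = χ D ((f : C →* D).comp g) := fun {C D} _ _ _ _ f g => by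
    show spm β f ≫ χ' C _ _ = χ' D _ _
    rw [hnat', Subsingleton.elim (f.comp (Algebra.ofId R C)) (Algebra.ofId R D)]
    congr 1
    refine coord_ext fun n => ?_
    rw [ofVal_single]
    show f (ofVal g (MonoidAlgebra.single n 1)) = _
    rw [ofVal_single]
    rfl
  have hmul : ∀ {C : Type u} [CommRing C] [Algebra R C] (g g' : Multiplicative M →* C), χ C g * χ C g' = χ C (g * g') :=
    fun g g' => hmul' _ _ _ _ fun m => by rw [ofVal_single, ofVal_single, ofVal_single]; rfl
  have hone : ∀ {C : Type u} [CommRing C] [Algebra R C], χ C 1 = 1 := fun {C} _ _ => by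
    have h := hmul (C := C) 1 1
    rw [_root_.one_mul] at h
    exact left_eq_mul.mp h.symm
  have hinj : ∀ {C : Type u} [CommRing C] [Algebra R C] (g g' : Multiplicative M →* C), χ C g = χ C g' → g = g' :=
    fun g g' h => by
    refine MonoidHom.ext fun m => ?_
    have h' := congrArg (fun c : CoordM.{u} M →+* _ => c (MonoidAlgebra.single m 1)) ((hbij' _ _).1 h)
    simpa only [ofVal_single] using h'
  -- the coordinate ring of the scheme
  obtain ⟨B, _, _, σX, hσX⟩ := exists_sp_iso_over (X ⊗ sp β R) (snd _ _)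
  let y : sp β B ⟶ X := σX.hom ≫ fst X (sp β R)
  have hy : IsUniv y := by
    intro C _ _ q
    obtain ⟨θ, hθ⟩ := exists_spm_over (lift q (spm β (Algebra.ofId R C)) ≫ σX.inv) (by
      rw [← hσX, Category.assoc, Iso.inv_hom_id_assoc, lift_snd])
    refine ⟨θ, ?_, fun θ' hθ' => ?_⟩
    · show spm β θ ≫ σX.hom ≫ fst _ _ = q
      rw [hθ, Category.assoc, Iso.inv_hom_id_assoc, lift_fst]
    · have h : spm β θ' = spm β θ := by
        rw [hθ, Iso.eq_comp_inv]
        refine CartesianMonoidalCategory.hom_ext _ _ ?_ ?_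
        · rw [lift_fst, Category.assoc]; exact hθ'
        · rw [lift_snd, Category.assoc, hσX, spm_comp]
          exact congrArg (spm β) (Subsingleton.elim _ _)
      exact AlgHom.coe_ringHom_injective
        (congrArg CommRingCat.Hom.hom (Spec.map_injective (congrArg CommaMorphism.left h)))
  -- the coaction
  let E := MonoidAlgebra B (Multiplicative M)
  let ι₁ : B →ₐ[R] E := IsScalarTower.toAlgHom R B E
  obtain ⟨α, hα, -⟩ := hy E (lift (χ E (MonoidAlgebra.of B _)) (spm β ι₁ ≫ y) ≫ a.act)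
  have hev : ∀ {C : Type u} [CommRing C] [Algebra R C] (ψ : B →ₐ[R] C) (g : Multiplicative M →* C),
      (ev ψ g).comp ι₁ = ψ := fun {C} _ _ ψ g => AlgHom.ext fun b => by
    show ev ψ g (algebraMap B E b) = ψ b
    rw [show algebraMap B E b = MonoidAlgebra.single 1 b by simp [E], ev_single, map_one, _root_.mul_one]
  have hevg : ∀ {C : Type u} [CommRing C] [Algebra R C] (ψ : B →ₐ[R] C) (g : Multiplicative M →* C),
      ((ev ψ g : E →ₐ[R] C) : E →* C).comp (MonoidAlgebra.of B _) = g := fun ψ g =>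
    MonoidHom.ext fun m => ev_one ψ g m
  have hact : ∀ {C : Type u} [CommRing C] [Algebra R C] (ψ : B →ₐ[R] C) (g : Multiplicative M →* C),
      lift (χ C g) (spm β ψ ≫ y) ≫ a.act = spm β ((ev ψ g).comp α) ≫ y := fun {C} _ _ ψ g => by
    rw [← spm_comp, Category.assoc, hα, comp_lift_assoc, hnat, hevg, ← Category.assoc (spm β (ev ψ g)) (spm β ι₁), spm_comp, hev]
  have hco : IsCoact α := by
    constructor
    · refine (hy B y).unique ?_ (by rw [spm_id, Category.id_comp])
      rw [← hact, hone, spm_id, Category.id_comp]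
      exact GrpSchLib.act_one a y
    · refine (hy _ _).unique rfl ?_
      rw [← hact, ← hact, ← hact, ← act_mul a, hmul]
  have hfr : ∀ (C : Type u) [CommRing C] [Algebra R C] (ψ : B →ₐ[R] C) (g : Multiplicative M →* C),
      (ev ψ g).comp α = ψ → g = 1 := fun C _ _ ψ g h =>
    hinj g 1 (by rw [hone]; exact hfree _ _ _ (by rw [hact, h]))
  -- the source is the spectrum of the group algebra
  let e₀ : sp β E ⟶ (G ⊗ X) ⊗ sp β R :=
    lift (lift (χ E (MonoidAlgebra.of B _)) (spm β ι₁ ≫ y)) (spm β (Algebra.ofId R E))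
  haveI : IsIso e₀ := by
    obtain ⟨E₁, _, _, σ₁, hσ₁⟩ := exists_sp_iso_over ((G ⊗ X) ⊗ sp β R) (snd _ _)
    obtain ⟨c, hc⟩ := (hbij' E₁ (Algebra.ofId R E₁)).2 (σ₁.hom ≫ fst _ _ ≫ fst _ _)
    obtain ⟨ψ, hψ, -⟩ := hy E₁ (σ₁.hom ≫ fst _ _ ≫ snd _ _)
    let θ₀ : E →ₐ[R] E₁ := ev ψ (charVal c)
    have h1 : spm β θ₀ ≫ e₀ = σ₁.hom := by
      refine CartesianMonoidalCategory.hom_ext _ _ (CartesianMonoidalCategory.hom_ext _ _ ?_ ?_) ?_
      · simp only [e₀, Category.assoc, lift_fst, lift_fst_assoc, hnat, θ₀, hevg]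
        show χ' E₁ _ (ofVal (charVal c)) = _
        rw [hval, hc]
      · simp only [e₀, Category.assoc, lift_fst, lift_snd, lift_fst_assoc]
        rw [← Category.assoc, spm_comp, hev, hψ]
      · simp only [e₀, Category.assoc, lift_snd, hσ₁, spm_comp]
        exact congrArg (spm β) (Subsingleton.elim _ _)
    obtain ⟨θ₁, hθ₁⟩ := exists_spm_over (e₀ ≫ σ₁.inv) (by
      rw [← hσ₁, Category.assoc, Iso.inv_hom_id_assoc, lift_snd])
    refine ⟨σ₁.inv ≫ spm β θ₀, ?_, by rw [Category.assoc, h1, Iso.inv_hom_id]⟩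
    rw [← Category.assoc, ← hθ₁, spm_comp]
    have h2 : spm β (θ₁.comp θ₀) ≫ e₀ = e₀ := by
      rw [← spm_comp, Category.assoc, h1, hθ₁, Category.assoc, Iso.inv_hom_id, Category.comp_id]
    have hx' := congrArg (· ≫ fst _ _ ≫ snd _ _) h2
    have hg' := congrArg (· ≫ fst _ _ ≫ fst _ _) h2
    simp only [e₀, Category.assoc, lift_fst, lift_snd, lift_fst_assoc] at hx' hg'
    rw [← Category.assoc, spm_comp] at hx'
    rw [hnat] at hg'
    rw [show θ₁.comp θ₀ = AlgHom.id R E from ?_, spm_id]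
    refine AlgHom.coe_ringHom_injective (MonoidAlgebra.ringHom_ext (fun b => ?_) fun m => ?_)
    · have h := AlgHom.congr_fun ((hy E _).unique hx' rfl) b
      rw [show (MonoidAlgebra.single 1 b : E) = ι₁ b by simp [ι₁, E]]
      exact h
    · exact DFunLike.congr_fun (hinj _ _ hg') m
  obtain ⟨E₂, _, _, σ₂, hσ₂⟩ := exists_sp_iso_over ((X ⊗ X) ⊗ sp β R) (snd _ _)
  obtain ⟨θ, hθ⟩ := exists_spm_over (e₀ ≫ ((lift a.act (snd G X)) ▷ sp β R) ≫ σ₂.inv) (by
    rw [← hσ₂, Category.assoc, Category.assoc, Iso.inv_hom_id_assoc, whiskerRight_snd, lift_snd])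
  obtain ⟨ψ₁, hψ₁, -⟩ := hy E₂ (σ₂.hom ≫ fst _ _ ≫ fst _ _)
  obtain ⟨ψ₂, hψ₂, -⟩ := hy E₂ (σ₂.hom ≫ fst _ _ ≫ snd _ _)
  have hθ₁ : θ.comp ψ₁ = α := by
    refine (hy E _).unique ?_ hα
    rw [← spm_comp, Category.assoc, hψ₁, hθ]
    simp [e₀]
  have hθ₂ : θ.comp ψ₂ = ι₁ := by
    refine (hy E _).unique ?_ rfl
    rw [← spm_comp, Category.assoc, hψ₂, hθ]
    simp [e₀]
  have hsurj : Function.Surjective θ := fun v => graph_surjective hco hfr θ.range
    (fun b => ⟨ψ₁ b, AlgHom.congr_fun hθ₁ b⟩) (fun b => ⟨ψ₂ b, AlgHom.congr_fun hθ₂ b⟩) v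
  have hθc : IsClosedImmersion (spm β θ).left := IsClosedImmersion.spec_of_surjective _ hsurj
  haveI : IsIso e₀.left := inferInstanceAs (IsIso ((Over.forget S).map e₀))
  haveI : IsIso σ₂.inv.left := inferInstanceAs (IsIso ((Over.forget S).map σ₂.inv))
  rw [hθ, Over.comp_left, Over.comp_left, MorphismProperty.cancel_left_of_respectsIso @IsClosedImmersion,
    MorphismProperty.cancel_right_of_respectsIso @IsClosedImmersion] at hθc
  exact hθc

/-- The graph over an affine base. -/
theorem isClosedImmersion_graph_affine (hG : IsLocDS G) (hX : IsAffineHom X.hom) (a : AlgGrp.Action G X)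
    (hfree : ∀ (Y : Over S) (g : Y ⟶ G) (x : Y ⟶ X), lift g x ≫ a.act = x → g = 1) {R : Type u} [CommRing R]
    (b : Spec (CommRingCat.of R) ⟶ S) : IsClosedImmersion ((lift a.act (snd G X)) ▷ sp b R).left := by
  classical
  obtain ⟨κ, _, Rk, _, _, _, hcov, hsp⟩ := exists_split_cover hG b
  let Γ' := lift a.act (snd G X)
  let Z := X ⊗ X
  haveI : Module.FaithfullyFlat R (∀ k, Rk k) := by
    have _ := Fintype.ofFinite κ
    exact AdeqFound.faithfullyFlat_pi (A' := Rk) hcov
  let P := ∀ k, Rk k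
  let π : sp b P ⟶ sp b R := spm b (Algebra.ofId R P)
  have hπ : (@Surjective ⊓ @Flat ⊓ @QuasiCompact : MorphismProperty Scheme.{u}) π.left :=
    (show (@Surjective ⊓ @Flat ⊓ @QuasiCompact : MorphismProperty Scheme.{u})
        (Spec.map (CommRingCat.ofHom (algebraMap R P))) from
      ⟨⟨⟨PrimeSpectrum.comap_surjective_of_faithfullyFlat⟩,
        (HasRingHomProperty.Spec_iff (P := @Flat)).mpr (RingHom.flat_algebraMap_iff.mpr inferInstance)⟩,
        inferInstance⟩)
  have hπ' : (@Surjective ⊓ @Flat ⊓ @QuasiCompact : MorphismProperty Scheme.{u}) (Z ◁ π).left := by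
    rw [Over.whiskerLeft_left]
    have H : IsPullback (pullback.map Z.hom (sp b P).hom Z.hom (sp b R).hom (𝟙 _) π.left (𝟙 S) (by simp) (by rw [Category.comp_id]; exact (Over.w π).symm))
        (pullback.snd Z.hom (sp b P).hom) (pullback.snd Z.hom (sp b R).hom) π.left := by
      refine IsPullback.of_right (h₁₂ := pullback.fst Z.hom (sp b R).hom) (v₁₃ := Z.hom) (h₂₂ := (sp b R).hom) ?_ (by simp)
        (IsPullback.of_hasPullback Z.hom (sp b R).hom)
      rw [pullback.lift_fst, Category.comp_id, Over.w π]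
      exact IsPullback.of_hasPullback Z.hom (sp b P).hom
    exact MorphismProperty.of_isPullback H.flip hπ
  haveI := EtFound.fpqc_isClosedImmersion.{u}
  refine MorphismProperty.of_isPullback_of_descendsAlong (P := @IsClosedImmersion)
    (Q := @Surjective ⊓ @Flat ⊓ @QuasiCompact) (isPullback_whiskerRight_map Γ' π) hπ' ?_
  let cmp : ∀ k, sp b (Rk k) ⟶ sp b P := fun k => spm b (Pi.evalAlgHom R Rk k)
  haveI hcmp : ∀ k, IsOpenImmersion (cmp k).left := fun k => by
    show IsOpenImmersion (Spec.map _)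
    have := ι_sigmaSpec (fun k => CommRingCat.of (Rk k)) k
    exact this ▸ inferInstance
  let 𝒲 : (Z ⊗ sp b P).left.OpenCover := Scheme.Cover.mkOfCovers κ (fun k => (Z ⊗ sp b (Rk k)).left)
    (fun k => (Z ◁ cmp k).left) (fun x => by
      obtain ⟨y, hy⟩ := (sigmaSpec fun k => CommRingCat.of (Rk k)).surjective ((snd Z (sp b P)).left x)
      obtain ⟨k, y', rfl⟩ := (sigmaOpenCover fun k => Spec (CommRingCat.of (Rk k))).exists_eq y
      refine ⟨k, (HomSchLib.range_whiskerLeft Z (cmp k)).ge ⟨y', ?_⟩⟩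
      refine Eq.trans ?_ hy
      exact ((congrArg (fun f : Spec (CommRingCat.of (Rk k)) ⟶ Spec (CommRingCat.of P) => f y')
        (ι_sigmaSpec (fun k => CommRingCat.of (Rk k)) k)).symm).trans (Scheme.Hom.comp_apply _ _ _))
    (fun k => haveI := hcmp k; HomSchLib.isOpenImmersion_whiskerLeft Z (cmp k))
  rw [IsZariskiLocalAtTarget.iff_of_openCover (P := @IsClosedImmersion) 𝒲]
  intro k
  show IsClosedImmersion (pullback.snd (Γ' ▷ sp b P).left (Z ◁ cmp k).left)
  rw [← (isPullback_whiskerRight_map Γ' (cmp k)).flip.isoPullback_inv_snd,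
    MorphismProperty.cancel_left_of_respectsIso @IsClosedImmersion]
  obtain ⟨U, gU, M, _, e, jU, hjU⟩ := hsp k
  have h := isClosedImmersion_graph_split (R := Rk k) (β := Spec.map (CommRingCat.ofHom (algebraMap R (Rk k))) ≫ b)
    hG hX a hfree gU e jU hjU
  rw [show (sp (Spec.map (CommRingCat.ofHom (algebraMap R (Rk k))) ≫ b) (Rk k)) = sp b (Rk k) from by
    refine congrArg Over.mk ?_
    rw [show Spec.map (CommRingCat.ofHom (algebraMap (Rk k) (Rk k))) = 𝟙 _ from Spec.map_id _, Category.id_comp]] at h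
  exact h

/-- The graph of a free action of a group of multiplicative type on an affine scheme is a closed immersion. -/
theorem isClosedImmersion_graph (hG : IsLocDS G) (hX : IsAffineHom X.hom) (a : AlgGrp.Action G X)
    (hfree : ∀ (Y : Over S) (g : Y ⟶ G) (x : Y ⟶ X), lift g x ≫ a.act = x → g = 1) :
    IsClosedImmersion (lift a.act (snd G X)).left := by
  classical
  let Γ' := lift a.act (snd G X)
  let Z := X ⊗ X
  let 𝒰 := S.affineOpenCover
  let b : ∀ i, Spec (CommRingCat.of (𝒰.X i : Type u)) ⟶ S := fun i => 𝒰.f i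
  let K : ∀ i, Over S := fun i => sp (R := (𝒰.X i : Type u)) (b i) (𝒰.X i : Type u)
  have hK : ∀ i, (K i).hom = 𝒰.f i := fun i => by
    show Spec.map (CommRingCat.ofHom (algebraMap (𝒰.X i) (𝒰.X i))) ≫ b i = _
    rw [show Spec.map (CommRingCat.ofHom (algebraMap (𝒰.X i) (𝒰.X i))) = 𝟙 _ from Spec.map_id _, Category.id_comp]
  haveI : ∀ i, IsOpenImmersion (fst Z (K i)).left := fun i => by
    haveI : IsOpenImmersion (K i).hom := by rw [hK i]; infer_instance
    exact inferInstanceAs (IsOpenImmersion (pullback.fst Z.hom (K i).hom))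
  let 𝒱 : Z.left.OpenCover := Scheme.Cover.mkOfCovers _ (fun i => (Z ⊗ K i).left) (fun i => (fst Z (K i)).left)
    (fun z => by
      obtain ⟨i, t, ht⟩ := 𝒰.openCover.exists_eq (Z.hom z)
      refine ⟨i, ?_⟩
      show z ∈ Set.range (pullback.fst Z.hom (K i).hom)
      rw [Scheme.Pullback.range_fst, hK i]
      exact ⟨t, ht⟩)
    (fun i => this i)
  rw [IsZariskiLocalAtTarget.iff_of_openCover (P := @IsClosedImmersion) (f := Γ'.left) 𝒱]
  intro i
  show IsClosedImmersion (pullback.snd Γ'.left (fst Z (K i)).left)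
  rw [← (isPullback_whiskerRight_left Γ' (K i)).flip.isoPullback_inv_snd,
    MorphismProperty.cancel_left_of_respectsIso @IsClosedImmersion]
  exact isClosedImmersion_graph_affine hG hX a hfree (b i)

end Groth.Agent.MultConjLib
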