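import Groth.Agent.MultConjLib.Lift

/-!
# Homomorphisms on affine points over an algebra
-/

universe u

open CategoryTheory CategoryTheory.Limits MonoidalCategory CartesianMonoidalCategory MonObj GrpObj AlgebraicGeometry
open TensorProduct

namespace Groth.Agent.MultConjLib

open GrpSchLib.DiagActionRigid (sp spm spm_comp spm_id spm_left)

set_option backward.isDefEq.respectTransparency false

variable {S : Scheme.{u}} {R : Type u} [CommRing R]

/-- A homomorphism from `H` to `G` on the points with values in algebras over `T`. -/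
@[ext]
structure PtHom (β : Spec (CommRingCat.of R) ⟶ S) (H G : Over S) [GrpObj H] [GrpObj G] (T : Type u) [CommRing T]
    [Algebra R T] : Type (u + 1) where
  app : ∀ (B : Type u) [CommRing B] [Algebra R B], (T →ₐ[R] B) → (sp β B ⟶ H) → (sp β B ⟶ G)
  nat : ∀ {B B' : Type u} [CommRing B] [Algebra R B] [CommRing B'] [Algebra R B'] (f : B →ₐ[R] B') (ρ : T →ₐ[R] B)
    (q : sp β B ⟶ H), spm β f ≫ app B ρ q = app B' (f.comp ρ) (spm β f ≫ q)
  mul : ∀ {B : Type u} [CommRing B] [Algebra R B] (ρ : T →ₐ[R] B) (q q' : sp β B ⟶ H),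
    app B ρ (q * q') = app B ρ q * app B ρ q'

variable {β : Spec (CommRingCat.of R) ⟶ S} {H G : Over S} [GrpObj H] [GrpObj G]
variable {T T' : Type u} [CommRing T] [Algebra R T] [CommRing T'] [Algebra R T']

/-- The homomorphism on points of a homomorphism. -/
noncomputable def PtHom.ofHom (u : H ⟶ G) [IsMonHom u] (T : Type u) [CommRing T] [Algebra R T] : PtHom β H G T where
  app _ _ _ _ q := q ≫ u
  nat _ _ _ := (Category.assoc _ _ _).symm
  mul _ _ _ := MonObj.mul_comp _ _ _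

/-- Extension of scalars. -/
def PtHom.map (u : PtHom β H G T) (f : T →ₐ[R] T') : PtHom β H G T' where
  app B _ _ ρ q := u.app B (ρ.comp f) q
  nat g ρ q := u.nat g (ρ.comp f) q
  mul ρ q q' := u.mul (ρ.comp f) q q'

@[simp]
theorem PtHom.map_app (u : PtHom β H G T) (f : T →ₐ[R] T') {B : Type u} [CommRing B] [Algebra R B]
    (ρ : T' →ₐ[R] B) (q : sp β B ⟶ H) : (u.map f).app B ρ q = u.app B (ρ.comp f) q := rfl

theorem PtHom.map_map {T'' : Type u} [CommRing T''] [Algebra R T''] (u : PtHom β H G T) (f : T →ₐ[R] T')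
    (g : T' →ₐ[R] T'') : (u.map f).map g = u.map (g.comp f) := rfl

theorem PtHom.map_id (u : PtHom β H G T) : u.map (AlgHom.id R T) = u := rfl

theorem PtHom.one (u : PtHom β H G T) {B : Type u} [CommRing B] [Algebra R B] (ρ : T →ₐ[R] B) :
    u.app B ρ 1 = 1 := by
  have h := u.mul ρ 1 1
  rw [_root_.one_mul] at h
  exact left_eq_mul.mp h

variable {A : Type u} [CommRing A] [Algebra R A]

/-- The universal point over `T`. -/
noncomputable abbrev univ (x : sp β A ⟶ H) (T : Type u) [CommRing T] [Algebra R T] : sp β (T ⊗[R] A) ⟶ H :=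
  spm β (Algebra.TensorProduct.includeRight : A →ₐ[R] T ⊗[R] A) ≫ x

variable {x : sp β A ⟶ H}

theorem exists_pair (hx : IsUniv x) {B : Type u} [CommRing B] [Algebra R B] (ρ : T →ₐ[R] B) (q : sp β B ⟶ H) :
    ∃ Ψ : T ⊗[R] A →ₐ[R] B, Ψ.comp Algebra.TensorProduct.includeLeft = ρ ∧ spm β Ψ ≫ univ x T = q ∧
      ∀ a, Ψ (Algebra.TensorProduct.includeRight a) = (hx B q).exists.choose a := by
  obtain ⟨ψ, hψ⟩ : ∃ ψ, ψ = (hx B q).exists.choose := ⟨_, rfl⟩
  refine ⟨Algebra.TensorProduct.lift ρ ψ fun _ _ => Commute.all _ _, AlgHom.ext fun t => by simp, ?_, fun a => by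
    simp [hψ]⟩
  have h := (hx B q).exists.choose_spec
  rw [← hψ] at h
  rw [← Category.assoc, spm_comp, show (Algebra.TensorProduct.lift ρ ψ fun _ _ => Commute.all _ _).comp
    Algebra.TensorProduct.includeRight = ψ from AlgHom.ext fun a => by simp]
  exact h

theorem pair_ext (hx : IsUniv x) {B : Type u} [CommRing B] [Algebra R B] {Ψ Ψ' : T ⊗[R] A →ₐ[R] B}
    (h₁ : Ψ.comp Algebra.TensorProduct.includeLeft = Ψ'.comp Algebra.TensorProduct.includeLeft)
    (h₂ : spm β Ψ ≫ univ x T = spm β Ψ' ≫ univ x T) : Ψ = Ψ' := by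
  rw [← Category.assoc, spm_comp, ← Category.assoc, spm_comp] at h₂
  exact Algebra.TensorProduct.ext h₁ ((hx B _).unique h₂ rfl)

theorem PtHom.ext_univ (hx : IsUniv x) {u v : PtHom β H G T}
    (h : u.app _ Algebra.TensorProduct.includeLeft (univ x T) = v.app _ Algebra.TensorProduct.includeLeft (univ x T)) :
    u = v := by
  refine PtHom.ext ?_
  funext B _ _ ρ q
  obtain ⟨Ψ, h₁, h₂, -⟩ := exists_pair hx ρ q
  rw [← h₁, ← h₂, ← u.nat, ← v.nat, h]

/-- Conjugate by a point. -/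
def PtConj (u v : PtHom β H G T) (g : sp β T ⟶ G) : Prop :=
  ∀ (B : Type u) [CommRing B] [Algebra R B] (ρ : T →ₐ[R] B) (q : sp β B ⟶ H),
    v.app B ρ q = (spm β ρ ≫ g) * u.app B ρ q * (spm β ρ ≫ g)⁻¹

/-- Homomorphisms conjugate modulo an ideal of square zero are conjugate by a congruent point. -/
theorem exists_ptConj (hx : IsUniv x) {j : A →ₗ[R] R} (hj : IsInt x j) (L : Ideal T) (hL : L ^ 2 = ⊥)
    (u v : PtHom β H G T) (g' : sp β T ⟶ G)
    (h0 : PtConj (u.map (Ideal.Quotient.mkₐ R L)) (v.map (Ideal.Quotient.mkₐ R L))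
      (spm β (Ideal.Quotient.mkₐ R L) ≫ g')) :
    ∃ g : sp β T ⟶ G, spm β (Ideal.Quotient.mkₐ R L) ≫ g = spm β (Ideal.Quotient.mkₐ R L) ≫ g' ∧ PtConj u v g := by
  let AT := T ⊗[R] A
  let AA := AT ⊗[R] A
  let il : T →ₐ[R] AT := Algebra.TensorProduct.includeLeft
  let gA : sp β AT ⟶ G := spm β il ≫ g'
  let U := u.app AT il (univ x T)
  let V := v.app AT il (univ x T)
  let uu : sp β AT ⟶ G := gA * U * gA⁻¹
  let d : sp β AT ⟶ G := V * uu⁻¹
  have hd : spm β (Ideal.Quotient.mkₐ R (L.map (algebraMap T AT))) ≫ d = 1 := by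
    let LT : Ideal AT := L.map (algebraMap T AT)
    let ρ₀ : (T ⧸ L) →ₐ[R] (AT ⧸ LT) :=
      Ideal.Quotient.liftₐ L ((Ideal.Quotient.mkₐ R LT).comp il) fun z hz =>
        Ideal.Quotient.eq_zero_iff_mem.mpr (Ideal.mem_map_of_mem _ hz)
    have hρ : ρ₀.comp (Ideal.Quotient.mkₐ R L) = (Ideal.Quotient.mkₐ R LT).comp il := AlgHom.ext fun _ => rfl
    have h := h0 (AT ⧸ LT) ρ₀ (spm β (Ideal.Quotient.mkₐ R LT) ≫ univ x T)
    rw [PtHom.map_app, PtHom.map_app, ← Category.assoc (spm β ρ₀), spm_comp, hρ, ← u.nat, ← v.nat] at h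
    simp only [d, uu, U, V, gA, MonObj.comp_mul, GrpObj.comp_inv, ← Category.assoc, spm_comp] at h ⊢
    rw [h]
    exact mul_inv_cancel _
  let i₁ : AT →ₐ[R] AA := IsScalarTower.toAlgHom R AT AA
  let r : A →ₐ[R] AA := Algebra.TensorProduct.includeRight
  obtain ⟨φ, hφ, -⟩ := hx AA ((spm β i₁ ≫ univ x T) * (spm β r ≫ x))
  let i₂ : AT →ₐ[T] AA :=
    Algebra.TensorProduct.lift (Algebra.ofId T AA) r fun _ _ => Commute.all _ _
  let Δ : AT →ₐ[T] AA :=
    Algebra.TensorProduct.lift (Algebra.ofId T AA) φ fun _ _ => Commute.all _ _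
  have hi₂ : spm β (i₂.restrictScalars R) ≫ univ x T = spm β r ≫ x := by
    rw [← Category.assoc, spm_comp]
    congr 2
    exact AlgHom.ext fun z => by simp [i₂, r, AT, AA]
  have hΔ : spm β (Δ.restrictScalars R) ≫ univ x T = (spm β i₁ ≫ univ x T) * (spm β r ≫ x) := by
    rw [← hφ, ← Category.assoc, spm_comp]
    congr 2
    exact AlgHom.ext fun z => by simp [Δ, AT, AA]
  have hint : ∀ z, jExt j AT (φ z) = algebraMap R AT (j z) := hj.left AT (univ x T) φ hφ
  let ρA : T →ₐ[R] AA := IsScalarTower.toAlgHom R T AA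
  obtain ⟨c, hc₁, hc₂⟩ := exists_avg (β := β) L hL i₂ Δ (jExt j T)
    (by rw [Algebra.TensorProduct.one_def, jExt_tmul, hj.one, map_one, _root_.mul_one])
    (jExt j AT) (by rw [Algebra.TensorProduct.one_def, jExt_tmul, hj.one, map_one, _root_.mul_one])
    (fun a => by
      induction a using TensorProduct.induction_on with
      | zero => simp
      | add a b ha hb => simp [map_add, ha, hb]
      | tmul t z =>
        rw [Algebra.TensorProduct.lift_tmul, jExt_tmul]
        show jExt j AT (algebraMap T AA t * φ z) = _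
        rw [← Algebra.smul_def, LinearMap.map_smul_of_tower, hint, map_mul, Algebra.smul_def,
          ← IsScalarTower.algebraMap_apply])
    (fun a => by
      induction a using TensorProduct.induction_on with
      | zero => simp
      | add a b ha hb => simp [map_add, ha, hb]
      | tmul t z =>
        rw [Algebra.TensorProduct.lift_tmul, jExt_tmul]
        show jExt j AT (algebraMap T AA t * (1 ⊗ₜ z)) = _
        rw [← Algebra.smul_def, LinearMap.map_smul_of_tower, jExt_tmul, _root_.one_mul, map_mul, Algebra.smul_def,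
          ← IsScalarTower.algebraMap_apply])
    d uu hd (by
      have hρ : ∀ g₁ : AT →ₐ[T] AA, (g₁.restrictScalars R).comp il = ρA := fun g₁ => AlgHom.ext g₁.commutes
      have hρ₁ : i₁.comp il = ρA := hρ (IsScalarTower.toAlgHom T AT AA)
      have hg : ∀ g₁ : AT →ₐ[T] AA, spm β (g₁.restrictScalars R) ≫ gA = spm β ρA ≫ g' := by
        intro g₁
        simp only [gA, ← Category.assoc, spm_comp, hρ]
      have hg₁ : spm β (IsScalarTower.toAlgHom R AT AA) ≫ gA = spm β ρA ≫ g' :=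
        hg (IsScalarTower.toAlgHom T AT AA)
      simp only [d, uu, U, V, MonObj.comp_mul, GrpObj.comp_inv, hg, hg₁, u.nat, v.nat, hρ, hΔ, hi₂]
      rw [hρ₁, u.mul, v.mul]
      simp only [i₁, r]
      group)
  refine ⟨c * g', by rw [MonObj.comp_mul, hc₁, _root_.one_mul], fun B _ _ ρ q => ?_⟩
  obtain ⟨Ψ, h₁, h₂, -⟩ := exists_pair hx ρ q
  have hv : V = (spm β (IsScalarTower.toAlgHom R T AT) ≫ c) * uu *
      (spm β (IsScalarTower.toAlgHom R T AT) ≫ c)⁻¹ := by
    have := hc₂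
    simp only [d] at this
    exact mul_right_cancel this
  have hΨT : spm β Ψ ≫ spm β (IsScalarTower.toAlgHom R T AT) ≫ c = spm β ρ ≫ c := by
    rw [← Category.assoc, spm_comp, show Ψ.comp (IsScalarTower.toAlgHom R T AT) = ρ from h₁]
  have hΨg : spm β Ψ ≫ gA = spm β ρ ≫ g' := by
    rw [← Category.assoc, spm_comp, show Ψ.comp il = ρ from h₁]
  have hU : spm β Ψ ≫ U = u.app B ρ q := by
    show spm β Ψ ≫ u.app (T ⊗[R] A) il (univ x T) = _
    rw [u.nat, h₂]
    exact congrArg (fun z => u.app B z q) h₁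
  have hV : spm β Ψ ≫ V = v.app B ρ q := by
    show spm β Ψ ≫ v.app (T ⊗[R] A) il (univ x T) = _
    rw [v.nat, h₂]
    exact congrArg (fun z => v.app B z q) h₁
  have h := congrArg (spm β Ψ ≫ ·) hv
  simp only [uu, MonObj.comp_mul, GrpObj.comp_inv, hU, hV, hΨT, hΨg] at h
  rw [h, MonObj.comp_mul]
  group

theorem exists_ptConj_lift (hx : IsUniv x) {j : A →ₗ[R] R} (hj : IsInt x j)
    (hG : MoreMor.IsFormallySmoothHom G.hom) (L : Ideal T) (hL : L ^ 2 = ⊥) (u v : PtHom β H G T)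
    (g₀ : sp β (T ⧸ L) ⟶ G) (h0 : PtConj (u.map (Ideal.Quotient.mkₐ R L)) (v.map (Ideal.Quotient.mkₐ R L)) g₀) :
    ∃ g : sp β T ⟶ G, spm β (Ideal.Quotient.mkₐ R L) ≫ g = g₀ ∧ PtConj u v g := by
  obtain ⟨l, hl₁, hl₂⟩ := hG T L hL g₀.left (Spec.map (CommRingCat.ofHom (algebraMap R T)) ≫ β) (by
    rw [Over.w g₀, ← Category.assoc, ← Spec.map_comp]
    rfl)
  let g' : sp β T ⟶ G := Over.homMk l hl₂
  have hg' : spm β (Ideal.Quotient.mkₐ R L) ≫ g' = g₀ := Over.OverMorphism.ext hl₁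
  rw [← hg'] at h0 ⊢
  exact exists_ptConj hx hj L hL u v g' h0

/-- Homomorphisms to a commutative group which agree modulo a nilpotent ideal are equal. -/
theorem ptHom_eq_of_nilpotent (hx : IsUniv x) {j : A →ₗ[R] R} (hj : IsInt x j)
    (hcomm : ∀ (Y : Over S) (a b : Y ⟶ G), a * b = b * a) (L : Ideal T) (hL : IsNilpotent L)
    (u v : PtHom β H G T) (h0 : u.map (Ideal.Quotient.mkₐ R L) = v.map (Ideal.Quotient.mkₐ R L)) : u = v := by
  revert u v
  revert ‹Algebra R T›
  apply Ideal.IsNilpotent.induction_on (S := T) L hL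
  · intro T _ I hI _ u v h0
    obtain ⟨g, -, hg⟩ := exists_ptConj hx hj I hI u v 1 fun B _ _ ρ q => by
      rw [h0, MonObj.comp_one, MonObj.comp_one, _root_.one_mul, inv_one, _root_.mul_one]
    refine PtHom.ext ?_
    funext B _ _ ρ q
    rw [hg B ρ q, hcomm _ (spm β ρ ≫ g), mul_inv_cancel_right]
  · intro T _ I J hIJ h₁ h₂ _ u v h0
    refine h₁ u v (h₂ _ _ ?_)
    let e : (T ⧸ J) →ₐ[R] ((T ⧸ I) ⧸ J.map (Ideal.Quotient.mk I)) :=
      Ideal.Quotient.liftₐ J ((Ideal.Quotient.mkₐ R _).comp (Ideal.Quotient.mkₐ R I)) fun z hz =>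
        Ideal.Quotient.eq_zero_iff_mem.mpr (Ideal.mem_map_of_mem _ hz)
    have h := congrArg (fun w => PtHom.map w e) h0
    simpa only [PtHom.map_map, e, Ideal.Quotient.liftₐ_comp] using h

theorem exists_ptConj_nilpotent (hx : IsUniv x) {j : A →ₗ[R] R} (hj : IsInt x j)
    (hG : MoreMor.IsFormallySmoothHom G.hom) (L : Ideal T) (hL : IsNilpotent L) (u v : PtHom β H G T)
    (g₀ : sp β (T ⧸ L) ⟶ G) (h0 : PtConj (u.map (Ideal.Quotient.mkₐ R L)) (v.map (Ideal.Quotient.mkₐ R L)) g₀) :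
    ∃ g : sp β T ⟶ G, spm β (Ideal.Quotient.mkₐ R L) ≫ g = g₀ ∧ PtConj u v g := by
  revert u v g₀
  revert ‹Algebra R T›
  apply Ideal.IsNilpotent.induction_on (S := T) L hL
  · intro T _ I hI _ u v g₀ h0
    exact exists_ptConj_lift hx hj hG I hI u v g₀ h0
  · intro T _ I J hIJ h₁ h₂ _ u v g₀ h0
    let e : ((T ⧸ I) ⧸ J.map (Ideal.Quotient.mk I)) ≃ₐ[R] T ⧸ J :=
      { (DoubleQuot.quotQuotEquivQuotSup I J).trans (Ideal.quotEquivOfEq (sup_eq_right.mpr hIJ)) with
        commutes' := fun x => rfl }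
    obtain ⟨g', hg', hgc'⟩ := h₂ (u.map (Ideal.Quotient.mkₐ R I)) (v.map (Ideal.Quotient.mkₐ R I))
      (spm β e.symm.toAlgHom ≫ g₀) fun B _ _ ρ q => by
        have h := h0 B (ρ.comp e.symm.toAlgHom) q
        rw [← spm_comp e.symm.toAlgHom ρ, Category.assoc] at h
        exact h
    obtain ⟨g, hg, hgc⟩ := h₁ u v g' hgc'
    refine ⟨g, ?_, hgc⟩
    subst hg
    have h := congrArg (spm β e.toAlgHom ≫ ·) hg'
    simp only [← Category.assoc, spm_comp] at h
    rw [show e.toAlgHom.comp e.symm.toAlgHom = AlgHom.id R (T ⧸ J) from e.comp_symm, spm_id, Category.id_comp] at h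
    exact h

end Groth.Agent.MultConjLib
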