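import Groth.Agent.MultConjLib.Hom

/-!
# Lifting homomorphisms to a smooth group
-/

universe u

open CategoryTheory CategoryTheory.Limits MonoidalCategory CartesianMonoidalCategory MonObj GrpObj AlgebraicGeometry
open TensorProduct

namespace Groth.Agent.MultConjLib

open GrpSchLib.DiagActionRigid (sp spm spm_comp spm_id spm_left)

set_option backward.isDefEq.respectTransparency false

variable {S : Scheme.{u}} {R : Type u} [CommRing R] {β : Spec (CommRingCat.of R) ⟶ S}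

/-- Functoriality of pairs congruent modulo an ideal. -/
def extPush {A₁ B₁ A₂ B₂ : Type u} [CommRing A₁] [Algebra R A₁] [CommRing B₁] [Algebra R B₁] [Algebra A₁ B₁]
    [IsScalarTower R A₁ B₁] [CommRing A₂] [Algebra R A₂] [CommRing B₂] [Algebra R B₂] [Algebra A₂ B₂]
    [IsScalarTower R A₂ B₂] (L₁ : Ideal A₁) (L₂ : Ideal A₂) (h : A₁ →ₐ[R] A₂) (g : B₁ →ₐ[R] B₂)
    (hgh : ∀ a, g (algebraMap A₁ B₁ a) = algebraMap A₂ B₂ (h a)) (hL : L₁.map h.toRingHom ≤ L₂) :
    Ext L₁ B₁ (R := R) →ₐ[R] Ext L₂ B₂ (R := R) :=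
  ((h.comp (extFst L₁ B₁)).prod (g.comp (extSnd L₁ B₁))).codRestrict _ fun z => by
    show g z.1.2 - algebraMap A₂ B₂ (h z.1.1) ∈ L₂.map (algebraMap A₂ B₂)
    rw [← hgh, ← map_sub]
    have hz : z.1.2 - algebraMap A₁ B₁ z.1.1 ∈ L₁.map (algebraMap A₁ B₁) := z.2
    have h' := Ideal.mem_map_of_mem g.toRingHom hz
    rw [Ideal.map_map, show g.toRingHom.comp (algebraMap A₁ B₁) = (algebraMap A₂ B₂).comp h.toRingHom from
      RingHom.ext hgh, ← Ideal.map_map] at h'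
    exact Ideal.map_mono hL h'

theorem lift_includeRight {A₁ B₁ C : Type u} [CommRing A₁] [Algebra R A₁] [CommRing B₁] [Algebra R B₁] [CommRing C]
    [Algebra R C] (f : A₁ →ₐ[R] C) (g : B₁ →ₐ[R] C) (h : ∀ a b, Commute (f a) (g b)) (b : B₁) :
    Algebra.TensorProduct.lift f g h (Algebra.TensorProduct.includeRight b) = g b := by
  simp

variable {H G : Over S} [GrpObj H] [GrpObj G] {A : Type u} [CommRing A] [Algebra R A] {x : sp β A ⟶ H}
  {T : Type u} [CommRing T] [Algebra R T]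

/-- A point on the universal family which is multiplicative gives a homomorphism on points. -/
noncomputable def PtHom.ofPoint (hx : IsUniv x) (y : sp β (T ⊗[R] A) ⟶ G)
    (hy : ∀ (B : Type u) [CommRing B] [Algebra R B] (Ψ₁ Ψ₂ Ψ₃ : T ⊗[R] A →ₐ[R] B),
      Ψ₁.comp Algebra.TensorProduct.includeLeft = Ψ₃.comp Algebra.TensorProduct.includeLeft →
      Ψ₂.comp Algebra.TensorProduct.includeLeft = Ψ₃.comp Algebra.TensorProduct.includeLeft →
      spm β Ψ₃ ≫ univ x T = (spm β Ψ₁ ≫ univ x T) * (spm β Ψ₂ ≫ univ x T) →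
      spm β Ψ₃ ≫ y = (spm β Ψ₁ ≫ y) * (spm β Ψ₂ ≫ y)) :
    PtHom β H G T where
  app _ _ _ ρ q := spm β (exists_pair hx ρ q).choose ≫ y
  nat f ρ q := by
    rw [← Category.assoc, spm_comp]
    congr 2
    refine pair_ext hx ?_ ?_
    · rw [AlgHom.comp_assoc, (exists_pair hx ρ q).choose_spec.1, (exists_pair hx _ _).choose_spec.1]
    · rw [← spm_comp, Category.assoc, (exists_pair hx ρ q).choose_spec.2.1, (exists_pair hx _ _).choose_spec.2.1]
  mul {B} _ _ ρ q q' := hy B _ _ _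
    ((exists_pair hx ρ q).choose_spec.1.trans (exists_pair hx ρ (q * q')).choose_spec.1.symm)
    ((exists_pair hx ρ q').choose_spec.1.trans (exists_pair hx ρ (q * q')).choose_spec.1.symm)
    (by rw [(exists_pair hx ρ q).choose_spec.2.1, (exists_pair hx ρ q').choose_spec.2.1,
      (exists_pair hx ρ (q * q')).choose_spec.2.1])

theorem PtHom.ofPoint_app (hx : IsUniv x) (y : sp β (T ⊗[R] A) ⟶ G) hy {B : Type u} [CommRing B] [Algebra R B]
    (ρ : T →ₐ[R] B) (q : sp β B ⟶ H) (Ψ : T ⊗[R] A →ₐ[R] B) (h₁ : Ψ.comp Algebra.TensorProduct.includeLeft = ρ)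
    (h₂ : spm β Ψ ≫ univ x T = q) : (PtHom.ofPoint hx y hy).app B ρ q = spm β Ψ ≫ y := by
  show spm β (exists_pair hx ρ q).choose ≫ y = _
  rw [pair_ext hx (Ψ := (exists_pair hx ρ q).choose) (Ψ' := Ψ) ((exists_pair hx ρ q).choose_spec.1.trans h₁.symm)
    ((exists_pair hx ρ q).choose_spec.2.1.trans h₂.symm)]

/-- The averaging lemma for lifts of homomorphisms. -/
theorem exists_hom_lift (hx : IsUniv x) {j : A →ₗ[R] R} (hj : IsInt x j)
    (hG : MoreMor.IsFormallySmoothHom G.hom) (L : Ideal T) (hL : L ^ 2 = ⊥) (u₀ : PtHom β H G (T ⧸ L)) :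
    ∃ u : PtHom β H G T, u.map (Ideal.Quotient.mkₐ R L) = u₀ := by
  let AT := T ⊗[R] A
  let AA := AT ⊗[R] A
  letI iAA : CommRing AA := inferInstanceAs (CommRing (AT ⊗[R] A))
  let AAA := AA ⊗[R] A
  letI iAAA : CommRing AAA := inferInstanceAs (CommRing (AA ⊗[R] A))
  let xT : sp β AT ⟶ H := univ x T
  let il : T →ₐ[R] AT := Algebra.TensorProduct.includeLeft
  let LT : Ideal AT := L.map (algebraMap T AT)
  have hLT : LT ^ 2 = ⊥ := by rw [← Ideal.map_pow, hL, Ideal.map_bot]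
  let ρ₀ : (T ⧸ L) →ₐ[R] (AT ⧸ LT) :=
    Ideal.Quotient.liftₐ L ((Ideal.Quotient.mkₐ R LT).comp il) fun z hz =>
      Ideal.Quotient.eq_zero_iff_mem.mpr (Ideal.mem_map_of_mem _ hz)
  let y₀ : sp β (AT ⧸ LT) ⟶ G := u₀.app _ ρ₀ (spm β (Ideal.Quotient.mkₐ R LT) ≫ xT)
  obtain ⟨l, hl₁, hl₂⟩ := hG AT LT hLT y₀.left (Spec.map (CommRingCat.ofHom (algebraMap R AT)) ≫ β) (by
    rw [Over.w y₀, ← Category.assoc, ← Spec.map_comp]
    rfl)
  let y : sp β AT ⟶ G := Over.homMk l hl₂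
  have hy : spm β (Ideal.Quotient.mkₐ R LT) ≫ y = y₀ := Over.OverMorphism.ext hl₁
  -- the values of `y` where `L` vanishes
  have hred : ∀ (B : Type u) [CommRing B] [Algebra R B] (Ψ : AT →ₐ[R] B) (ρ : (T ⧸ L) →ₐ[R] B),
      ρ.comp (Ideal.Quotient.mkₐ R L) = Ψ.comp il → spm β Ψ ≫ y = u₀.app B ρ (spm β Ψ ≫ xT) := by
    intro B _ _ Ψ ρ hρ
    have hle : ∀ z ∈ LT, Ψ z = 0 := by
      intro z hz
      have : LT ≤ RingHom.ker Ψ.toRingHom := Ideal.map_le_iff_le_comap.mpr fun w hw => by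
        show (Ψ.comp il) w = 0
        rw [← hρ, AlgHom.comp_apply, Ideal.Quotient.mkₐ_eq_mk, Ideal.Quotient.eq_zero_iff_mem.mpr hw, map_zero]
      exact this hz
    let Ψ' : (AT ⧸ LT) →ₐ[R] B := Ideal.Quotient.liftₐ LT Ψ hle
    have hΨ : Ψ'.comp (Ideal.Quotient.mkₐ R LT) = Ψ := Ideal.Quotient.liftₐ_comp _ _ _
    have hρ' : Ψ'.comp ρ₀ = ρ := Ideal.Quotient.algHom_ext _ (by rw [hρ]; exact AlgHom.ext fun _ => rfl)
    rw [← hΨ, ← spm_comp, Category.assoc, hy, u₀.nat, hρ', ← Category.assoc]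
  let i₁ : AT →ₐ[R] AA := IsScalarTower.toAlgHom R AT AA
  let r : A →ₐ[R] AA := Algebra.TensorProduct.includeRight
  let ι₁₂ : AA →ₐ[R] AAA := IsScalarTower.toAlgHom R AA AAA
  let r₃ : A →ₐ[R] AAA := Algebra.TensorProduct.includeRight
  obtain ⟨φ, hφ, -⟩ := hx AA ((spm β i₁ ≫ xT) * (spm β r ≫ x))
  let i₂ : AT →ₐ[R] AA := Algebra.TensorProduct.lift (i₁.comp il) r fun _ _ => Commute.all _ _
  let Δ : AT →ₐ[R] AA := Algebra.TensorProduct.lift (i₁.comp il) φ fun _ _ => Commute.all _ _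
  have hi₂x : spm β i₂ ≫ xT = spm β r ≫ x := by
    rw [← Category.assoc, spm_comp]
    congr 2
    exact AlgHom.ext fun z => by simp [i₂, r, AT, AA, Algebra.TensorProduct.one_def]
  have hΔx : spm β Δ ≫ xT = (spm β i₁ ≫ xT) * (spm β r ≫ x) := by
    rw [← hφ, ← Category.assoc, spm_comp]
    congr 2
    exact AlgHom.ext fun z => by simp [Δ, AT, AA, Algebra.TensorProduct.one_def]
  have hi₂l : i₂.comp il = i₁.comp il := Algebra.TensorProduct.lift_comp_includeLeft _ _ _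
  have hΔl : Δ.comp il = i₁.comp il := Algebra.TensorProduct.lift_comp_includeLeft _ _ _
  let i₂₃ : AT →ₐ[R] AAA := Algebra.TensorProduct.lift ((ι₁₂.comp i₁).comp il) r₃ fun _ _ => Commute.all _ _
  have hi₃x : spm β i₂₃ ≫ xT = spm β r₃ ≫ x := by
    rw [← Category.assoc, spm_comp]
    congr 2
    exact AlgHom.ext fun z => by simp [i₂₃, r₃, AT, AA, AAA, Algebra.TensorProduct.one_def]
  obtain ⟨φ', hφ', -⟩ := hx AAA ((spm β ι₁₂ ≫ spm β i₂ ≫ xT) * (spm β r₃ ≫ x))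
  let P₂₃ : AT →ₐ[R] AAA := Algebra.TensorProduct.lift ((ι₁₂.comp i₁).comp il) φ' fun _ _ => Commute.all _ _
  have hP₂₃x : spm β P₂₃ ≫ xT = (spm β ι₁₂ ≫ spm β i₂ ≫ xT) * (spm β r₃ ≫ x) := by
    rw [← hφ', ← Category.assoc, spm_comp]
    congr 2
    exact AlgHom.ext fun z => by simp [P₂₃, AT, AA, AAA, Algebra.TensorProduct.one_def]
  -- the four substitutions
  let ga : AA →ₐ[R] AAA := Algebra.TensorProduct.lift (ι₁₂.comp Δ) r₃ fun _ _ => Commute.all _ _
  let gc : AA →ₐ[R] AAA := Algebra.TensorProduct.lift (ι₁₂.comp i₁) φ' fun _ _ => Commute.all _ _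
  let gd : AA →ₐ[R] AAA := Algebra.TensorProduct.lift (ι₁₂.comp i₂) r₃ fun _ _ => Commute.all _ _
  -- the defect
  let d₂ : sp β AA ⟶ G := (spm β Δ ≫ y) * (spm β i₂ ≫ y)⁻¹ * (spm β i₁ ≫ y)⁻¹
  let LA : Ideal AA := LT.map (algebraMap AT AA)
  have hLA : LA ^ 2 = ⊥ := by rw [← Ideal.map_pow, hLT, Ideal.map_bot]
  have hd : spm β (Ideal.Quotient.mkₐ R LA) ≫ d₂ = 1 := by
    let π := Ideal.Quotient.mkₐ R LA
    let ρπ : (T ⧸ L) →ₐ[R] (AA ⧸ LA) := Ideal.Quotient.liftₐ L ((π.comp i₁).comp il) fun z hz =>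
      Ideal.Quotient.eq_zero_iff_mem.mpr (Ideal.mem_map_of_mem _ (Ideal.mem_map_of_mem _ hz))
    have hρπ : ρπ.comp (Ideal.Quotient.mkₐ R L) = (π.comp i₁).comp il := Ideal.Quotient.liftₐ_comp _ _ _
    have k₁ : spm β π ≫ spm β i₁ ≫ y = u₀.app _ ρπ (spm β π ≫ spm β i₁ ≫ xT) := by
      rw [← Category.assoc, spm_comp, hred _ (π.comp i₁) ρπ hρπ, ← spm_comp, Category.assoc]
    have k₂ : spm β π ≫ spm β i₂ ≫ y = u₀.app _ ρπ (spm β π ≫ spm β r ≫ x) := by
      rw [← hi₂x, ← Category.assoc, spm_comp,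
        hred _ (π.comp i₂) ρπ (by rw [hρπ, AlgHom.comp_assoc, AlgHom.comp_assoc, hi₂l]), ← spm_comp, Category.assoc]
    have k₃ : spm β π ≫ spm β Δ ≫ y = u₀.app _ ρπ ((spm β π ≫ spm β i₁ ≫ xT) * (spm β π ≫ spm β r ≫ x)) := by
      rw [← MonObj.comp_mul, ← hΔx, ← Category.assoc, spm_comp,
        hred _ (π.comp Δ) ρπ (by rw [hρπ, AlgHom.comp_assoc, AlgHom.comp_assoc, hΔl]), ← spm_comp, Category.assoc]
    simp only [d₂, MonObj.comp_mul, GrpObj.comp_inv]
    rw [k₁, k₂, k₃, u₀.mul]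
    group
  obtain ⟨z₂, hz₁, hz₂⟩ := exists_ext_one LT d₂ hd
  let J₁ : AA →ₗ[AT] AT := jExt j AT
  let J₂ : AAA →ₗ[AA] AA := jExt j AA
  have hJ₁ : J₁ 1 = 1 := by
    show jExt j AT 1 = 1
    rw [Algebra.TensorProduct.one_def, jExt_tmul, hj.one, map_one, _root_.mul_one]
  have hJ₂ : J₂ 1 = 1 := by
    show jExt j AA 1 = 1
    rw [Algebra.TensorProduct.one_def, jExt_tmul, hj.one, map_one, _root_.mul_one]
  have hgen : ∀ (h : AT →ₐ[R] AA) (s : A →ₐ[R] AAA), (∀ a, J₂ (s a) = algebraMap R AA (j a)) →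
      ∀ w, J₂ (Algebra.TensorProduct.lift (ι₁₂.comp h) s (fun a b => Commute.all _ _) w) = h (J₁ w) := by
    intro h s hs w
    induction w using TensorProduct.induction_on with
    | zero => simp
    | add a b ha hb => simp [map_add, ha, hb]
    | tmul t a =>
      rw [Algebra.TensorProduct.lift_tmul]
      show J₂ (algebraMap AA AAA (h t) * s a) = h (jExt j AT (t ⊗ₜ a))
      rw [← Algebra.smul_def, map_smul, hs, jExt_tmul, map_mul, h.commutes, smul_eq_mul]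
  have hr₃ : ∀ a, J₂ (r₃ a) = algebraMap R AA (j a) := fun a => by
    show jExt j AA (1 ⊗ₜ a) = _
    rw [jExt_tmul, _root_.one_mul]
  have hJφ' : ∀ a, J₂ (φ' a) = algebraMap R AA (j a) := hj.left AA (spm β i₂ ≫ xT) φ' hφ'
  have hle : ∀ h : AT →ₐ[R] AA, h.comp il = i₁.comp il → LT.map h.toRingHom ≤ LA := fun h hh => by
    show (L.map (algebraMap T AT)).map h.toRingHom ≤ (L.map (algebraMap T AT)).map (algebraMap AT AA)
    rw [Ideal.map_map, Ideal.map_map,
      show h.toRingHom.comp (algebraMap T AT) = (algebraMap AT AA).comp (algebraMap T AT) from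
        RingHom.ext fun z => AlgHom.congr_fun hh z]
  have hga : ∀ a, ga (algebraMap AT AA a) = algebraMap AA AAA (Δ a) := fun a => by
    show ga (a ⊗ₜ[R] (1 : A)) = _
    rw [Algebra.TensorProduct.lift_tmul, map_one, _root_.mul_one]
    rfl
  have hgc : ∀ a, gc (algebraMap AT AA a) = algebraMap AA AAA (i₁ a) := fun a => by
    show gc (a ⊗ₜ[R] (1 : A)) = _
    rw [Algebra.TensorProduct.lift_tmul, map_one, _root_.mul_one]
    rfl
  have hgd : ∀ a, gd (algebraMap AT AA a) = algebraMap AA AAA (i₂ a) := fun a => by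
    show gd (a ⊗ₜ[R] (1 : A)) = _
    rw [Algebra.TensorProduct.lift_tmul, map_one, _root_.mul_one]
    rfl
  let pa := extPush LT LA Δ ga hga (hle Δ hΔl)
  let pb := extPush LT LA i₁ ι₁₂ (fun _ => rfl) (hle i₁ rfl)
  let pc := extPush LT LA i₁ gc hgc (hle i₁ rfl)
  let pd := extPush LT LA i₂ gd hgd (hle i₂ hi₂l)
  let sec : AA →ₐ[R] Ext LA AAA (R := R) :=
    ((AlgHom.id R AA).prod ι₁₂).codRestrict _ fun a => by
      show algebraMap AA AAA a - algebraMap AA AAA a ∈ LA.map (algebraMap AA AAA)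
      rw [sub_self]; exact zero_mem _
  let F₁ : sp β (Ext LA AAA (R := R)) ⟶ G := spm β sec ≫ spm β i₁ ≫ y
  have hmain : (spm β pa ≫ z₂) * (spm β pb ≫ z₂) = (spm β pc ≫ z₂) * (F₁ * (spm β pd ≫ z₂) * F₁⁻¹) := by
    apply ext_hom_ext LA
    · have hs : ∀ (h : AT →ₐ[R] AA) (g : AA →ₐ[R] AAA) hgh hle', spm β (extSnd LA AAA) ≫ spm β (extPush LT LA h g
          hgh hle') ≫ z₂ = spm β g ≫ d₂ := by
        intro h g hgh hle'
        rw [← hz₁, ← Category.assoc, ← Category.assoc, spm_comp, spm_comp]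
        rfl
      have hsec : ∀ w : sp β AA ⟶ G, spm β (extSnd LA AAA) ≫ spm β sec ≫ w = spm β ι₁₂ ≫ w := fun w => by
        rw [← Category.assoc, spm_comp]
        rfl
      simp only [MonObj.comp_mul, GrpObj.comp_inv, F₁, pa, pb, pc, pd, hs, hsec]
      have e : ∀ {g : AA →ₐ[R] AAA} {h h' : AT →ₐ[R] AA} {P : AT →ₐ[R] AAA}, g.comp h = P →
          spm β g ≫ spm β h ≫ y = spm β P ≫ y := by
        intro g h h' P he
        rw [← Category.assoc, spm_comp, he]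
      have ea₁ : ga.comp i₁ = ι₁₂.comp Δ := AlgHom.ext hga
      have ec₁ : gc.comp i₁ = ι₁₂.comp i₁ := AlgHom.ext hgc
      have ed₁ : gd.comp i₁ = ι₁₂.comp i₂ := AlgHom.ext hgd
      have ea₂ : ga.comp i₂ = i₂₃ := pair_ext hx
        (by rw [AlgHom.comp_assoc, hi₂l, ← AlgHom.comp_assoc, ea₁, AlgHom.comp_assoc, hΔl, ← AlgHom.comp_assoc,
          Algebra.TensorProduct.lift_comp_includeLeft])
        (by rw [← spm_comp, Category.assoc, hi₂x, hi₃x, ← Category.assoc, spm_comp]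
            congr 2
            exact AlgHom.ext fun a => lift_includeRight _ _ (fun _ _ => Commute.all _ _) a)
      have ec₂ : gc.comp i₂ = P₂₃ := pair_ext hx
        (by rw [AlgHom.comp_assoc, hi₂l, ← AlgHom.comp_assoc, ec₁, Algebra.TensorProduct.lift_comp_includeLeft])
        (by rw [← spm_comp, Category.assoc, hi₂x, hP₂₃x, ← hφ', ← Category.assoc, spm_comp]
            congr 2
            exact AlgHom.ext fun a => lift_includeRight _ _ (fun _ _ => Commute.all _ _) a)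
      have ed₂ : gd.comp i₂ = i₂₃ := pair_ext hx
        (by rw [AlgHom.comp_assoc, hi₂l, ← AlgHom.comp_assoc, ed₁, AlgHom.comp_assoc, hi₂l, ← AlgHom.comp_assoc,
          Algebra.TensorProduct.lift_comp_includeLeft])
        (by rw [← spm_comp, Category.assoc, hi₂x, hi₃x, ← Category.assoc, spm_comp]
            congr 2
            exact AlgHom.ext fun a => lift_includeRight _ _ (fun _ _ => Commute.all _ _) a)
      have hgr : ∀ (g : AA →ₐ[R] AAA) (s : A →ₐ[R] AAA), g.comp r = s → spm β g ≫ spm β r ≫ x = spm β s ≫ x :=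
        fun g s he => by rw [← Category.assoc, spm_comp, he]
      have ea₃ : ga.comp Δ = gc.comp Δ := pair_ext hx
        (by rw [AlgHom.comp_assoc, hΔl, ← AlgHom.comp_assoc, ea₁, AlgHom.comp_assoc, hΔl, AlgHom.comp_assoc, hΔl,
          ← AlgHom.comp_assoc, ← AlgHom.comp_assoc, ec₁])
        (by rw [← spm_comp, ← spm_comp, Category.assoc, Category.assoc, hΔx, MonObj.comp_mul, MonObj.comp_mul,
              ← Category.assoc (spm β ga) (spm β i₁), spm_comp, ea₁, ← spm_comp, Category.assoc, hΔx,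
              MonObj.comp_mul, ← Category.assoc (spm β gc) (spm β i₁), spm_comp, ec₁, ← spm_comp, Category.assoc,
              hgr ga r₃ (AlgHom.ext fun a => lift_includeRight _ _ (fun _ _ => Commute.all _ _) a),
              hgr gc φ' (AlgHom.ext fun a => lift_includeRight _ _ (fun _ _ => Commute.all _ _) a), hφ', hi₂x, _root_.mul_assoc])
      have ed₃ : gd.comp Δ = P₂₃ := pair_ext hx
        (by rw [AlgHom.comp_assoc, hΔl, ← AlgHom.comp_assoc, ed₁, AlgHom.comp_assoc, hi₂l, ← AlgHom.comp_assoc,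
          Algebra.TensorProduct.lift_comp_includeLeft])
        (by rw [← spm_comp, Category.assoc, hΔx, MonObj.comp_mul, ← Category.assoc (spm β gd) (spm β i₁), spm_comp,
              ed₁, ← spm_comp, Category.assoc, hgr gd r₃ (AlgHom.ext fun a => lift_includeRight _ _ (fun _ _ => Commute.all _ _) a), hP₂₃x])
      simp only [d₂, MonObj.comp_mul, GrpObj.comp_inv, ← Category.assoc, spm_comp, ea₁, ea₂, ea₃, ec₁, ec₂, ed₁,
        ed₂, ed₃]
      group
    · have hf : ∀ (h : AT →ₐ[R] AA) (g : AA →ₐ[R] AAA) hgh hle', spm β (extFst LA AAA) ≫ spm β (extPush LT LA h g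
          hgh hle') ≫ z₂ = 1 := by
        intro h g hgh hle'
        rw [← Category.assoc, spm_comp,
          show (extFst (R := R) LA AAA).comp (extPush LT LA h g hgh hle') = h.comp (extFst LT AA) from rfl,
          ← spm_comp, Category.assoc, hz₂, MonObj.comp_one]
      have hsec : ∀ w : sp β AA ⟶ G, spm β (extFst LA AAA) ≫ spm β sec ≫ w = w := fun w => by
        rw [← Category.assoc, spm_comp, show (extFst (R := R) LA AAA).comp sec = AlgHom.id R AA from rfl, spm_id,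
          Category.id_comp]
      simp only [MonObj.comp_mul, GrpObj.comp_inv, F₁, pa, pb, pc, pd, hf, hsec, _root_.one_mul, _root_.mul_one,
        mul_inv_cancel]
  let τ : Ext LT AA (R := R) →ₐ[R] AT := (extSnd LT AT).comp (extMap LT hLT J₁ hJ₁)
  let σ : Ext LA AAA (R := R) →ₐ[R] AA := (extSnd LA AA).comp (extMap LA hLA J₂ hJ₂)
  let e : sp β AT ⟶ G := spm β τ ≫ z₂
  have hsa : σ.comp pa = Δ.comp τ := AlgHom.ext fun z => hgen Δ r₃ hr₃ z.1.2
  have hsc : σ.comp pc = i₁.comp τ := AlgHom.ext fun z => hgen i₁ φ' hJφ' z.1.2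
  have hsd : σ.comp pd = i₂.comp τ := AlgHom.ext fun z => hgen i₂ r₃ hr₃ z.1.2
  have hid : ∀ w, J₂ (ι₁₂ w) = w := fun w => by
    show J₂ (algebraMap AA AAA w) = w
    rw [Algebra.algebraMap_eq_smul_one, map_smul, hJ₂, smul_eq_mul, _root_.mul_one]
  have hsb : σ.comp pb = extSnd LT AA := AlgHom.ext fun z => hid z.1.2
  have hssec : σ.comp sec = AlgHom.id R AA := AlgHom.ext fun w => hid w
  have hcoc := congrArg (spm β σ ≫ ·) hmain
  simp only [MonObj.comp_mul, GrpObj.comp_inv, F₁, ← Category.assoc, spm_comp, hsa, hsb, hsc, hsd] at hcoc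
  rw [show σ.comp (sec.comp i₁) = i₁ by rw [← AlgHom.comp_assoc, hssec, AlgHom.id_comp]] at hcoc
  simp only [← spm_comp, Category.assoc, hz₁, spm_id, Category.id_comp] at hcoc
  let y' : sp β AT ⟶ G := e * y
  have hy' : spm β Δ ≫ y' = (spm β i₁ ≫ y') * (spm β i₂ ≫ y') := by
    simp only [y', MonObj.comp_mul, e]
    rw [show spm β Δ ≫ spm β τ ≫ z₂ = (spm β i₁ ≫ spm β τ ≫ z₂) * ((spm β i₁ ≫ y) * (spm β i₂ ≫ spm β τ ≫ z₂) *
      (spm β i₁ ≫ y)⁻¹) * d₂⁻¹ from eq_mul_inv_of_mul_eq hcoc]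
    simp only [d₂]
    group
  refine ⟨PtHom.ofPoint hx y' fun B _ _ Ψ₁ Ψ₂ Ψ₃ h₁ h₂ h₃ => ?_, ?_⟩
  · let Ψ : AA →ₐ[R] B := Algebra.TensorProduct.lift Ψ₁ (Ψ₂.comp Algebra.TensorProduct.includeRight)
      fun _ _ => Commute.all _ _
    have e₁ : Ψ.comp i₁ = Ψ₁ := Algebra.TensorProduct.lift_comp_includeLeft _ _ _
    have e₂ : Ψ.comp i₂ = Ψ₂ := pair_ext hx
      (by rw [AlgHom.comp_assoc, hi₂l, ← AlgHom.comp_assoc, e₁]; exact h₁.trans h₂.symm)
      (by rw [← spm_comp, Category.assoc, hi₂x, ← Category.assoc, spm_comp, ← Category.assoc, spm_comp]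
          congr 2
          exact AlgHom.ext fun a => lift_includeRight _ _ (fun _ _ => Commute.all _ _) a)
    have e₃ : Ψ.comp Δ = Ψ₃ := pair_ext hx
      (by rw [AlgHom.comp_assoc, hΔl, ← AlgHom.comp_assoc, e₁]; exact h₁)
      (by rw [← spm_comp, Category.assoc, hΔx, MonObj.comp_mul, h₃, ← hi₂x,
            show spm β Ψ ≫ spm β i₁ ≫ xT = spm β Ψ₁ ≫ xT by rw [← Category.assoc, spm_comp, e₁],
            show spm β Ψ ≫ spm β i₂ ≫ xT = spm β Ψ₂ ≫ xT by rw [← Category.assoc, spm_comp, e₂]])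
    have h := congrArg (spm β Ψ ≫ ·) hy'
    simp only [MonObj.comp_mul, ← Category.assoc, spm_comp, e₁, e₂, e₃] at h
    exact h
  · refine PtHom.ext_univ hx ?_
    let il₀ : (T ⧸ L) →ₐ[R] (T ⧸ L) ⊗[R] A := Algebra.TensorProduct.includeLeft
    let Ψ : AT →ₐ[R] (T ⧸ L) ⊗[R] A := Algebra.TensorProduct.map (Ideal.Quotient.mkₐ R L) (AlgHom.id R A)
    have h₁ : Ψ.comp il = il₀.comp (Ideal.Quotient.mkₐ R L) := AlgHom.ext fun z => Algebra.TensorProduct.map_tmul _ _ z (1 : A)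
    have h₂ : spm β Ψ ≫ xT = univ x (T ⧸ L) := by
      rw [← Category.assoc, spm_comp]
      congr 2
    rw [PtHom.map_app, PtHom.ofPoint_app hx y' _ _ _ Ψ h₁ h₂]
    have hkill : ∀ z ∈ L, Ψ (il z) = 0 := fun z hz => by
      show (Ψ.comp il) z = 0
      rw [h₁]
      show il₀ (Ideal.Quotient.mk L z) = 0
      rw [Ideal.Quotient.eq_zero_iff_mem.mpr hz, map_zero]
    have hLTle : ∀ z ∈ LT, Ψ z = 0 := fun z hz =>
      (show LT ≤ RingHom.ker Ψ.toRingHom from Ideal.map_le_iff_le_comap.mpr fun w hw => hkill w hw) hz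
    have he : spm β Ψ ≫ e = 1 := by
      let Ψ' : (AT ⧸ LT) →ₐ[R] (T ⧸ L) ⊗[R] A := Ideal.Quotient.liftₐ LT Ψ hLTle
      have hΨ : Ψ'.comp (Ideal.Quotient.mkₐ R LT) = Ψ := Ideal.Quotient.liftₐ_comp _ _ _
      have hτ : (Ideal.Quotient.mkₐ R LT).comp τ = (Ideal.Quotient.mkₐ R LT).comp (extFst LT AA) :=
        AlgHom.ext fun z => by
          refine Ideal.Quotient.eq.mpr ?_
          have h : (extMap LT hLT J₁ hJ₁ z).1.2 - algebraMap AT AT (extMap LT hLT J₁ hJ₁ z).1.1 ∈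
              LT.map (algebraMap AT AT) := (extMap LT hLT J₁ hJ₁ z).2
          rw [show algebraMap AT AT = RingHom.id AT from rfl, Ideal.map_id] at h
          exact h
      rw [← hΨ, ← spm_comp, Category.assoc, ← Category.assoc _ (spm β τ), spm_comp, hτ, ← spm_comp, Category.assoc,
        hz₂, MonObj.comp_one, MonObj.comp_one]
    show spm β Ψ ≫ (e * y) = _
    rw [MonObj.comp_mul, he, _root_.one_mul, hred _ Ψ il₀ h₁.symm, h₂]

end Groth.Agent.MultConjLib
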