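import Groth.Agent.MultConjLib.ToHom
import Groth.Prelude.Def_AutFam
import Mathlib.Algebra.Category.Ring.Constructions

/-!
# Families of homomorphisms and homomorphisms on points
-/

universe u

open CategoryTheory CategoryTheory.Limits MonoidalCategory CartesianMonoidalCategory MonObj GrpObj AlgebraicGeometry
open TensorProduct

namespace Groth.Agent.MultConjLib

open GrpSchLib.DiagActionRigid (sp spm spm_comp spm_id spm_left)

set_option backward.isDefEq.respectTransparency false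

variable {S : Scheme.{u}} {R : Type u} [CommRing R] {β : Spec (CommRingCat.of R) ⟶ S}
variable {G H : Over S} [GrpObj G] [GrpObj H] {T : Type u} [CommRing T] [Algebra R T]

/-- Morphisms from a scheme over an affine one are determined by affine points. -/
theorem hom_ext_pts {X Y : Over S} (t : X ⟶ sp β T) {f g : X ⟶ Y}
    (h : ∀ (B : Type u) [CommRing B] [Algebra R B] (q : sp β B ⟶ X) (ρ : T →ₐ[R] B),
      q ≫ t = spm β ρ → q ≫ f = q ≫ g) : f = g := by
  refine Over.OverMorphism.ext (Scheme.Cover.hom_ext X.left.affineCover _ _ fun i => ?_)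
  let W := X.left.affineCover.X i
  let c : Spec Γ(W, ⊤) ⟶ X.left := W.isoSpec.inv ≫ X.left.affineCover.f i
  obtain ⟨ψ, hψ⟩ := Spec.map_surjective (c ≫ t.left)
  letI : Algebra R Γ(W, ⊤) := (ψ.hom.comp (algebraMap R T)).toAlgebra
  let ρ : T →ₐ[R] Γ(W, ⊤) := { ψ.hom with commutes' := fun _ => rfl }
  let q : sp β Γ(W, ⊤) ⟶ X := Over.homMk c (by
    show c ≫ X.hom = Spec.map (CommRingCat.ofHom (ψ.hom.comp (algebraMap R T))) ≫ β
    rw [CommRingCat.ofHom_comp, Spec.map_comp, CommRingCat.ofHom_hom, hψ, Category.assoc, Category.assoc,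
      ← Over.w t]
    rfl)
  have e := congrArg CommaMorphism.left (h _ q ρ (Over.OverMorphism.ext hψ.symm))
  change c ≫ f.left = c ≫ g.left at e
  rwa [Category.assoc, Category.assoc, cancel_epi W.isoSpec.inv] at e

/-- The homomorphism on points at a point of the parameter scheme of a family. -/
noncomputable def PtHom.ofFamily {Z : Over S} (φ : G ⊗ Z ⟶ H) (hφ : AutFam.IsHomFamily G H φ) (z : sp β T ⟶ Z) :
    PtHom β G H T where
  app _ _ _ ρ q := lift q (spm β ρ ≫ z) ≫ φ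
  nat f ρ q := by rw [← Category.assoc, comp_lift, ← Category.assoc, spm_comp]
  mul _ q q' := hφ _ q q' _

theorem PtHom.ofFamily_map {Z : Over S} (φ : G ⊗ Z ⟶ H) (hφ : AutFam.IsHomFamily G H φ) {T' : Type u} [CommRing T']
    [Algebra R T'] (z : sp β T ⟶ Z) (f : T →ₐ[R] T') :
    (PtHom.ofFamily φ hφ z).map f = PtHom.ofFamily φ hφ (spm β f ≫ z) := by
  refine PtHom.ext ?_
  funext B _ _ ρ q
  show lift q (spm β (ρ.comp f) ≫ z) ≫ φ = lift q (spm β ρ ≫ spm β f ≫ z) ≫ φ
  rw [← Category.assoc (spm β ρ), spm_comp]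

theorem ofFamily_inj {Z : Over S} (φ : G ⊗ Z ⟶ H) (hφ : AutFam.IsHomFamily G H φ) (z z' : sp β T ⟶ Z)
    (h : PtHom.ofFamily φ hφ z = PtHom.ofFamily φ hφ z') : (G ◁ z) ≫ φ = (G ◁ z') ≫ φ := by
  refine hom_ext_pts (snd G (sp β T)) fun B _ _ q ρ hq => ?_
  have hq' : q = lift (q ≫ fst G _) (spm β ρ) :=
    CartesianMonoidalCategory.hom_ext _ _ (by simp) (by simp [hq])
  rw [hq', lift_whiskerLeft_assoc, lift_whiskerLeft_assoc]
  exact congrArg (fun w : PtHom β G H T => w.app B ρ (q ≫ fst G _)) h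

/-- A homomorphism on points gives a family. -/
theorem exists_family (hG : IsLocDS G) (w : PtHom β G H T) :
    ∃ φ : G ⊗ sp β T ⟶ H, AutFam.IsHomFamily G H φ ∧
      ∀ (B : Type u) [CommRing B] [Algebra R B] (ρ : T →ₐ[R] B) (q : sp β B ⟶ G),
        lift q (spm β ρ) ≫ φ = w.app B ρ q := by
  obtain ⟨A, _, _, x, hx, sq, -, -⟩ := exists_univ_int hG β
  let il : T →ₐ[R] T ⊗[R] A := Algebra.TensorProduct.includeLeft
  let ir : A →ₐ[R] T ⊗[R] A := Algebra.TensorProduct.includeRight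
  have hP : IsPullback (Spec.map (CommRingCat.ofHom il.toRingHom)) (Spec.map (CommRingCat.ofHom ir.toRingHom))
      (Spec.map (CommRingCat.ofHom (algebraMap R T))) (Spec.map (CommRingCat.ofHom (algebraMap R A))) :=
    isPullback_SpecMap_of_isPushout _ _ _ _ (CommRingCat.isPushout_tensorProduct R T A)
  let X := G ⊗ sp β T
  have hw : (fst G (sp β T)).left ≫ G.hom = ((snd G (sp β T)).left ≫ Spec.map (CommRingCat.ofHom (algebraMap R T))) ≫ β :=
    (Over.w (fst G (sp β T))).trans ((Category.assoc _ _ _).trans (Over.w (snd G (sp β T)))).symm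
  let xA : X.left ⟶ Spec (CommRingCat.of A) := sq.lift _ _ hw.symm
  let τ : X ⟶ sp β (T ⊗[R] A) := Over.homMk (hP.lift (snd G (sp β T)).left xA (sq.lift_fst _ _ _).symm) (by
    show _ ≫ Spec.map (CommRingCat.ofHom (algebraMap R (T ⊗[R] A))) ≫ β = X.hom
    rw [show algebraMap R (T ⊗[R] A) = il.toRingHom.comp (algebraMap R T) from il.comp_algebraMap.symm,
      CommRingCat.ofHom_comp, Spec.map_comp, ← Category.assoc, ← Category.assoc, hP.lift_fst]
    exact (Category.assoc _ _ _).trans (Over.w (snd G (sp β T))))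
  have hpt : ∀ (B : Type u) [CommRing B] [Algebra R B] (ρ : T →ₐ[R] B) (q : sp β B ⟶ G),
      lift q (spm β ρ) ≫ τ ≫ w.app _ il (univ x T) = w.app B ρ q := by
    intro B _ _ ρ q
    obtain ⟨Ψ, hΨ₁, hΨ₂, -⟩ := exists_pair hx ρ q
    have e : lift q (spm β ρ) ≫ τ = spm β Ψ := by
      refine Over.OverMorphism.ext (hP.hom_ext ?_ ?_)
      · refine Eq.trans ((Category.assoc _ _ _).trans (congrArg (_ ≫ ·) (hP.lift_fst _ _ _))) ?_
        refine (congrArg CommaMorphism.left (lift_snd q (spm β ρ))).trans ?_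
        show _ = (spm β Ψ ≫ spm β il).left
        rw [spm_comp, hΨ₁]
      · refine Eq.trans ((Category.assoc _ _ _).trans (congrArg (_ ≫ ·) (hP.lift_snd _ _ _))) ?_
        apply sq.hom_ext
        · refine ((Category.assoc _ _ _).trans (congrArg (_ ≫ ·) (sq.lift_fst _ _ _))).trans ?_
          refine ((Category.assoc _ _ _).symm.trans
            (congrArg (· ≫ Spec.map _) (congrArg CommaMorphism.left (lift_snd q (spm β ρ))))).trans ?_
          show _ = ((spm β Ψ).left ≫ (spm β ir).left) ≫ _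
          show Spec.map (CommRingCat.ofHom ρ.toRingHom) ≫ _ = (Spec.map (CommRingCat.ofHom Ψ.toRingHom) ≫
            Spec.map (CommRingCat.ofHom ir.toRingHom)) ≫ _
          rw [← Spec.map_comp, ← Spec.map_comp, ← Spec.map_comp]
          exact congrArg Spec.map (CommRingCat.hom_ext (RingHom.ext fun r =>
            (ρ.commutes r).trans (((Ψ.comp ir).commutes r).symm)))
        · refine ((Category.assoc _ _ _).trans (congrArg (_ ≫ ·) (sq.lift_snd _ _ _))).trans ?_
          refine (congrArg CommaMorphism.left (lift_fst q (spm β ρ))).trans ?_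
          show _ = ((spm β Ψ).left ≫ (spm β ir).left) ≫ x.left
          rw [Category.assoc]
          exact (congrArg CommaMorphism.left hΨ₂).symm
    rw [reassoc_of% e, w.nat, hΨ₁, hΨ₂]
  refine ⟨τ ≫ w.app _ il (univ x T), fun Z g₁ g₂ t => hom_ext_pts t fun B _ _ q ρ hq => ?_, hpt⟩
  simp only [MonObj.comp_mul, ← Category.assoc q, comp_lift, hq]
  rw [hpt, hpt, hpt, w.mul]

/-- Lifting of homomorphisms on points gives formal smoothness of a scheme of homomorphisms. -/
theorem isFormallySmoothHom_hom (hG : IsLocDS G) {Z : Over S} {υ : G ⊗ Z ⟶ H} (hυ : AutFam.RepresentsHom G H Z υ)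
    (hlift : ∀ (A : Type u) [CommRing A] (I : Ideal A), I ^ 2 = ⊥ → ∀ (b : Spec (CommRingCat.of A) ⟶ S)
      (u₀ : PtHom b G H (A ⧸ I)), ∃ u : PtHom b G H A, u.map (Ideal.Quotient.mkₐ A I) = u₀) :
    MoreMor.IsFormallySmoothHom Z.hom := by
  intro A _ I hI a b hab
  let z : sp b (A ⧸ I) ⟶ Z := Over.homMk a hab.symm
  obtain ⟨u, hu⟩ := hlift A I hI b (PtHom.ofFamily υ hυ.1 z)
  obtain ⟨φ, hφ, hφu⟩ := exists_family hG u
  obtain ⟨m, hm, -⟩ := hυ.2 _ φ hφ
  have hmu : PtHom.ofFamily υ hυ.1 m = u := by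
    refine PtHom.ext ?_
    funext B _ _ ρ q
    show lift q (spm b ρ ≫ m) ≫ υ = u.app B ρ q
    rw [← lift_whiskerLeft_assoc, hm, hφu]
  have hmz : spm b (Ideal.Quotient.mkₐ A I) ≫ m = z := by
    have h := ofFamily_inj υ hυ.1 (spm b (Ideal.Quotient.mkₐ A I) ≫ m) z (by rw [← PtHom.ofFamily_map, hmu, hu])
    obtain ⟨y, -, hy⟩ := hυ.2 _ ((G ◁ z) ≫ υ) (fun X g₁ g₂ t => by
      simp only [lift_whiskerLeft_assoc]
      exact hυ.1 X g₁ g₂ _)
    exact (hy _ h).trans (hy _ rfl).symm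
  refine ⟨m.left, ?_, ?_⟩
  · exact congrArg CommaMorphism.left hmz
  · refine (Over.w m).trans ?_
    show Spec.map (CommRingCat.ofHom (algebraMap A A)) ≫ b = b
    rw [show Spec.map (CommRingCat.ofHom (algebraMap A A)) = 𝟙 _ from Spec.map_id _, Category.id_comp]

/-- Unique lifting of homomorphisms on points gives formal etaleness of a scheme of homomorphisms. -/
theorem isFormallyEtaleHom_hom (hG : IsLocDS G) {Z : Over S} {υ : G ⊗ Z ⟶ H} (hυ : AutFam.RepresentsHom G H Z υ)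
    (hlift : ∀ (A : Type u) [CommRing A] (I : Ideal A), I ^ 2 = ⊥ → ∀ (b : Spec (CommRingCat.of A) ⟶ S)
      (u₀ : PtHom b G H (A ⧸ I)), ∃ u : PtHom b G H A, u.map (Ideal.Quotient.mkₐ A I) = u₀)
    (huniq : ∀ (A : Type u) [CommRing A] (I : Ideal A), I ^ 2 = ⊥ → ∀ (b : Spec (CommRingCat.of A) ⟶ S)
      (u u' : PtHom b G H A), u.map (Ideal.Quotient.mkₐ A I) = u'.map (Ideal.Quotient.mkₐ A I) → u = u') :
    MoreMor.IsFormallyEtaleHom Z.hom := by
  intro A _ I hI a b hab
  obtain ⟨l, hl⟩ := isFormallySmoothHom_hom hG hυ hlift A I hI a b hab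
  refine ⟨l, hl, fun l' hl' => ?_⟩
  have hid : Spec.map (CommRingCat.ofHom (algebraMap A A)) = 𝟙 _ := Spec.map_id _
  let m : sp b A ⟶ Z := Over.homMk l (by show _ = Spec.map _ ≫ b; rw [hid, Category.id_comp]; exact hl.2)
  let m' : sp b A ⟶ Z := Over.homMk l' (by show _ = Spec.map _ ≫ b; rw [hid, Category.id_comp]; exact hl'.2)
  have h0 : spm b (Ideal.Quotient.mkₐ A I) ≫ m = spm b (Ideal.Quotient.mkₐ A I) ≫ m' :=
    Over.OverMorphism.ext (hl.1.trans hl'.1.symm)
  have h := ofFamily_inj υ hυ.1 m m' (huniq A I hI b _ _ (by rw [PtHom.ofFamily_map, PtHom.ofFamily_map, h0]))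
  obtain ⟨y, -, hy⟩ := hυ.2 _ ((G ◁ m) ≫ υ) (fun X g₁ g₂ t => by
    simp only [lift_whiskerLeft_assoc]
    exact hυ.1 X g₁ g₂ _)
  exact congrArg CommaMorphism.left ((hy m' h.symm).trans (hy m rfl).symm)

end Groth.Agent.MultConjLib
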