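import Groth.Agent.MultConjLib.Integral
import Mathlib.RingTheory.Idempotents

/-!
# Lifting characters of diagonalisable groups along nilpotent ideals
-/

universe u

namespace Groth.Agent.MultConjLib

variable {R R₀ : Type u} [CommRing R] [CommRing R₀] {N : Type} [CommGroup N]

/-- The two inclusions and the diagonal on a group algebra. -/
noncomputable abbrev inl₂ (R : Type u) [CommRing R] (N : Type) [CommGroup N] :
    MonoidAlgebra R N →+* MonoidAlgebra R (N × N) :=
  MonoidAlgebra.mapDomainRingHom R (MonoidHom.inl N N)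

noncomputable abbrev inr₂ (R : Type u) [CommRing R] (N : Type) [CommGroup N] :
    MonoidAlgebra R N →+* MonoidAlgebra R (N × N) :=
  MonoidAlgebra.mapDomainRingHom R (MonoidHom.inr N N)

noncomputable abbrev diag₂ (R : Type u) [CommRing R] (N : Type) [CommGroup N] :
    MonoidAlgebra R N →+* MonoidAlgebra R (N × N) :=
  MonoidAlgebra.mapDomainRingHom R ((MonoidHom.id N).prod (MonoidHom.id N))

/-- A grouplike element. -/
def Good (v : MonoidAlgebra R N) : Prop :=
  inl₂ R N v * inr₂ R N v = diag₂ R N v

theorem coeff_inl_inr (v w : MonoidAlgebra R N) (a b : N) :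
    (inl₂ R N v * inr₂ R N w).coeff (a, b) = v.coeff a * w.coeff b := by
  classical
  induction v using MonoidAlgebra.induction_linear with
  | zero => simp
  | add x y hx hy =>
    rw [map_add, add_mul, MonoidAlgebra.coeff_add, MonoidAlgebra.coeff_add, Finsupp.add_apply, Finsupp.add_apply, hx,
      hy, add_mul]
  | single c r =>
    induction w using MonoidAlgebra.induction_linear with
    | zero => simp
    | add x y hx hy =>
      rw [map_add, mul_add, MonoidAlgebra.coeff_add, MonoidAlgebra.coeff_add, Finsupp.add_apply, Finsupp.add_apply,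
        hx, hy, mul_add]
    | single d t =>
      rw [inl₂, inr₂, MonoidAlgebra.mapDomainRingHom_apply, MonoidAlgebra.mapDomainRingHom_apply]
      simp only [MonoidAlgebra.mapDomain_single, MonoidAlgebra.single_mul_single, MonoidAlgebra.coeff_single,
        MonoidHom.inl_apply, MonoidHom.inr_apply, Prod.mk_mul_mk, mul_one, one_mul, Finsupp.single_apply,
        Prod.mk.injEq]
      by_cases h1 : c = a <;> by_cases h2 : d = b <;> simp [h1, h2]

theorem coeff_diag [DecidableEq N] (v : MonoidAlgebra R N) (a b : N) :
    (diag₂ R N v).coeff (a, b) = if a = b then v.coeff a else 0 := by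
  induction v using MonoidAlgebra.induction_linear with
  | zero => simp
  | add x y hx hy =>
    rw [map_add, MonoidAlgebra.coeff_add, MonoidAlgebra.coeff_add, Finsupp.add_apply, Finsupp.add_apply, hx, hy]
    split <;> simp
  | single c r =>
    rw [diag₂, MonoidAlgebra.mapDomainRingHom_apply, MonoidAlgebra.mapDomain_single]
    simp only [MonoidAlgebra.coeff_single, MonoidHom.prod_apply, MonoidHom.id_apply, Finsupp.single_apply,
      Prod.mk.injEq]
    by_cases h1 : c = a <;> by_cases h2 : c = b <;> grind

theorem good_iff [DecidableEq N] (v : MonoidAlgebra R N) :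
    Good v ↔ ∀ a b, v.coeff a * v.coeff b = if a = b then v.coeff a else 0 := by
  constructor
  · intro h a b
    rw [← coeff_inl_inr, ← coeff_diag, show inl₂ R N v * inr₂ R N v = diag₂ R N v from h]
  · intro h
    refine MonoidAlgebra.ext (Finsupp.ext fun ⟨a, b⟩ => ?_)
    rw [coeff_inl_inr, coeff_diag, h]

theorem Good.mul {v w : MonoidAlgebra R N} (hv : Good v) (hw : Good w) : Good (v * w) := by
  unfold Good at *
  rw [map_mul, map_mul, map_mul, mul_mul_mul_comm, hv, hw]

theorem good_one : Good (1 : MonoidAlgebra R N) := by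
  unfold Good
  rw [map_one, map_one, map_one, mul_one]

/-- Reduction of the coefficients. -/
noncomputable abbrev red (π : R →+* R₀) : MonoidAlgebra R N →+* MonoidAlgebra R₀ N :=
  MonoidAlgebra.mapRingHom N π

theorem coeff_red (π : R →+* R₀) (v : MonoidAlgebra R N) (a : N) : (red π v).coeff a = π (v.coeff a) := rfl

theorem Good.eq_of_red [DecidableEq N] {π : R →+* R₀} (hker : ∀ r ∈ RingHom.ker π, IsNilpotent r)
    {v w : MonoidAlgebra R N} (hv : Good v) (hw : Good w) (h : red π v = red π w) : v = w := by
  refine MonoidAlgebra.ext (Finsupp.ext fun a => ?_)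
  have h1 := (good_iff v).mp hv a a
  have h2 := (good_iff w).mp hw a a
  rw [if_pos rfl] at h1 h2
  refine eq_of_isNilpotent_sub_of_isIdempotentElem h1 h2 (hker _ ?_)
  rw [RingHom.mem_ker, map_sub, ← coeff_red, ← coeff_red, h, sub_self]

theorem exists_good_lift [DecidableEq N] {π : R →+* R₀} (hπ : Function.Surjective π)
    (hker : ∀ r ∈ RingHom.ker π, IsNilpotent r) {v₀ : MonoidAlgebra R₀ N} (hv : Good v₀) :
    ∃ v : MonoidAlgebra R N, Good v ∧ red π v = v₀ := by
  rw [good_iff] at hv
  have hex : ∀ a, ∃ e : R, IsIdempotentElem e ∧ π e = v₀.coeff a := fun a => by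
    have h : IsIdempotentElem (v₀.coeff a) := by
      have := hv a a
      rwa [if_pos rfl] at this
    obtain ⟨e, he, hee⟩ := exists_isIdempotentElem_eq_of_ker_isNilpotent π hker _ (hπ _) h
    exact ⟨e, he, hee⟩
  choose e he hee using hex
  have hsupp : ∀ a, e a ≠ 0 → a ∈ v₀.coeff.support := fun a ha => by
    rw [Finsupp.mem_support_iff]
    intro h0
    exact ha (eq_of_isNilpotent_sub_of_isIdempotentElem (he a) IsIdempotentElem.zero
      (hker _ (by rw [RingHom.mem_ker, map_sub, map_zero, hee, h0, sub_zero])))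
  obtain ⟨v, hv'⟩ : ∃ v : MonoidAlgebra R N, ∀ a, v.coeff a = e a :=
    ⟨MonoidAlgebra.ofCoeff (Finsupp.onFinset v₀.coeff.support e hsupp), fun a => rfl⟩
  refine ⟨v, (good_iff v).mpr fun a b => ?_, MonoidAlgebra.ext (Finsupp.ext fun a => ?_)⟩
  · rw [hv', hv']
    split
    · next h => subst h; exact he a
    · next h =>
      refine eq_of_isNilpotent_sub_of_isIdempotentElem ((he a).mul (he b)) IsIdempotentElem.zero
        (hker _ ?_)
      rw [RingHom.mem_ker, sub_zero, map_mul, hee, hee, hv a b, if_neg h]
  · rw [coeff_red, hv', hee]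

/-- Multiplicative families of grouplike elements lift uniquely. -/
theorem exists_goodHom_lift {π : R →+* R₀} (hπ : Function.Surjective π)
    (hker : ∀ r ∈ RingHom.ker π, IsNilpotent r) {M : Type} [CommGroup M] (f₀ : M →* MonoidAlgebra R₀ N)
    (h₀ : ∀ m, Good (f₀ m)) : ∃ f : M →* MonoidAlgebra R N, ∀ m, Good (f m) ∧ red π (f m) = f₀ m := by
  classical
  choose f hf hred using fun m => exists_good_lift hπ hker (h₀ m)
  refine ⟨{ toFun := f, map_one' := ?_, map_mul' := fun a b => ?_ }, fun m => ⟨hf m, hred m⟩⟩
  · exact (hf 1).eq_of_red hker good_one (by rw [hred, map_one, map_one])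
  · exact (hf _).eq_of_red hker ((hf a).mul (hf b)) (by rw [hred, map_mul, map_mul, hred, hred])

end Groth.Agent.MultConjLib
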