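import Groth.Agent.MultConjLib.Conj
import Groth.Agent.GrpSchLib.SubgroupFactor
import Groth.Agent.AdeqFound.Exact
import Groth.Agent.EtFound.Descent
import Groth.Agent.HomSchLib.Base
import Mathlib.RingTheory.TensorProduct.IncludeLeftSubRight

/-!
# Invariant integrals on groups of multiplicative type
-/

universe u

open CategoryTheory CategoryTheory.Limits MonoidalCategory CartesianMonoidalCategory MonObj GrpObj AlgebraicGeometry
open TensorProduct

namespace Groth.Agent.MultConjLib

open GrpSchLib.DiagActionRigid (sp spm spm_comp spm_id)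
open DSPtsLib (CoordM)

set_option backward.isDefEq.respectTransparency false

variable {S : Scheme.{u}} {R : Type u} [CommRing R] {β : Spec (CommRingCat.of R) ⟶ S}
variable {H : Over S} [GrpObj H] {A : Type u} [CommRing A] [Algebra R A] {x : sp β A ⟶ H}

theorem IsInt.unique (hx : IsUniv x) {R' : Type u} [CommRing R'] [Algebra R R'] {j j' : A →ₗ[R] R'}
    (hj : IsInt x j) (hj' : IsInt x j') : j = j' := by
  let T := R' ⊗[R] A
  let iA : A →ₐ[R] T := Algebra.TensorProduct.includeRight
  let p : sp β T ⟶ H := spm β iA ≫ x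
  let il : T →ₐ[R] T ⊗[R] A := Algebra.TensorProduct.includeLeft
  let ir : A →ₐ[R] T ⊗[R] A := Algebra.TensorProduct.includeRight
  obtain ⟨φ, hφ, -⟩ := hx (T ⊗[R] A) ((spm β il ≫ p) * (spm β ir ≫ x))
  obtain ⟨φ', hφ', -⟩ := hx (T ⊗[R] A) ((spm β ir ≫ x) * (spm β il ≫ p))
  let inner : T →ₐ[R] T ⊗[R] A :=
    Algebra.TensorProduct.lift (il.comp Algebra.TensorProduct.includeLeft) ir fun _ _ => Commute.all _ _
  let sw : T ⊗[R] A →ₐ[R] T ⊗[R] A :=
    Algebra.TensorProduct.lift inner (il.comp iA) fun _ _ => Commute.all _ _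
  have hsl : spm β sw ≫ spm β il ≫ p = spm β ir ≫ x := by
    simp only [p, ← Category.assoc, spm_comp]
    congr 2
    exact AlgHom.ext fun z => by simp [sw, inner, il, ir, iA, T, Algebra.TensorProduct.one_def]
  have hsr : spm β sw ≫ spm β ir ≫ x = spm β il ≫ p := by
    simp only [p, ← Category.assoc, spm_comp]
    congr 2
    exact AlgHom.ext fun z => by simp [sw, inner, il, ir, iA, T, Algebra.TensorProduct.one_def]
  have hswap : sw.comp φ' = φ := (hx (T ⊗[R] A) _).unique (by
    rw [← spm_comp, Category.assoc, hφ', MonObj.comp_mul, hsl, hsr]) hφ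
  refine LinearMap.ext fun z => ?_
  have hcomm : ∀ w : T ⊗[R] A, jExt j' R' (jExt j T (sw w)) = jExt j R' (jExt j' T w) := by
    intro w
    induction w using TensorProduct.induction_on with
    | zero => simp
    | add a b ha hb => simp [map_add, ha, hb]
    | tmul t q =>
      induction t using TensorProduct.induction_on with
      | zero => simp
      | add a b ha hb => simp [TensorProduct.add_tmul, map_add, ha, hb]
      | tmul r a =>
        have e : sw ((r ⊗ₜ[R] a : T) ⊗ₜ[R] q) = ((r ⊗ₜ[R] q : T) ⊗ₜ[R] a) := by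
          simp [sw, inner, il, ir, iA, T]
        rw [e, jExt_tmul, jExt_tmul, Algebra.TensorProduct.algebraMap_apply,
          Algebra.TensorProduct.algebraMap_apply, Algebra.TensorProduct.tmul_mul_tmul,
          Algebra.TensorProduct.tmul_mul_tmul, _root_.mul_one, _root_.mul_one, jExt_tmul, jExt_tmul]
        simp only [Algebra.algebraMap_self, RingHom.id_apply]
        ring
  have h1 := hcomm (φ' z)
  rw [← AlgHom.comp_apply, hswap, hj.left T p φ hφ z, hj'.right T p φ' hφ' z,
    Algebra.TensorProduct.algebraMap_apply, Algebra.TensorProduct.algebraMap_apply, jExt_tmul, jExt_tmul,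
    hj.one, hj'.one] at h1
  simpa using h1

theorem jExt_comp {R' R'' : Type u} [CommRing R'] [Algebra R R'] [CommRing R''] [Algebra R R''] [Algebra R' R'']
    [IsScalarTower R R' R''] (j : A →ₗ[R] R') (T : Type u) [CommRing T] [Algebra R T] [Algebra R' T] [Algebra R'' T]
    [IsScalarTower R R' T] [IsScalarTower R R'' T] [IsScalarTower R' R'' T] (z : T ⊗[R] A) :
    jExt ((IsScalarTower.toAlgHom R R' R'').toLinearMap ∘ₗ j) T z = jExt j T z := by
  induction z using TensorProduct.induction_on with
  | zero => simp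
  | add a b ha hb => simp [map_add, ha, hb]
  | tmul t q =>
    rw [jExt_tmul, jExt_tmul]
    simp [← IsScalarTower.algebraMap_apply]

theorem IsInt.comp {R' R'' : Type u} [CommRing R'] [Algebra R R'] [CommRing R''] [Algebra R R''] [Algebra R' R'']
    [IsScalarTower R R' R''] {j : A →ₗ[R] R'} (hj : IsInt x j) :
    IsInt x ((IsScalarTower.toAlgHom R R' R'').toLinearMap ∘ₗ j) where
  one := by simp [hj.one]
  left T _ _ _ _ a φ hφ z := by
    letI : Algebra R' T := Algebra.compHom T (algebraMap R' R'')
    haveI : IsScalarTower R' R'' T := IsScalarTower.of_algebraMap_eq fun _ => rfl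
    haveI : IsScalarTower R R' T := IsScalarTower.of_algebraMap_eq fun r => by
      rw [IsScalarTower.algebraMap_apply R R'' T, IsScalarTower.algebraMap_apply R R' R'']; rfl
    rw [jExt_comp, hj.left T a φ hφ z]
    rfl
  right T _ _ _ _ a φ hφ z := by
    letI : Algebra R' T := Algebra.compHom T (algebraMap R' R'')
    haveI : IsScalarTower R' R'' T := IsScalarTower.of_algebraMap_eq fun _ => rfl
    haveI : IsScalarTower R R' T := IsScalarTower.of_algebraMap_eq fun r => by
      rw [IsScalarTower.algebraMap_apply R R'' T, IsScalarTower.algebraMap_apply R R' R'']; rfl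
    rw [jExt_comp, hj.right T a φ hφ z]
    rfl

theorem IsInt.comp_algHom {R' R'' : Type u} [CommRing R'] [Algebra R R'] [CommRing R''] [Algebra R R'']
    {j : A →ₗ[R] R'} (hj : IsInt x j) (f : R' →ₐ[R] R'') : IsInt x (f.toLinearMap ∘ₗ j) := by
  letI : Algebra R' R'' := f.toRingHom.toAlgebra
  haveI : IsScalarTower R R' R'' := IsScalarTower.of_algebraMap_eq fun r => (f.commutes r).symm
  exact hj.comp

/-- Changing the scalars of the test algebra. -/
theorem jExt_map {R' : Type u} [CommRing R'] [Algebra R R'] (j : A →ₗ[R] R') {T T' : Type u} [CommRing T]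
    [Algebra R T] [Algebra R' T] [IsScalarTower R R' T] [CommRing T'] [Algebra R T'] [Algebra R' T']
    [IsScalarTower R R' T'] (f : T →ₐ[R'] T') (z : T ⊗[R] A) :
    jExt j T' (Algebra.TensorProduct.map (f.restrictScalars R) (AlgHom.id R A) z) = f (jExt j T z) := by
  induction z using TensorProduct.induction_on with
  | zero => simp
  | add a b ha hb => simp [map_add, ha, hb]
  | tmul t q => simp [jExt_tmul]

theorem map_point {T T' : Type u} [CommRing T] [Algebra R T] [CommRing T'] [Algebra R T'] (f : T →ₐ[R] T')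
    (a : sp β T ⟶ H) {φ : A →ₐ[R] T ⊗[R] A}
    (hφ : spm β φ ≫ x = (spm β (Algebra.TensorProduct.includeLeft : T →ₐ[R] T ⊗[R] A) ≫ a) *
      (spm β (Algebra.TensorProduct.includeRight : A →ₐ[R] T ⊗[R] A) ≫ x)) :
    spm β ((Algebra.TensorProduct.map f (AlgHom.id R A)).comp φ) ≫ x =
      (spm β (Algebra.TensorProduct.includeLeft : T' →ₐ[R] T' ⊗[R] A) ≫ spm β f ≫ a) *
      (spm β (Algebra.TensorProduct.includeRight : A →ₐ[R] T' ⊗[R] A) ≫ x) := by
  rw [← spm_comp, Category.assoc, hφ, MonObj.comp_mul]
  simp only [← Category.assoc, spm_comp]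
  rw [show (Algebra.TensorProduct.map f (AlgHom.id R A)).comp Algebra.TensorProduct.includeLeft =
      (Algebra.TensorProduct.includeLeft : T' →ₐ[R] T' ⊗[R] A).comp f from AlgHom.ext fun t => by simp,
    show (Algebra.TensorProduct.map f (AlgHom.id R A)).comp Algebra.TensorProduct.includeRight =
      (Algebra.TensorProduct.includeRight : A →ₐ[R] T' ⊗[R] A) from AlgHom.ext fun t => by simp]

theorem map_point' {T T' : Type u} [CommRing T] [Algebra R T] [CommRing T'] [Algebra R T'] (f : T →ₐ[R] T')
    (a : sp β T ⟶ H) {φ : A →ₐ[R] T ⊗[R] A}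
    (hφ : spm β φ ≫ x = (spm β (Algebra.TensorProduct.includeRight : A →ₐ[R] T ⊗[R] A) ≫ x) *
      (spm β (Algebra.TensorProduct.includeLeft : T →ₐ[R] T ⊗[R] A) ≫ a)) :
    spm β ((Algebra.TensorProduct.map f (AlgHom.id R A)).comp φ) ≫ x =
      (spm β (Algebra.TensorProduct.includeRight : A →ₐ[R] T' ⊗[R] A) ≫ x) *
      (spm β (Algebra.TensorProduct.includeLeft : T' →ₐ[R] T' ⊗[R] A) ≫ spm β f ≫ a) := by
  rw [← spm_comp, Category.assoc, hφ, MonObj.comp_mul]
  simp only [← Category.assoc, spm_comp]
  rw [show (Algebra.TensorProduct.map f (AlgHom.id R A)).comp Algebra.TensorProduct.includeLeft =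
      (Algebra.TensorProduct.includeLeft : T' →ₐ[R] T' ⊗[R] A).comp f from AlgHom.ext fun t => by simp,
    show (Algebra.TensorProduct.map f (AlgHom.id R A)).comp Algebra.TensorProduct.includeRight =
      (Algebra.TensorProduct.includeRight : A →ₐ[R] T' ⊗[R] A) from AlgHom.ext fun t => by simp]

/-- Integrals over the factors give an integral over a finite product. -/
theorem IsInt.pi {κ : Type u} [Finite κ] {Rk : κ → Type u} [∀ k, CommRing (Rk k)] [∀ k, Algebra R (Rk k)]
    {j : ∀ k, A →ₗ[R] Rk k} (hj : ∀ k, IsInt x (j k)) : IsInt x (LinearMap.pi j) := by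
  classical
  have _ := Fintype.ofFinite κ
  -- checking an equality on the factors of a test algebra
  have key : ∀ (T : Type u) [CommRing T] [Algebra R T] [Algebra (∀ k, Rk k) T] [IsScalarTower R (∀ k, Rk k) T]
      (φ : A →ₐ[R] T ⊗[R] A) (z : A),
      (∀ (k : κ) (T' : Type u) [CommRing T'] [Algebra R T'] [Algebra (Rk k) T'] [IsScalarTower R (Rk k) T']
        (f : T →ₐ[R] T'),
        jExt (j k) T' (Algebra.TensorProduct.map f (AlgHom.id R A) (φ z)) = algebraMap (Rk k) T' (j k z)) →
      jExt (LinearMap.pi j) T (φ z) = algebraMap (∀ k, Rk k) T (LinearMap.pi j z) := by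
    intro T _ _ _ _ φ z h
    let e : κ → T := fun k => algebraMap (∀ k, Rk k) T (Pi.single k 1)
    have hsum : ∑ k, e k = 1 := by
      rw [← map_sum, Finset.univ_sum_single, show (fun _ => 1 : ∀ k, Rk k) = 1 from rfl, map_one]
    suffices ∀ k, e k * (jExt (LinearMap.pi j) T (φ z) - algebraMap (∀ k, Rk k) T (LinearMap.pi j z)) = 0 by
      rw [← sub_eq_zero, ← _root_.one_mul (_ - _), ← hsum, Finset.sum_mul]
      exact Finset.sum_eq_zero fun k _ => this k
    intro k
    let Kk : Ideal T := Ideal.span {1 - e k}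
    let q : (∀ k, Rk k) →+* T ⧸ Kk := (Ideal.Quotient.mk Kk).comp (algebraMap _ T)
    have hfac : ∀ r : ∀ k, Rk k, q r = q (Pi.single k (r k)) := fun r => by
      have h1 : (r - Pi.single k (r k)) = (1 - Pi.single k 1) * r := by
        funext l
        by_cases hl : l = k
        · subst hl; simp
        · simp [hl]
      rw [← sub_eq_zero, ← map_sub, h1, map_mul]
      show Ideal.Quotient.mk Kk (algebraMap _ T (1 - Pi.single k 1)) * _ = 0
      rw [map_sub, map_one, Ideal.Quotient.eq_zero_iff_mem.mpr (Ideal.mem_span_singleton_self _), zero_mul]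
    let qk : Rk k →+* T ⧸ Kk :=
      { toFun := fun r => q (Pi.single k r)
        map_one' := by rw [← Pi.one_apply (M := Rk) k, ← hfac, map_one]
        map_mul' := fun a b => by rw [← map_mul, ← Pi.single_mul]
        map_zero' := by rw [Pi.single_zero, map_zero]
        map_add' := fun a b => by rw [← map_add, ← Pi.single_add] }
    letI : Algebra (Rk k) (T ⧸ Kk) := qk.toAlgebra
    haveI : IsScalarTower R (Rk k) (T ⧸ Kk) := IsScalarTower.of_algebraMap_eq fun r => by
      show Ideal.Quotient.mk Kk (algebraMap R T r) = q (Pi.single k (algebraMap R (Rk k) r))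
      rw [IsScalarTower.algebraMap_apply R (∀ k, Rk k) T,
        show algebraMap R (Rk k) r = (algebraMap R (∀ k, Rk k) r) k from rfl, ← hfac]
      rfl
    let f : T →ₐ[R] T ⧸ Kk := Ideal.Quotient.mkₐ R Kk
    have hcmp : ∀ w : T ⊗[R] A,
        f (jExt (LinearMap.pi j) T w) = jExt (j k) (T ⧸ Kk) (Algebra.TensorProduct.map f (AlgHom.id R A) w) := by
      intro w
      induction w using TensorProduct.induction_on with
      | zero => simp
      | add a b ha hb => simp [map_add, ha, hb]
      | tmul t a =>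
        rw [jExt_tmul, map_mul, Algebra.TensorProduct.map_tmul, jExt_tmul]
        exact congrArg (f t * ·) (hfac _)
    have hz : f (jExt (LinearMap.pi j) T (φ z) - algebraMap (∀ k, Rk k) T (LinearMap.pi j z)) = 0 := by
      rw [map_sub, hcmp, h k (T ⧸ Kk) f, sub_eq_zero]
      exact (hfac (LinearMap.pi j z)).symm
    obtain ⟨t, ht⟩ := Ideal.mem_span_singleton'.mp (Ideal.Quotient.eq_zero_iff_mem.mp hz)
    rw [← ht]
    have he : e k * e k = e k := by
      rw [← map_mul, ← Pi.single_mul, _root_.mul_one]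
    linear_combination -t * he
  refine ⟨funext fun k => (hj k).one, fun T _ _ _ _ a φ hφ z => key T φ z fun k T' _ _ _ _ f => ?_,
    fun T _ _ _ _ a φ hφ z => key T φ z fun k T' _ _ _ _ f => ?_⟩
  · exact (hj k).left T' (spm β f ≫ a) _ (map_point f a hφ) z
  · exact (hj k).right T' (spm β f ≫ a) _ (map_point' f a hφ) z

/-- Integrals descend along faithfully flat algebras. -/
theorem IsInt.descend (hx : IsUniv x) {R'' : Type u} [CommRing R''] [Algebra R R''] [Module.FaithfullyFlat R R'']
    {j'' : A →ₗ[R] R''} (hj : IsInt x j'') : ∃ j : A →ₗ[R] R, IsInt x j := by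
  let D := R'' ⊗[R] R''
  have h1 : IsInt x ((Algebra.TensorProduct.includeLeft : R'' →ₐ[R] D).toLinearMap ∘ₗ j'') := hj.comp (R'' := D)
  have h2 : IsInt x ((Algebra.TensorProduct.includeRight : R'' →ₐ[R] D).toLinearMap ∘ₗ j'') := hj.comp_algHom _
  have heq := h1.unique hx h2
  have hmem : ∀ z, j'' z ∈ Set.range (algebraMap R R'') := fun z => by
    rw [← (Algebra.IsEffective.of_faithfullyFlat R R'').eqLocus_includeLeft_includeRight]
    exact LinearMap.congr_fun heq z
  choose j₀ hj₀ using hmem
  have hinj : Function.Injective (algebraMap R R'') := FaithfulSMul.algebraMap_injective R R''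
  let j : A →ₗ[R] R :=
    { toFun := j₀
      map_add' := fun a b => hinj (by rw [map_add, hj₀, hj₀, hj₀, map_add])
      map_smul' := fun r a => hinj (by
        rw [RingHom.id_apply, smul_eq_mul, map_mul, hj₀, hj₀, map_smul, Algebra.smul_def]) }
  have key : ∀ (T : Type u) [CommRing T] [Algebra R T] (φ : A →ₐ[R] T ⊗[R] A) (z : A),
      (∀ (T' : Type u) [CommRing T'] [Algebra R T'] [Algebra R'' T'] [IsScalarTower R R'' T'] (f : T →ₐ[R] T'),
        jExt j'' T' (Algebra.TensorProduct.map f (AlgHom.id R A) (φ z)) = algebraMap R'' T' (j'' z)) →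
      jExt j T (φ z) = algebraMap R T (j z) := by
    intro T _ _ φ z h
    let f : T →ₐ[R] R'' ⊗[R] T := Algebra.TensorProduct.includeRight
    have hinjT : Function.Injective f := by
      have := (Module.FaithfullyFlat.tensorProduct_mk_injective (A := R) (B := R'') T)
      exact this
    have hcmp : ∀ w : T ⊗[R] A,
        f (jExt j T w) = jExt j'' (R'' ⊗[R] T) (Algebra.TensorProduct.map f (AlgHom.id R A) w) := by
      intro w
      induction w using TensorProduct.induction_on with
      | zero => simp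
      | add a b ha hb => simp [map_add, ha, hb]
      | tmul t a =>
        rw [jExt_tmul, map_mul, Algebra.TensorProduct.map_tmul, jExt_tmul, AlgHom.id_apply, ← hj₀ a,
          f.commutes, ← IsScalarTower.algebraMap_apply]
        rfl
    apply hinjT
    rw [hcmp, h _ f, f.commutes, show j'' z = algebraMap R R'' (j z) from (hj₀ z).symm,
      ← IsScalarTower.algebraMap_apply]
  refine ⟨j, ⟨hinj (show algebraMap R R'' (j₀ 1) = algebraMap R R'' 1 by rw [map_one]; exact (hj₀ 1).trans hj.one),
    fun T _ instR alg tw a φ hφ z => ?_, fun T _ instR alg tw a φ hφ z => ?_⟩⟩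
  · obtain rfl : alg = instR := Algebra.algebra_ext _ _ fun r => (@IsScalarTower.algebraMap_apply R R T _ _ _ _ alg instR tw r).symm
    exact key T φ z fun T' _ _ _ _ f => hj.left T' (spm β f ≫ a) _ (map_point f a hφ) z
  · obtain rfl : alg = instR := Algebra.algebra_ext _ _ fun r => (@IsScalarTower.algebraMap_apply R R T _ _ _ _ alg instR tw r).symm
    exact key T φ z fun T' _ _ _ _ f => hj.right T' (spm β f ≫ a) _ (map_point' f a hφ) z

/-- Split groups have integrals. -/
theorem exists_isInt_split (hx : IsUniv x) {U : Scheme.{u}} (gU : U ⟶ S) {M : Type} [AddCommGroup M]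
    (e : Grp.mk (Red.bc gU H) ≅ Grp.mk (Red.DS U M)) {R' : Type u} [CommRing R'] [Algebra R R']
    (jU : Spec (CommRingCat.of R') ⟶ U) (hjU : jU ≫ gU = Spec.map (CommRingCat.ofHom (algebraMap R R')) ≫ β) :
    ∃ j : A →ₗ[R] R', IsInt x j := by
  classical
  obtain ⟨χ, hnat, hmul, hbij⟩ := GrpSchLib.SubgroupFactor.exists_char (A := H) gU e jU hjU
  -- points with values in algebras over `R'`
  let tr : ∀ (T : Type u) [CommRing T] [Algebra R T] [Algebra R' T] [IsScalarTower R R' T],
      sp β T ⟶ sp (Spec.map (CommRingCat.ofHom (algebraMap R R')) ≫ β) T := fun T _ _ _ _ =>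
    Over.homMk (𝟙 _) (by
      show 𝟙 _ ≫ Spec.map (CommRingCat.ofHom (algebraMap R' T)) ≫ _ ≫ β = Spec.map (CommRingCat.ofHom (algebraMap R T)) ≫ β
      rw [Category.id_comp, ← Spec.map_comp_assoc, ← CommRingCat.ofHom_comp, ← IsScalarTower.algebraMap_eq])
  let pc : ∀ (T : Type u) [CommRing T] [Algebra R T] [Algebra R' T] [IsScalarTower R R' T],
      (CoordM.{u} M →+* T) → (sp β T ⟶ H) := fun T _ _ _ _ c => tr T ≫ χ T c
  have htrn : ∀ {T T' : Type u} [CommRing T] [Algebra R T] [Algebra R' T] [IsScalarTower R R' T] [CommRing T']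
      [Algebra R T'] [Algebra R' T'] [IsScalarTower R R' T'] (f : T →ₐ[R'] T') (c : CoordM.{u} M →+* T),
      spm β (f.restrictScalars R) ≫ pc T c = pc T' (f.toRingHom.comp c) := by
    intro T T' _ _ _ _ _ _ _ _ f c
    show spm β _ ≫ tr T ≫ χ T c = tr T' ≫ χ T' _
    rw [← hnat f c, ← Category.assoc, ← Category.assoc]
    congr 1
  have hpc : ∀ (T : Type u) [CommRing T] [Algebra R T] [Algebra R' T] [IsScalarTower R R' T] (q : sp β T ⟶ H),
      ∃ c, pc T c = q := by
    intro T _ _ _ _ q
    let tr' : sp (Spec.map (CommRingCat.ofHom (algebraMap R R')) ≫ β) T ⟶ sp β T := Over.homMk (𝟙 _) (by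
      show 𝟙 _ ≫ Spec.map (CommRingCat.ofHom (algebraMap R T)) ≫ β = Spec.map (CommRingCat.ofHom (algebraMap R' T)) ≫ _ ≫ β
      rw [Category.id_comp, ← Spec.map_comp_assoc, ← CommRingCat.ofHom_comp, ← IsScalarTower.algebraMap_eq])
    obtain ⟨c, hc⟩ := (hbij T).2 (tr' ≫ q)
    refine ⟨c, ?_⟩
    show tr T ≫ χ T c = q
    rw [hc, ← Category.assoc, show tr T ≫ tr' = 𝟙 _ from Over.OverMorphism.ext (Category.id_comp _), Category.id_comp]
  -- the group algebras
  let unv : ∀ (T : Type u) [CommRing T], CoordM.{u} M →+* MonoidAlgebra T (Multiplicative M) := fun T _ =>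
    MonoidAlgebra.mapRingHom _ ((algebraMap ℤ T).comp ULift.ringEquiv.toRingHom)
  have hunv : ∀ (T : Type u) [CommRing T] (m : Multiplicative M),
      unv T (MonoidAlgebra.single m 1) = MonoidAlgebra.single m 1 := fun T _ m =>
    (MonoidAlgebra.mapRingHom_single _ m 1).trans (congrArg _ (map_one _))
  let E := MonoidAlgebra R' (Multiplicative M)
  obtain ⟨ψ, hψ, -⟩ := hx E (pc E (unv R'))
  let j : A →ₗ[R] R' :=
    { toFun := fun z => (ψ z).coeff 1
      map_add' := fun a b => by rw [map_add, MonoidAlgebra.coeff_add, Finsupp.add_apply]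
      map_smul' := fun r a => by rw [map_smul, MonoidAlgebra.coeff_smul, Finsupp.smul_apply, RingHom.id_apply] }
  have key : ∀ (T : Type u) [CommRing T] [Algebra R T] [Algebra R' T] [IsScalarTower R R' T] (a : sp β T ⟶ H)
      (φ : A →ₐ[R] T ⊗[R] A) (z : A),
      (spm β φ ≫ x = (spm β (Algebra.TensorProduct.includeLeft : T →ₐ[R] T ⊗[R] A) ≫ a) *
        (spm β (Algebra.TensorProduct.includeRight : A →ₐ[R] T ⊗[R] A) ≫ x) ∨
      spm β φ ≫ x = (spm β (Algebra.TensorProduct.includeRight : A →ₐ[R] T ⊗[R] A) ≫ x) *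
        (spm β (Algebra.TensorProduct.includeLeft : T →ₐ[R] T ⊗[R] A) ≫ a)) →
      jExt j T (φ z) = algebraMap R' T (j z) := by
    intro T _ _ _ _ a φ z hφ
    let ET := MonoidAlgebra T (Multiplicative M)
    let bc : E →ₐ[R'] ET := MonoidAlgebra.mapAlgHom _ (Algebra.ofId R' T)
    have hbc : ∀ w : E, (bc w).coeff 1 = algebraMap R' T (w.coeff 1) := fun w => rfl
    let ψT : A →ₐ[R] ET := (bc.restrictScalars R).comp ψ
    have hψT : spm β ψT ≫ x = pc ET (unv T) := by
      rw [← spm_comp, Category.assoc, hψ, htrn]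
      congr 1
      refine MonoidAlgebra.ringHom_ext (fun r => ?_) fun m => ?_
      · exact RingHom.congr_fun (DSPtsLib.ulift_ringHom_ext
          ((bc.toRingHom.comp (unv R')).comp MonoidAlgebra.singleOneRingHom)
          ((unv T).comp MonoidAlgebra.singleOneRingHom)) r
      · show bc (unv R' (MonoidAlgebra.single m 1)) = unv T (MonoidAlgebra.single m 1)
        rw [hunv, hunv]
        exact (MonoidAlgebra.mapRingHom_single _ m 1).trans (congrArg _ (map_one _))
    let Ψ : T ⊗[R] A →ₐ[R] ET :=
      Algebra.TensorProduct.lift (IsScalarTower.toAlgHom R T ET) ψT fun _ _ => Commute.all _ _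
    have hJ : ∀ w, jExt j T w = (Ψ w).coeff 1 := fun w => by
      induction w using TensorProduct.induction_on with
      | zero => simp
      | add a b ha hb => rw [map_add, map_add, ha, hb, MonoidAlgebra.coeff_add, Finsupp.add_apply]
      | tmul t q =>
        rw [jExt_tmul, Algebra.TensorProduct.lift_tmul, IsScalarTower.toAlgHom_apply, ← Algebra.smul_def,
          MonoidAlgebra.coeff_smul, Finsupp.smul_apply, smul_eq_mul]
        exact congrArg (t * ·) (hbc _).symm
    obtain ⟨c, hc⟩ := hpc T a
    let cm : Multiplicative M →* T := (c : CoordM.{u} M →* T).comp (MonoidAlgebra.of _ _)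
    let σ : ET →ₐ[T] ET := MonoidAlgebra.lift T _ (Multiplicative M)
      { toFun := fun m => MonoidAlgebra.single m (cm m)
        map_one' := by rw [map_one]; rfl
        map_mul' := fun m m' => by rw [map_mul, MonoidAlgebra.single_mul_single] }
    have hσ : ∀ m r, σ (MonoidAlgebra.single m r) = MonoidAlgebra.single m (r * cm m) := fun m r => by
      refine (MonoidAlgebra.lift_single _ m r).trans ?_
      exact MonoidAlgebra.smul_single' r m (cm m)
    have hcoeff : ∀ w : ET, (σ w).coeff 1 = w.coeff 1 := fun w => by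
      induction w using MonoidAlgebra.induction_linear with
      | zero => simp
      | add a b ha hb =>
        rw [map_add, MonoidAlgebra.coeff_add, MonoidAlgebra.coeff_add, Finsupp.add_apply, Finsupp.add_apply, ha, hb]
      | single m r =>
        rw [hσ]
        by_cases hm : m = 1
        · subst hm; simp
        · simp [hm]
    let cT : CoordM.{u} M →+* ET := (algebraMap T ET).comp c
    let cA : CoordM.{u} M →+* ET := unv T
    let d : CoordM.{u} M →+* ET := (σ : ET →+* ET).comp (unv T)
    have hΨl : spm β Ψ ≫ spm β (Algebra.TensorProduct.includeLeft : T →ₐ[R] T ⊗[R] A) ≫ a = pc ET cT := by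
      rw [← Category.assoc, spm_comp, ← hc,
        show Ψ.comp Algebra.TensorProduct.includeLeft = (IsScalarTower.toAlgHom R' T ET).restrictScalars R from
          AlgHom.ext fun t => by simp [Ψ], htrn]
      rfl
    have hΨr : spm β Ψ ≫ spm β (Algebra.TensorProduct.includeRight : A →ₐ[R] T ⊗[R] A) ≫ x = pc ET cA := by
      rw [← Category.assoc, spm_comp,
        show Ψ.comp Algebra.TensorProduct.includeRight = ψT from AlgHom.ext fun t => by simp [Ψ], hψT]
    have hd : pc ET cT * pc ET cA = pc ET d ∧ pc ET cA * pc ET cT = pc ET d := by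
      have hm1 : ∀ m, d (MonoidAlgebra.single m 1) = cT (MonoidAlgebra.single m 1) * cA (MonoidAlgebra.single m 1) := by
        intro m
        show σ (unv T (MonoidAlgebra.single m 1)) = algebraMap T ET (cm m) * unv T (MonoidAlgebra.single m 1)
        rw [hunv, hσ, ← Algebra.smul_def, MonoidAlgebra.smul_single, smul_eq_mul, _root_.one_mul, _root_.mul_one]
      refine ⟨(MonObj.comp_mul (tr ET) _ _).symm.trans (congrArg (tr ET ≫ ·) (hmul cT cA d hm1)), ?_⟩
      exact (MonObj.comp_mul (tr ET) _ _).symm.trans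
        (congrArg (tr ET ≫ ·) (hmul cA cT d fun m => by rw [hm1, _root_.mul_comm]))
    have hΨφ : Ψ.comp φ = (σ.restrictScalars R).comp ψT := by
      refine (hx ET (pc ET d)).unique ?_ ?_
      · rcases hφ with h | h
        · rw [← spm_comp, Category.assoc, h, MonObj.comp_mul, hΨl, hΨr, hd.1]
        · rw [← spm_comp, Category.assoc, h, MonObj.comp_mul, hΨl, hΨr, hd.2]
      · rw [← spm_comp, Category.assoc, hψT,
          show σ.restrictScalars R = (σ.restrictScalars R').restrictScalars R from rfl, htrn]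
        rfl
    rw [hJ, ← AlgHom.comp_apply, hΨφ]
    show (σ (ψT z)).coeff 1 = _
    rw [hcoeff]
    exact hbc (ψ z)
  refine ⟨j, ?_, fun T _ _ _ _ a φ hφ z => key T a φ z (Or.inl hφ), fun T _ _ _ _ a φ hφ z => key T a φ z (Or.inr hφ)⟩
  show (ψ 1).coeff 1 = 1
  rw [map_one ψ, MonoidAlgebra.one_def]
  simp

end Groth.Agent.MultConjLib
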