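import Groth.Agent.MultConjLib.HomLift
import Groth.Agent.MultConjLib.IdemLift
import Groth.Agent.GrpSchLib.HomMonoLocus

/-!
# Lifting homomorphisms of groups of multiplicative type along nilpotent ideals
-/

universe u

open CategoryTheory CategoryTheory.Limits MonoidalCategory CartesianMonoidalCategory MonObj GrpObj AlgebraicGeometry
open TensorProduct

namespace Groth.Agent.MultConjLib

open GrpSchLib.DiagActionRigid (sp spm spm_comp spm_id spm_left univPt univPt_single coord_ext)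
open DSPtsLib (CoordM)

set_option backward.isDefEq.respectTransparency false

variable {S : Scheme.{u}} {R : Type u} [CommRing R] {β : Spec (CommRingCat.of R) ⟶ S}

/-- The points of a group split over `R'`, with values in algebras over `R'`. -/
theorem exists_char_pts {H : Over S} [GrpObj H] {U : Scheme.{u}} (gU : U ⟶ S) {M : Type} [AddCommGroup M]
    (e : Grp.mk (Red.bc gU H) ≅ Grp.mk (Red.DS U M)) {R' : Type u} [CommRing R'] [Algebra R R']
    (jU : Spec (CommRingCat.of R') ⟶ U) (hjU : jU ≫ gU = Spec.map (CommRingCat.ofHom (algebraMap R R')) ≫ β) :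
    ∃ χ : ∀ (B : Type u) [CommRing B] [Algebra R B], (R' →ₐ[R] B) → (CoordM.{u} M →+* B) → (sp β B ⟶ H),
      (∀ {B B' : Type u} [CommRing B] [Algebra R B] [CommRing B'] [Algebra R B'] (f : B →ₐ[R] B') (ρ : R' →ₐ[R] B)
        (c : CoordM.{u} M →+* B), spm β f ≫ χ B ρ c = χ B' (f.comp ρ) (f.toRingHom.comp c)) ∧
      (∀ {B : Type u} [CommRing B] [Algebra R B] (ρ : R' →ₐ[R] B) (c c' d : CoordM.{u} M →+* B),
        (∀ m, d (MonoidAlgebra.single m 1) = c (MonoidAlgebra.single m 1) * c' (MonoidAlgebra.single m 1)) →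
          χ B ρ c * χ B ρ c' = χ B ρ d) ∧
      ∀ (B : Type u) [CommRing B] [Algebra R B] (ρ : R' →ₐ[R] B), Function.Bijective (χ B ρ) := by
  obtain ⟨χ, hnat, hmul, hbij⟩ := GrpSchLib.SubgroupFactor.exists_char (A := H) gU e jU hjU
  let tr : ∀ (B : Type u) [CommRing B] [Algebra R B] [Algebra R' B] [IsScalarTower R R' B],
      sp β B ≅ sp (Spec.map (CommRingCat.ofHom (algebraMap R R')) ≫ β) B := fun B _ _ _ _ =>
    Over.isoMk (Iso.refl _) (by
      show 𝟙 _ ≫ Spec.map (CommRingCat.ofHom (algebraMap R' B)) ≫ _ ≫ β = Spec.map (CommRingCat.ofHom (algebraMap R B)) ≫ β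
      rw [Category.id_comp, ← Spec.map_comp_assoc, ← CommRingCat.ofHom_comp, ← IsScalarTower.algebraMap_eq])
  refine ⟨fun B _ _ ρ c =>
    letI : Algebra R' B := ρ.toRingHom.toAlgebra
    haveI : IsScalarTower R R' B := IsScalarTower.of_algebraMap_eq fun r => (ρ.commutes r).symm
    (tr B).hom ≫ χ B c, ?_, ?_, ?_⟩
  · intro B B' _ _ _ _ f ρ c
    letI : Algebra R' B := ρ.toRingHom.toAlgebra
    haveI : IsScalarTower R R' B := IsScalarTower.of_algebraMap_eq fun r => (ρ.commutes r).symm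
    letI : Algebra R' B' := (f.comp ρ).toRingHom.toAlgebra
    haveI : IsScalarTower R R' B' := IsScalarTower.of_algebraMap_eq fun r => ((f.comp ρ).commutes r).symm
    let f' : B →ₐ[R'] B' := { f.toRingHom with commutes' := fun _ => rfl }
    show spm β f ≫ (tr B).hom ≫ χ B c = (tr B').hom ≫ χ B' (f'.toRingHom.comp c)
    rw [← hnat f' c, ← Category.assoc, ← Category.assoc]
    congr 1
  · intro B _ _ ρ c c' d hd
    letI : Algebra R' B := ρ.toRingHom.toAlgebra
    haveI : IsScalarTower R R' B := IsScalarTower.of_algebraMap_eq fun r => (ρ.commutes r).symm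
    exact (MonObj.comp_mul (tr B).hom _ _).symm.trans (congrArg ((tr B).hom ≫ ·) (hmul c c' d hd))
  · intro B _ _ ρ
    letI : Algebra R' B := ρ.toRingHom.toAlgebra
    haveI : IsScalarTower R R' B := IsScalarTower.of_algebraMap_eq fun r => (ρ.commutes r).symm
    refine ⟨fun c c' h => (hbij B).1 ((cancel_epi (tr B).hom).mp h), fun q => ?_⟩
    obtain ⟨c, hc⟩ := (hbij B).2 ((tr B).inv ≫ q)
    exact ⟨c, by show (tr B).hom ≫ χ B c = q; rw [hc, Iso.hom_inv_id_assoc]⟩

/-- Evaluation on a group algebra. -/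
noncomputable def ev {R' B : Type u} [CommRing R'] [Algebra R R'] [CommRing B] [Algebra R B] {M : Type} [CommGroup M]
    (ρ : R' →ₐ[R] B) (g : M →* B) : MonoidAlgebra R' M →ₐ[R] B :=
  letI : Algebra R' B := ρ.toRingHom.toAlgebra
  haveI : IsScalarTower R R' B := IsScalarTower.of_algebraMap_eq fun r => (ρ.commutes r).symm
  (MonoidAlgebra.lift R' B M g).restrictScalars R

theorem ev_single {R' B : Type u} [CommRing R'] [Algebra R R'] [CommRing B] [Algebra R B] {M : Type} [CommGroup M]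
    (ρ : R' →ₐ[R] B) (g : M →* B) (m : M) (r : R') : ev ρ g (MonoidAlgebra.single m r) = ρ r * g m := by
  letI : Algebra R' B := ρ.toRingHom.toAlgebra
  show MonoidAlgebra.lift R' B M g (MonoidAlgebra.single m r) = _
  rw [MonoidAlgebra.lift_single, Algebra.smul_def]
  rfl

theorem ev_one {R' B : Type u} [CommRing R'] [Algebra R R'] [CommRing B] [Algebra R B] {M : Type} [CommGroup M]
    (ρ : R' →ₐ[R] B) (g : M →* B) (m : M) : ev ρ g (MonoidAlgebra.single m 1) = g m := by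
  rw [ev_single, map_one, _root_.one_mul]

/-- The values of a character. -/
noncomputable abbrev charVal {B : Type u} [CommRing B] {M : Type} [AddCommGroup M] (c : CoordM.{u} M →+* B) :
    Multiplicative M →* B :=
  (c : CoordM.{u} M →* B).comp (MonoidAlgebra.of _ _)

/-- The character with given values. -/
noncomputable abbrev ofVal {B : Type u} [CommRing B] {M : Type} [AddCommGroup M] (g : Multiplicative M →* B) :
    CoordM.{u} M →+* B :=
  GrpSchLib.HomMonoLocus.charOf (R := B) g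

theorem ofVal_single {B : Type u} [CommRing B] {M : Type} [AddCommGroup M] (g : Multiplicative M →* B)
    (m : Multiplicative M) : ofVal g (MonoidAlgebra.single m 1) = g m :=
  GrpSchLib.HomMonoLocus.charOf_single g m

variable {H H' : Over S} [GrpObj H] [GrpObj H']

/-- The homomorphism on points given by grouplike values. -/
theorem exists_ptHom_of_goodHom {M N : Type} [AddCommGroup M] [AddCommGroup N] {R' : Type u} [CommRing R'] [Algebra R R']
    (χ : ∀ (B : Type u) [CommRing B] [Algebra R B], (R' →ₐ[R] B) → (CoordM.{u} M →+* B) → (sp β B ⟶ H))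
    (hnat : ∀ {B B' : Type u} [CommRing B] [Algebra R B] [CommRing B'] [Algebra R B'] (f : B →ₐ[R] B') (ρ : R' →ₐ[R] B)
      (c : CoordM.{u} M →+* B), spm β f ≫ χ B ρ c = χ B' (f.comp ρ) (f.toRingHom.comp c))
    (hmul : ∀ {B : Type u} [CommRing B] [Algebra R B] (ρ : R' →ₐ[R] B) (c c' d : CoordM.{u} M →+* B),
      (∀ m, d (MonoidAlgebra.single m 1) = c (MonoidAlgebra.single m 1) * c' (MonoidAlgebra.single m 1)) →
        χ B ρ c * χ B ρ c' = χ B ρ d)
    (hbij : ∀ (B : Type u) [CommRing B] [Algebra R B] (ρ : R' →ₐ[R] B), Function.Bijective (χ B ρ))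
    (χ' : ∀ (B : Type u) [CommRing B] [Algebra R B], (R' →ₐ[R] B) → (CoordM.{u} N →+* B) → (sp β B ⟶ H'))
    (hnat' : ∀ {B B' : Type u} [CommRing B] [Algebra R B] [CommRing B'] [Algebra R B'] (f : B →ₐ[R] B') (ρ : R' →ₐ[R] B)
      (c : CoordM.{u} N →+* B), spm β f ≫ χ' B ρ c = χ' B' (f.comp ρ) (f.toRingHom.comp c))
    (hmul' : ∀ {B : Type u} [CommRing B] [Algebra R B] (ρ : R' →ₐ[R] B) (c c' d : CoordM.{u} N →+* B),
      (∀ m, d (MonoidAlgebra.single m 1) = c (MonoidAlgebra.single m 1) * c' (MonoidAlgebra.single m 1)) →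
        χ' B ρ c * χ' B ρ c' = χ' B ρ d)
    (f : Multiplicative N →* MonoidAlgebra R' (Multiplicative M)) (hf : ∀ n, Good (f n)) :
    ∃ u : PtHom β H H' R', ∀ (B : Type u) [CommRing B] [Algebra R B] (ρ : R' →ₐ[R] B) (c : CoordM.{u} M →+* B),
      u.app B ρ (χ B ρ c) = χ' B ρ (ofVal ((ev ρ (charVal c) : _ →* B).comp f)) := by
  -- the lift
  have hcoord : ∀ (B : Type u) [CommRing B] [Algebra R B] (ρ : R' →ₐ[R] B) (q : sp β B ⟶ H), ∃! c, χ B ρ c = q :=
    fun B _ _ ρ q => (hbij B ρ).existsUnique q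
  let app : ∀ (B : Type u) [CommRing B] [Algebra R B], (R' →ₐ[R] B) → (sp β B ⟶ H) → (sp β B ⟶ H') :=
    fun B _ _ ρ q => χ' B ρ (ofVal ((ev ρ (charVal (hcoord B ρ q).choose) : _ →* B).comp f))
  have happ : ∀ {B : Type u} [CommRing B] [Algebra R B] (ρ : R' →ₐ[R] B) (c : CoordM.{u} M →+* B),
      app B ρ (χ B ρ c) = χ' B ρ (ofVal ((ev ρ (charVal c) : _ →* B).comp f)) := by
    intro B _ _ ρ c
    show χ' B ρ (ofVal ((ev ρ (charVal (hcoord B ρ (χ B ρ c)).choose) : _ →* B).comp f)) = _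
    rw [(hbij B ρ).1 ((hcoord B ρ (χ B ρ c)).choose_spec.1)]
  refine ⟨⟨app, ?_, ?_⟩, fun B _ _ ρ c => happ ρ c⟩
  · intro B B' _ _ _ _ g ρ q
    obtain ⟨c, rfl⟩ := (hbij B ρ).2 q
    rw [happ, hnat, hnat', happ]
    congr 1
    refine coord_ext fun n => ?_
    show g (ofVal _ _) = ofVal _ _
    rw [ofVal_single, ofVal_single]
    show g (ev ρ (charVal c) (f n)) = ev (g.comp ρ) (charVal (g.toRingHom.comp c)) (f n)
    rw [← AlgHom.comp_apply]
    congr 1
    refine AlgHom.coe_ringHom_injective (MonoidAlgebra.ringHom_ext (fun r => ?_) fun m => ?_)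
    · show g (ev ρ _ (MonoidAlgebra.single 1 r)) = ev _ _ (MonoidAlgebra.single 1 r)
      rw [ev_single, ev_single, map_one, map_one, _root_.mul_one, _root_.mul_one]
      rfl
    · show g (ev ρ _ (MonoidAlgebra.single m 1)) = ev _ _ (MonoidAlgebra.single m 1)
      rw [ev_one, ev_one]
      rfl
  · intro B _ _ ρ q q'
    obtain ⟨c, rfl⟩ := (hbij B ρ).2 q
    obtain ⟨c', rfl⟩ := (hbij B ρ).2 q'
    let c'' : CoordM.{u} M →+* B := ofVal (charVal c * charVal c')
    rw [hmul ρ c c' c'' fun m => ofVal_single _ m, happ, happ, happ]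
    refine (hmul' ρ _ _ _ fun n => ?_).symm
    rw [ofVal_single, ofVal_single, ofVal_single]
    show ev ρ (charVal c'') (f n) = ev ρ (charVal c) (f n) * ev ρ (charVal c') (f n)
    let e₂ : MonoidAlgebra R' (Multiplicative M × Multiplicative M) →ₐ[R] B :=
      ev ρ ((charVal c).comp (MonoidHom.fst _ _) * (charVal c').comp (MonoidHom.snd _ _))
    have he : ∀ (τ : Multiplicative M →* Multiplicative M × Multiplicative M) (g : Multiplicative M →* B),
        (∀ m, c (MonoidAlgebra.single (τ m).1 1) * c' (MonoidAlgebra.single (τ m).2 1) = g m) →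
          ∀ w, e₂ (MonoidAlgebra.mapDomainRingHom R' τ w) = ev ρ g w := by
      intro τ g hg w
      induction w using MonoidAlgebra.induction_linear with
      | zero => simp
      | add a b ha hb => rw [map_add, map_add, map_add, ha, hb]
      | single m r =>
        rw [MonoidAlgebra.mapDomainRingHom_apply, MonoidAlgebra.mapDomain_single, ev_single, ev_single, ← hg m]
        rfl
    have h := congrArg e₂ (hf n)
    have k1 := he (MonoidHom.inl (Multiplicative M) (Multiplicative M)) (charVal c) fun m => by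
      show c (MonoidAlgebra.single m 1) * c' 1 = _
      rw [map_one, _root_.mul_one]
      rfl
    have k2 := he (MonoidHom.inr (Multiplicative M) (Multiplicative M)) (charVal c') fun m => by
      show c 1 * c' (MonoidAlgebra.single m 1) = _
      rw [map_one, _root_.one_mul]
      rfl
    have k3 := he ((MonoidHom.id (Multiplicative M)).prod (MonoidHom.id (Multiplicative M))) (charVal c'') fun m =>
      (ofVal_single (charVal c * charVal c') m).symm
    rw [map_mul, k1, k2, k3] at h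
    exact h.symm

/-- A homomorphism on points of split groups is given by grouplike values. -/
theorem exists_goodHom_of_ptHom {M N : Type} [AddCommGroup M] [AddCommGroup N] {R' : Type u} [CommRing R'] [Algebra R R']
    (χ : ∀ (B : Type u) [CommRing B] [Algebra R B], (R' →ₐ[R] B) → (CoordM.{u} M →+* B) → (sp β B ⟶ H))
    (hnat : ∀ {B B' : Type u} [CommRing B] [Algebra R B] [CommRing B'] [Algebra R B'] (f : B →ₐ[R] B') (ρ : R' →ₐ[R] B)
      (c : CoordM.{u} M →+* B), spm β f ≫ χ B ρ c = χ B' (f.comp ρ) (f.toRingHom.comp c))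
    (hmul : ∀ {B : Type u} [CommRing B] [Algebra R B] (ρ : R' →ₐ[R] B) (c c' d : CoordM.{u} M →+* B),
      (∀ m, d (MonoidAlgebra.single m 1) = c (MonoidAlgebra.single m 1) * c' (MonoidAlgebra.single m 1)) →
        χ B ρ c * χ B ρ c' = χ B ρ d)
    (hbij : ∀ (B : Type u) [CommRing B] [Algebra R B] (ρ : R' →ₐ[R] B), Function.Bijective (χ B ρ))
    (χ' : ∀ (B : Type u) [CommRing B] [Algebra R B], (R' →ₐ[R] B) → (CoordM.{u} N →+* B) → (sp β B ⟶ H'))
    (hnat' : ∀ {B B' : Type u} [CommRing B] [Algebra R B] [CommRing B'] [Algebra R B'] (f : B →ₐ[R] B') (ρ : R' →ₐ[R] B)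
      (c : CoordM.{u} N →+* B), spm β f ≫ χ' B ρ c = χ' B' (f.comp ρ) (f.toRingHom.comp c))
    (hmul' : ∀ {B : Type u} [CommRing B] [Algebra R B] (ρ : R' →ₐ[R] B) (c c' d : CoordM.{u} N →+* B),
      (∀ m, d (MonoidAlgebra.single m 1) = c (MonoidAlgebra.single m 1) * c' (MonoidAlgebra.single m 1)) →
        χ' B ρ c * χ' B ρ c' = χ' B ρ d)
    (hbij' : ∀ (B : Type u) [CommRing B] [Algebra R B] (ρ : R' →ₐ[R] B), Function.Bijective (χ' B ρ))
    {R₀ : Type u} [CommRing R₀] [Algebra R R₀] (π : R' →ₐ[R] R₀) (u₀ : PtHom β H H' R₀) :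
    ∃ f₀ : Multiplicative N →* MonoidAlgebra R₀ (Multiplicative M), (∀ n, Good (f₀ n)) ∧
      ∀ (B : Type u) [CommRing B] [Algebra R B] (ρ : R₀ →ₐ[R] B) (c : CoordM.{u} M →+* B),
        u₀.app B ρ (χ B (ρ.comp π) c) = χ' B (ρ.comp π) (ofVal ((ev ρ (charVal c) : _ →* B).comp f₀)) := by
  -- the universal point modulo the kernel
  let E₀ := MonoidAlgebra R₀ (Multiplicative M)
  let E₂ := MonoidAlgebra R₀ (Multiplicative M × Multiplicative M)
  let ρ₀ : R₀ →ₐ[R] E₀ := IsScalarTower.toAlgHom R R₀ E₀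
  let ρ₂ : R₀ →ₐ[R] E₂ := IsScalarTower.toAlgHom R R₀ E₂
  let g₀ : Multiplicative M →* E₀ := MonoidAlgebra.of _ _
  obtain ⟨c₀, hc₀⟩ := (hbij' E₀ (ρ₀.comp π)).2 (u₀.app E₀ ρ₀ (χ E₀ (ρ₀.comp π) (ofVal g₀)))
  let f₀ : Multiplicative N →* E₀ := charVal c₀
  let σ : (Multiplicative M →* Multiplicative M × Multiplicative M) → (E₀ →ₐ[R] E₂) := fun τ =>
    AlgHom.restrictScalars R (MonoidAlgebra.mapDomainAlgHom R₀ R₀ τ)
  have hσρ : ∀ τ, (σ τ).comp ρ₀ = ρ₂ := fun τ => AlgHom.ext fun r => (MonoidAlgebra.mapDomainAlgHom R₀ R₀ τ).commutes r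
  have hσ : ∀ τ, spm β (σ τ) ≫ χ E₀ (ρ₀.comp π) (ofVal g₀) = χ E₂ (ρ₂.comp π) ((σ τ).toRingHom.comp (ofVal g₀)) :=
    fun τ => by rw [hnat, ← AlgHom.comp_assoc, hσρ]
  have hσ' : ∀ τ, spm β (σ τ) ≫ χ' E₀ (ρ₀.comp π) c₀ = χ' E₂ (ρ₂.comp π) ((σ τ).toRingHom.comp c₀) :=
    fun τ => by rw [hnat', ← AlgHom.comp_assoc, hσρ]
  have hval : ∀ τ m, ((σ τ).toRingHom.comp (ofVal g₀)) (MonoidAlgebra.single m 1) = MonoidAlgebra.single (τ m) 1 :=
    fun τ m => by
      show σ τ (ofVal g₀ (MonoidAlgebra.single m 1)) = _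
      rw [ofVal_single]
      exact MonoidAlgebra.mapDomain_single
  have hgood : ∀ n, Good (f₀ n) := by
    let τ₁ := MonoidHom.inl (Multiplicative M) (Multiplicative M)
    let τ₂ := MonoidHom.inr (Multiplicative M) (Multiplicative M)
    let τ₃ := (MonoidHom.id (Multiplicative M)).prod (MonoidHom.id (Multiplicative M))
    have h1 := congrArg (u₀.app E₂ ρ₂) (hmul (ρ₂.comp π) ((σ τ₁).toRingHom.comp (ofVal g₀))
      ((σ τ₂).toRingHom.comp (ofVal g₀)) ((σ τ₃).toRingHom.comp (ofVal g₀)) fun m => by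
        rw [hval, hval, hval, MonoidAlgebra.single_mul_single, _root_.mul_one]
        congr 1
        simp [τ₁, τ₂, τ₃])
    have hu : ∀ τ, u₀.app E₂ ρ₂ (χ E₂ (ρ₂.comp π) ((σ τ).toRingHom.comp (ofVal g₀))) =
        χ' E₂ (ρ₂.comp π) ((σ τ).toRingHom.comp c₀) := fun τ => by
      rw [← hσ, ← hσ', hc₀, u₀.nat, hσρ]
    rw [u₀.mul, hu, hu, hu] at h1
    let d : Multiplicative N →* E₂ := ((σ τ₁ : E₀ →* E₂).comp f₀) * ((σ τ₂ : E₀ →* E₂).comp f₀)
    have hd : ∀ m, ofVal d (MonoidAlgebra.single m 1) = ((σ τ₁).toRingHom.comp c₀) (MonoidAlgebra.single m 1) *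
        ((σ τ₂).toRingHom.comp c₀) (MonoidAlgebra.single m 1) := fun m => by
      rw [ofVal_single]
      rfl
    rw [hmul' (ρ₂.comp π) ((σ τ₁).toRingHom.comp c₀) ((σ τ₂).toRingHom.comp c₀) (ofVal d) hd] at h1
    intro n
    have h := congrFun (congrArg DFunLike.coe ((hbij' E₂ _).1 h1)) (MonoidAlgebra.single n 1)
    rw [ofVal_single] at h
    exact h
  refine ⟨f₀, hgood, fun B _ _ ρ c => ?_⟩
  let e₀ : E₀ →ₐ[R] B := ev ρ (charVal c)
  have heρ : e₀.comp ρ₀ = ρ := AlgHom.ext fun r => by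
    show ev ρ (charVal c) (MonoidAlgebra.single 1 r) = ρ r
    rw [ev_single, map_one, _root_.mul_one]
  have h1 : spm β e₀ ≫ χ E₀ (ρ₀.comp π) (ofVal g₀) = χ B (ρ.comp π) c := by
    rw [hnat, ← AlgHom.comp_assoc, heρ]
    congr 1
    refine coord_ext fun m => ?_
    show e₀ (ofVal g₀ (MonoidAlgebra.single m 1)) = _
    rw [ofVal_single]
    exact ev_one ρ _ m
  rw [← h1, ← heρ, ← u₀.nat, ← hc₀, hnat', ← AlgHom.comp_assoc, heρ]
  congr 1
  refine coord_ext fun n => ?_
  rw [ofVal_single]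
  rfl

/-- Homomorphisms between split groups lift along nilpotent ideals. -/
theorem exists_ptHom_lift_split {U : Scheme.{u}} (gU : U ⟶ S) {M : Type} [AddCommGroup M]
    (e : Grp.mk (Red.bc gU H) ≅ Grp.mk (Red.DS U M)) {U' : Scheme.{u}} (gU' : U' ⟶ S) {N : Type} [AddCommGroup N]
    (e' : Grp.mk (Red.bc gU' H') ≅ Grp.mk (Red.DS U' N)) {R' : Type u} [CommRing R'] [Algebra R R']
    (jU : Spec (CommRingCat.of R') ⟶ U) (hjU : jU ≫ gU = Spec.map (CommRingCat.ofHom (algebraMap R R')) ≫ β)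
    (jU' : Spec (CommRingCat.of R') ⟶ U') (hjU' : jU' ≫ gU' = Spec.map (CommRingCat.ofHom (algebraMap R R')) ≫ β)
    {R₀ : Type u} [CommRing R₀] [Algebra R R₀] (π : R' →ₐ[R] R₀) (hπ : Function.Surjective π)
    (hker : ∀ r ∈ RingHom.ker π.toRingHom, IsNilpotent r) (u₀ : PtHom β H H' R₀) :
    ∃ u : PtHom β H H' R', u.map π = u₀ := by
  obtain ⟨χ, hnat, hmul, hbij⟩ := exists_char_pts gU e jU hjU
  obtain ⟨χ', hnat', hmul', hbij'⟩ := exists_char_pts gU' e' jU' hjU'
  obtain ⟨f₀, hgood, hu₀⟩ := exists_goodHom_of_ptHom χ hnat hmul hbij χ' hnat' hmul' hbij' π u₀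
  obtain ⟨f, hf⟩ := exists_goodHom_lift (π := π.toRingHom) hπ hker f₀ hgood
  obtain ⟨u, hu⟩ := exists_ptHom_of_goodHom χ hnat hmul hbij χ' hnat' hmul' f fun n => (hf n).1
  refine ⟨u, PtHom.ext ?_⟩
  funext B _ _ ρ q
  show u.app B (ρ.comp π) q = u₀.app B ρ q
  obtain ⟨c, rfl⟩ := (hbij B (ρ.comp π)).2 q
  rw [hu, hu₀]
  congr 1
  refine coord_ext fun n => ?_
  rw [ofVal_single, ofVal_single]
  show ev (ρ.comp π) (charVal c) (f n) = ev ρ (charVal c) (f₀ n)
  rw [← (hf n).2]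
  show _ = ev ρ (charVal c) (MonoidAlgebra.mapRingHom _ π.toRingHom (f n))
  induction f n using MonoidAlgebra.induction_linear with
  | zero => simp
  | add a b ha hb => rw [map_add, map_add, map_add, ha, hb]
  | single m r =>
    rw [MonoidAlgebra.mapRingHom_single, ev_single]
    exact (ev_single ρ _ m (π r)).symm

end Groth.Agent.MultConjLib
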