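import Groth.Agent.MultConjLib.Bridge
import Groth.Agent.MultConjLib.ToHom
import Groth.Agent.MultConjLib.Subgroups
import Groth.Agent.S2973
import Groth.Agent.S2979
import Groth.Agent.S1488
import Groth.Agent.ThickDeform.Basic
import Groth.Agent.GrpSchLib.ThickIso
import Groth.Agent.HomSchLib.MultFlat

/-!
# Lifting subgroups of multiplicative type along nilpotent thickenings
-/

universe u

open CategoryTheory MonoidalCategory CartesianMonoidalCategory MonObj GrpObj AlgebraicGeometry
open TensorProduct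

namespace Groth.Agent.MultConjLib

set_option backward.isDefEq.respectTransparency false

variable {R : Type u} [CommRing R] {J : Ideal R}

/-- The reduction of a nilpotent thickening. -/
theorem isThickening_mk (hJ : IsNilpotent J) :
    MoreMor.IsThickening (Spec.map (CommRingCat.ofHom (Ideal.Quotient.mk J))) :=
  ⟨IsClosedImmersion.spec_of_surjective _ Ideal.Quotient.mk_surjective,
    GrpSchLib.ThickIso.surjective_SpecMap_quotient J hJ⟩

/-- A homomorphism from a group of multiplicative type into a smooth group is an immersion if its reduction is one. -/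
theorem isImmersion_of_bc (hJ : IsNilpotent J) {H G : Over (Spec (CommRingCat.of R))} [GrpObj H] (hG : Smooth G.hom)
    (hH : SGA3x.IsMultTypeFT H) (f : H ⟶ G)
    (h : IsImmersion ((Over.pullback (Spec.map (CommRingCat.ofHom (Ideal.Quotient.mk J)))).map f).left) :
    IsImmersion f.left := by
  let jR := Spec.map (CommRingCat.ofHom (Ideal.Quotient.mk J))
  haveI := hG
  haveI : LocallyOfFiniteType f.left := by
    haveI : LocallyOfFiniteType H.hom := GrpSchLib.MultTypeLft.lft hH
    haveI : LocallyOfFiniteType (f.left ≫ G.hom) := by rw [Over.w f]; infer_instance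
    exact locallyOfFiniteType_of_comp f.left G.hom
  haveI := h
  refine ThickDeform.isImmersion_lift (f := ((Over.pullback jR).map f).left) (iX := Limits.pullback.fst H.hom jR)
    (iY := Limits.pullback.fst G.hom jR)
    (ThickDeform.isThickening_baseChange (isThickening_mk hJ) (IsPullback.of_hasPullback G.hom jR)) ?_
  refine IsPullback.of_bot ?_ ?_ (IsPullback.of_hasPullback G.hom jR)
  · rw [Over.w f, show ((Over.pullback jR).map f).left ≫ Limits.pullback.snd G.hom jR = Limits.pullback.snd H.hom jR from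
      Over.w ((Over.pullback jR).map f)]
    exact IsPullback.of_hasPullback H.hom jR
  · exact (Limits.pullback.lift_fst _ _ _).symm

/-- A subgroup of multiplicative type lifts to a subgroup of multiplicative type of a smooth group. -/
theorem exists_subgroup_lift (J : Ideal R) (hJ : IsNilpotent J)
    (G : Over (Spec (CommRingCat.of R))) [GrpObj G] (hG : Smooth G.hom)
    (H₀ : Over (Spec (CommRingCat.of (R ⧸ J)))) [GrpObj H₀] (hH₀ : IsLocDS H₀)
    (j₀ : H₀ ⟶ Red.bc (Spec.map (CommRingCat.ofHom (Ideal.Quotient.mk J))) G) [IsMonHom j₀] [IsImmersion j₀.left] :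
    ∃ (H : Over (Spec (CommRingCat.of R))) (_ : GrpObj H) (j : H ⟶ G), IsMonHom j ∧ SGA3x.IsMultTypeFT H ∧
      IsImmersion j.left ∧
      ∃ φ : Red.bc (Spec.map (CommRingCat.ofHom (Ideal.Quotient.mk J))) H ≅ H₀, IsMonHom φ.hom ∧
        φ.hom ≫ j₀ = (Over.pullback (Spec.map (CommRingCat.ofHom (Ideal.Quotient.mk J)))).map j := by
  classical
  let R₀ := R ⧸ J
  let jR : Spec (CommRingCat.of R₀) ⟶ Spec (CommRingCat.of R) := Spec.map (CommRingCat.ofHom (Ideal.Quotient.mk J))
  haveI := hG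
  haveI : LocallyOfFiniteType G.hom := inferInstance
  haveI : LocallyOfFiniteType (Red.bc jR G).hom :=
    inferInstanceAs (LocallyOfFiniteType (Limits.pullback.snd G.hom jR))
  haveI : LocallyOfFiniteType H₀.hom := by rw [← Over.w j₀]; infer_instance
  haveI := isAffineHom_of_locDS hH₀
  haveI : IsAffine H₀.left := isAffine_of_isAffineHom H₀.hom
  obtain ⟨A₀, _, _, ⟨e₀⟩⟩ := GrpSchLib.AffineHopf.exists_hopf H₀
  haveI : Algebra.FiniteType R₀ A₀ := by
    haveI : IsIso e₀.hom.hom.hom.left :=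
      ⟨e₀.inv.hom.hom.left, congrArg (fun h => h.hom.hom.left) e₀.hom_inv_id,
        congrArg (fun h => h.hom.hom.left) e₀.inv_hom_id⟩
    have h : LocallyOfFiniteType (GrpSchLib.AffineHopf.sp R₀ A₀).hom := by
      rw [← Over.w e₀.hom.hom.hom]; infer_instance
    exact RingHom.finiteType_algebraMap.mp ((HasRingHomProperty.Spec_iff (P := @LocallyOfFiniteType)).mp h)
  have hq₀ : SGA3b.IsQuasiIsotrivial R₀ A₀ := S2973.result R₀ A₀ inferInstance
    (isMultType_of_locDS R₀ A₀ (isLocDS_congr e₀.symm hH₀))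
  have hJnil : ∀ x ∈ J, IsNilpotent x := fun x hx => by
    obtain ⟨n, hn⟩ := hJ
    have := Ideal.pow_mem_pow hx n
    rw [hn, Ideal.zero_eq_bot, Ideal.mem_bot] at this
    exact ⟨n, this⟩
  obtain ⟨A, _, _, hA, ⟨e⟩⟩ := S2979.result R J hJnil A₀ hq₀
  haveI : Algebra.FiniteType R₀ (R₀ ⊗[R] A) := Algebra.FiniteType.equiv inferInstance (e.symm : A₀ ≃ₐ[R₀] R₀ ⊗[R] A)
  haveI : Algebra.FiniteType R A := finiteType_of_nilpotent J hJ A
  let H : Over (Spec (CommRingCat.of R)) := GrpSchLib.AffineHopf.sp R A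
  have hHft : SGA3x.IsMultTypeFT H := isMultTypeFT_sp (isMultType_of_quasiIsotrivial hA)
  have hHl : IsLocDS H := isLocDS_of_multTypeFT hHft
  haveI : IsAffineHom H.hom := isAffineHom_of_locDS hHl
  obtain ⟨e₁⟩ := GrpSchLib.AffineHopf.nonempty_bc_sp (R := R) R₀ A
  let ψG : Grp.mk (Red.bc jR H) ≅ Grp.mk H₀ := e₁ ≪≫ GrpSchLib.AffineHopf.spIso e.symm ≪≫ e₀
  let ψ : Red.bc jR H ≅ H₀ := ⟨ψG.hom.hom.hom, ψG.inv.hom.hom, congrArg (fun h => h.hom.hom) ψG.hom_inv_id,
    congrArg (fun h => h.hom.hom) ψG.inv_hom_id⟩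
  haveI : IsMonHom ψ.hom := ψG.hom.hom.isMonHom_hom
  let k : Red.bc jR H ⟶ Red.bc jR G := ψ.hom ≫ j₀
  haveI : IsMonHom k := inferInstanceAs (IsMonHom (ψ.hom ≫ j₀))
  -- the family of homomorphisms on the reduced base
  let S₀ : Over (Spec (CommRingCat.of R)) := Over.mk jR
  let w : H ⊗ S₀ ⟶ G := Over.homMk (k.left ≫ Limits.pullback.fst G.hom jR) (by
    show (k.left ≫ Limits.pullback.fst G.hom jR) ≫ G.hom = Limits.pullback.fst H.hom jR ≫ H.hom
    rw [Category.assoc, Limits.pullback.condition, ← Category.assoc, Limits.pullback.condition]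
    exact congrArg (· ≫ jR) (Over.w k))
  have hw : ∀ (X₀ : Over (Spec (CommRingCat.of R₀))) (a : X₀ ⟶ Red.bc jR H),
      lift (DSPtsLib.theta jR a) (Over.homMk X₀.hom rfl : (Over.map jR).obj X₀ ⟶ S₀) ≫ w =
        DSPtsLib.theta jR (a ≫ k) := by
    intro X₀ a
    refine Over.OverMorphism.ext ?_
    show (lift (DSPtsLib.theta jR a) (Over.homMk X₀.hom rfl : (Over.map jR).obj X₀ ⟶ S₀)).left ≫
      k.left ≫ Limits.pullback.fst G.hom jR = (a.left ≫ k.left) ≫ Limits.pullback.fst G.hom jR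
    rw [show (lift (DSPtsLib.theta jR a) (Over.homMk X₀.hom rfl : (Over.map jR).obj X₀ ⟶ S₀)).left = a.left from
      Limits.pullback.hom_ext
        (congrArg CommaMorphism.left (lift_fst (DSPtsLib.theta jR a) (Over.homMk X₀.hom rfl : (Over.map jR).obj X₀ ⟶ S₀)))
        ((congrArg CommaMorphism.left (lift_snd (DSPtsLib.theta jR a)
          (Over.homMk X₀.hom rfl : (Over.map jR).obj X₀ ⟶ S₀))).trans (Over.w a).symm), Category.assoc]
  have hwmul : ∀ {Y : Over (Spec (CommRingCat.of R))} (p : Y ⟶ S₀) (q q' : Y ⟶ H),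
      lift (q * q') p ≫ w = (lift q p ≫ w) * (lift q' p ≫ w) := by
    intro Y p q q'
    let X₀ : Over (Spec (CommRingCat.of R₀)) := Over.mk p.left
    let i : (Over.map jR).obj X₀ ≅ Y := Over.isoMk (Iso.refl _) (by
      show 𝟙 Y.left ≫ Y.hom = p.left ≫ jR
      rw [Category.id_comp]; exact (Over.w p).symm)
    obtain ⟨a, ha⟩ := (DSPtsLib.theta_bijective (g := jR) (H := H) (Y := X₀)).2 (i.hom ≫ q)
    obtain ⟨a', ha'⟩ := (DSPtsLib.theta_bijective (g := jR) (H := H) (Y := X₀)).2 (i.hom ≫ q')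
    have hp : (Over.homMk X₀.hom rfl : (Over.map jR).obj X₀ ⟶ S₀) = i.hom ≫ p :=
      Over.OverMorphism.ext (Category.id_comp _).symm
    have h₁ := hw X₀ a
    have h₂ := hw X₀ a'
    have h₃ := hw X₀ (a * a')
    rw [DSPtsLib.theta_mul, MonObj.mul_comp, DSPtsLib.theta_mul, ← h₁, ← h₂, ha, ha', hp, ← MonObj.comp_mul] at h₃
    simp only [← comp_lift, Category.assoc, ← MonObj.comp_mul] at h₃
    exact (cancel_epi i.hom).mp h₃
  let u₀ : PtHom (𝟙 (Spec (CommRingCat.of R))) H G R₀ :=
    { app := fun B _ _ ρ q => lift q (toS₀ J ρ) ≫ w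
      nat := fun f ρ q => by
        rw [← Category.assoc, comp_lift]
        congr 2
        refine Over.OverMorphism.ext ?_
        show Spec.map _ ≫ Spec.map _ = Spec.map _
        rw [← Spec.map_comp]
        rfl
      mul := fun ρ q q' => hwmul _ q q' }
  obtain ⟨_, _, _, x, hx, -, -, j', hj'⟩ := exists_univ_int hHl (𝟙 (Spec (CommRingCat.of R)))
  obtain ⟨u, hu⟩ := exists_hom_lift_nilpotent hx hj' ((S1488.result G.hom).mp hG).2 J hJ u₀
  obtain ⟨f, hfm, hf⟩ := exists_hom_of_ptHom u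
  have hfw : fst H S₀ ≫ f = w := by
    haveI : IsAffine H.left := isAffine_of_isAffineHom H.hom
    haveI : IsAffine (H ⊗ S₀).left := by
      show IsAffine (Limits.pullback H.hom jR)
      exact isAffine_of_isAffineHom (Limits.pullback.snd H.hom jR)
    obtain ⟨B, _, _, ⟨τ⟩⟩ := exists_sp_iso (H ⊗ S₀)
    obtain ⟨ρ, hρ⟩ := exists_algHom_of_toS₀ J τ (snd H S₀)
    have h := congrArg (fun v => PtHom.app v B ρ (τ.hom ≫ fst H S₀)) hu
    rw [← hf] at h
    change (τ.hom ≫ fst H S₀) ≫ f = lift (τ.hom ≫ fst H S₀) (toS₀ J ρ) ≫ w at h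
    rw [← hρ, ← comp_lift, lift_fst_snd, Category.comp_id, Category.assoc] at h
    exact (cancel_epi τ.hom).mp h
  have hbc : (Over.pullback jR).map f = k := by
    refine Over.OverMorphism.ext (Limits.pullback.hom_ext ?_ ?_)
    · exact (Limits.pullback.lift_fst _ _ _).trans (congrArg CommaMorphism.left hfw)
    · exact (Limits.pullback.lift_snd _ _ _).trans (Over.w k).symm
  haveI : IsMonHom f := hfm
  haveI : IsImmersion k.left := by
    haveI : IsIso ψ.hom.left := inferInstanceAs (IsIso ((Over.forget _).map ψ.hom))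
    show IsImmersion (ψ.hom.left ≫ j₀.left)
    infer_instance
  haveI : IsImmersion f.left := isImmersion_of_bc hJ hG hHft f (by rw [hbc]; infer_instance)
  exact ⟨H, inferInstance, f, hfm, hHft, ‹_›, ψ, ‹_›, hbc.symm⟩

end Groth.Agent.MultConjLib
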